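import Mathlib

/-!
# The finitely many numerical possibilities for the classes of elements of order three
-/

set_option autoImplicit false
set_option maxRecDepth 100000
set_option maxHeartbeats 1000000
set_option synthInstance.maxSize 20000
set_option synthInstance.maxHeartbeats 200000

namespace CfsgLib.M12Nse

/-- weight, weighted involutions, orbit, orbit involutions, mark and marked orbit -/
abbrev St : Type := ℕ × ℕ × ℕ × ℕ × ℕ × ℕ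

/-- the possible classes, by the exponent of two in the normaliser -/
def optsAb : ℕ → List St
  | 2 => [
    (4, 60, 4, 60, 0, 0), (4, 252, 4, 252, 0, 0), (8, 120, 2, 30, 0, 2), (8, 312, 2, 78, 0, 2),
    (16, 48, 4, 12, 0, 0), (16, 240, 4, 60, 0, 0), (16, 432, 4, 108, 0, 0), (32, 96, 2, 6, 1, 2),
    (32, 288, 2, 18, 0, 2), (64, 0, 4, 0, 0, 0)]
  | 4 => [
    (4, 60, 4, 60, 0, 4), (4, 60, 16, 240, 0, 0), (4, 252, 4, 252, 0, 4),
    (4, 252, 16, 1008, 0, 0), (8, 120, 2, 30, 0, 2), (8, 120, 8, 120, 0, 8),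
    (8, 312, 2, 78, 0, 2), (8, 312, 8, 312, 0, 8), (16, 48, 4, 12, 0, 4), (16, 48, 16, 48, 0, 0),
    (16, 240, 4, 60, 0, 4), (16, 240, 16, 240, 0, 0), (16, 432, 4, 108, 0, 4),
    (16, 432, 16, 432, 0, 0), (32, 96, 8, 24, 1, 8), (32, 288, 8, 72, 0, 8), (64, 0, 16, 0, 0, 0)]
  | 6 => [
    (4, 60, 4, 60, 0, 4), (4, 60, 16, 240, 0, 16), (4, 252, 4, 252, 0, 4),
    (4, 252, 16, 1008, 0, 16), (8, 120, 8, 120, 0, 8), (8, 312, 8, 312, 0, 8),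
    (16, 48, 16, 48, 0, 16), (16, 240, 16, 240, 0, 16), (16, 432, 16, 432, 0, 16)]
  | _ => []

/-- the possible sums, by the exponent of two in the normaliser -/
def reachAb : ℕ → List St
  | 2 => [
    (0, 0, 0, 0, 0, 0), (4, 60, 4, 60, 0, 0), (4, 252, 4, 252, 0, 0), (8, 120, 2, 30, 0, 2),
    (8, 120, 8, 120, 0, 0), (8, 312, 2, 78, 0, 2), (8, 312, 8, 312, 0, 0), (12, 180, 6, 90, 0, 2),
    (12, 180, 12, 180, 0, 0), (12, 372, 6, 138, 0, 2), (12, 372, 6, 282, 0, 2),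
    (12, 372, 12, 372, 0, 0), (16, 48, 4, 12, 0, 0), (16, 240, 4, 60, 0, 0),
    (16, 240, 4, 60, 0, 4), (16, 240, 10, 150, 0, 2), (16, 240, 16, 240, 0, 0),
    (16, 432, 4, 108, 0, 0), (16, 432, 4, 108, 0, 4), (16, 432, 10, 198, 0, 2),
    (16, 432, 10, 342, 0, 2), (16, 432, 16, 432, 0, 0), (20, 108, 8, 72, 0, 0),
    (20, 300, 8, 120, 0, 0), (20, 300, 8, 120, 0, 4), (20, 300, 8, 264, 0, 0),
    (20, 300, 14, 210, 0, 2), (20, 300, 20, 300, 0, 0), (24, 168, 6, 42, 0, 2),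
    (24, 168, 12, 132, 0, 0), (24, 360, 6, 90, 0, 2), (24, 360, 6, 90, 0, 6),
    (24, 360, 12, 180, 0, 0), (24, 360, 12, 180, 0, 4), (24, 360, 12, 324, 0, 0),
    (24, 360, 18, 270, 0, 2), (24, 360, 24, 360, 0, 0), (28, 228, 10, 102, 0, 2),
    (28, 228, 16, 192, 0, 0), (28, 420, 10, 150, 0, 2), (28, 420, 10, 150, 0, 6),
    (28, 420, 10, 294, 0, 2), (28, 420, 16, 240, 0, 0), (28, 420, 16, 240, 0, 4),
    (28, 420, 16, 384, 0, 0), (28, 420, 22, 330, 0, 2), (32, 96, 2, 6, 1, 2),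
    (32, 96, 8, 24, 0, 0), (32, 288, 2, 18, 0, 2), (32, 288, 8, 72, 0, 0), (32, 288, 8, 72, 0, 4),
    (32, 288, 14, 162, 0, 2), (32, 288, 20, 252, 0, 0), (36, 156, 6, 66, 1, 2),
    (36, 156, 12, 84, 0, 0), (36, 348, 6, 78, 0, 2), (36, 348, 6, 258, 1, 2),
    (36, 348, 12, 132, 0, 0), (36, 348, 12, 132, 0, 4), (36, 348, 12, 276, 0, 0),
    (36, 348, 18, 222, 0, 2), (36, 348, 24, 312, 0, 0), (40, 216, 4, 36, 1, 4),
    (40, 216, 10, 54, 0, 2), (40, 216, 10, 126, 1, 2), (40, 216, 16, 144, 0, 0),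
    (40, 408, 4, 48, 0, 4), (40, 408, 4, 84, 1, 4), (40, 408, 10, 102, 0, 2),
    (40, 408, 10, 102, 0, 6), (40, 408, 10, 138, 0, 2), (40, 408, 10, 318, 1, 2),
    (40, 408, 16, 192, 0, 0), (40, 408, 16, 192, 0, 4), (40, 408, 16, 336, 0, 0),
    (40, 408, 22, 282, 0, 2), (44, 276, 8, 96, 1, 4), (44, 276, 14, 114, 0, 2),
    (44, 276, 14, 186, 1, 2), (44, 276, 20, 204, 0, 0), (48, 144, 6, 18, 1, 2),
    (48, 144, 12, 36, 0, 0), (48, 336, 6, 30, 0, 2), (48, 336, 6, 66, 1, 2),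
    (48, 336, 6, 66, 1, 6), (48, 336, 12, 84, 0, 0), (48, 336, 12, 84, 0, 4),
    (48, 336, 12, 156, 1, 4), (48, 336, 18, 174, 0, 2), (48, 336, 18, 246, 1, 2),
    (48, 336, 24, 264, 0, 0), (52, 204, 10, 78, 1, 2), (52, 204, 16, 96, 0, 0),
    (52, 396, 10, 90, 0, 2), (52, 396, 10, 126, 1, 2), (52, 396, 10, 126, 1, 6),
    (52, 396, 10, 270, 1, 2), (52, 396, 16, 144, 0, 0), (52, 396, 16, 144, 0, 4),
    (52, 396, 16, 216, 1, 4), (52, 396, 16, 288, 0, 0), (52, 396, 22, 234, 0, 2),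
    (52, 396, 22, 306, 1, 2), (56, 264, 8, 48, 1, 4), (56, 264, 14, 66, 0, 2),
    (56, 264, 14, 138, 1, 2), (56, 264, 20, 156, 0, 0), (60, 324, 12, 108, 1, 4),
    (60, 324, 18, 126, 0, 2), (60, 324, 18, 198, 1, 2), (60, 324, 24, 216, 0, 0),
    (64, 0, 4, 0, 0, 0), (64, 192, 4, 12, 2, 4), (64, 192, 10, 30, 1, 2), (64, 192, 16, 48, 0, 0),
    (64, 384, 4, 24, 1, 4), (64, 384, 10, 42, 0, 2), (64, 384, 10, 78, 1, 2),
    (64, 384, 10, 78, 1, 6), (64, 384, 16, 96, 0, 0), (64, 384, 16, 96, 0, 4),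
    (64, 384, 16, 168, 1, 4), (64, 384, 22, 186, 0, 2), (64, 384, 22, 258, 1, 2),
    (68, 60, 8, 60, 0, 0), (68, 252, 8, 72, 2, 4), (68, 252, 8, 252, 0, 0),
    (68, 252, 14, 90, 1, 2), (68, 252, 20, 108, 0, 0), (72, 120, 6, 30, 0, 2),
    (72, 120, 12, 120, 0, 0), (72, 312, 6, 42, 2, 6), (72, 312, 6, 78, 0, 2),
    (72, 312, 12, 60, 1, 4), (72, 312, 12, 132, 2, 4), (72, 312, 12, 312, 0, 0),
    (72, 312, 18, 78, 0, 2), (72, 312, 18, 150, 1, 2), (72, 312, 24, 168, 0, 0),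
    (76, 180, 10, 90, 0, 2), (76, 180, 16, 180, 0, 0), (76, 372, 10, 102, 2, 6),
    (76, 372, 10, 138, 0, 2), (76, 372, 10, 282, 0, 2), (76, 372, 16, 120, 1, 4),
    (76, 372, 16, 192, 2, 4), (76, 372, 16, 372, 0, 0), (76, 372, 22, 138, 0, 2),
    (76, 372, 22, 210, 1, 2), (80, 48, 8, 12, 0, 0), (80, 240, 8, 24, 2, 4),
    (80, 240, 8, 60, 0, 0), (80, 240, 8, 60, 0, 4), (80, 240, 14, 42, 1, 2),
    (80, 240, 14, 150, 0, 2), (80, 240, 20, 60, 0, 0), (80, 240, 20, 240, 0, 0),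
    (80, 432, 8, 36, 1, 4), (80, 432, 8, 72, 2, 4), (80, 432, 8, 72, 2, 8),
    (80, 432, 8, 108, 0, 0), (80, 432, 8, 108, 0, 4), (80, 432, 14, 54, 0, 2),
    (80, 432, 14, 90, 1, 2), (80, 432, 14, 90, 1, 6), (80, 432, 14, 162, 2, 6),
    (80, 432, 14, 198, 0, 2), (80, 432, 14, 342, 0, 2), (80, 432, 20, 108, 0, 0),
    (80, 432, 20, 108, 0, 4), (80, 432, 20, 180, 1, 4), (80, 432, 20, 252, 2, 4),
    (80, 432, 20, 432, 0, 0), (80, 432, 26, 198, 0, 2), (80, 432, 26, 270, 1, 2)]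
  | 4 => [
    (0, 0, 0, 0, 0, 0), (4, 60, 4, 60, 0, 4), (4, 60, 16, 240, 0, 0), (4, 252, 4, 252, 0, 4),
    (4, 252, 16, 1008, 0, 0), (8, 120, 2, 30, 0, 2), (8, 120, 8, 120, 0, 8),
    (8, 120, 20, 300, 0, 4), (8, 312, 2, 78, 0, 2), (8, 312, 8, 312, 0, 8),
    (8, 312, 20, 492, 0, 4), (8, 312, 20, 1068, 0, 4), (12, 180, 6, 90, 0, 6),
    (12, 180, 12, 180, 0, 12), (12, 180, 18, 270, 0, 2), (12, 180, 24, 360, 0, 8),
    (12, 372, 6, 138, 0, 6), (12, 372, 6, 282, 0, 6), (12, 372, 12, 372, 0, 12),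
    (12, 372, 18, 318, 0, 2), (12, 372, 18, 1038, 0, 2), (12, 372, 24, 552, 0, 8),
    (12, 372, 24, 1128, 0, 8), (16, 48, 4, 12, 0, 4), (16, 48, 16, 48, 0, 0),
    (16, 240, 4, 60, 0, 4), (16, 240, 10, 150, 0, 10), (16, 240, 16, 240, 0, 0),
    (16, 240, 16, 240, 0, 16), (16, 240, 22, 330, 0, 6), (16, 432, 4, 108, 0, 4),
    (16, 432, 10, 198, 0, 10), (16, 432, 10, 342, 0, 10), (16, 432, 16, 432, 0, 0),
    (16, 432, 16, 432, 0, 16), (16, 432, 22, 378, 0, 6), (16, 432, 22, 522, 0, 6),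
    (16, 432, 22, 1098, 0, 6), (20, 108, 8, 72, 0, 8), (20, 108, 20, 108, 0, 4),
    (20, 108, 20, 252, 0, 4), (20, 300, 8, 120, 0, 8), (20, 300, 8, 264, 0, 8),
    (20, 300, 14, 210, 0, 14), (20, 300, 20, 300, 0, 4), (20, 300, 20, 300, 0, 20),
    (20, 300, 20, 1020, 0, 4), (20, 300, 26, 390, 0, 10), (24, 168, 6, 42, 0, 6),
    (24, 168, 12, 132, 0, 12), (24, 168, 18, 78, 0, 2), (24, 168, 24, 168, 0, 8),
    (24, 168, 24, 312, 0, 8), (24, 360, 6, 90, 0, 6), (24, 360, 12, 180, 0, 12),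
    (24, 360, 12, 324, 0, 12), (24, 360, 18, 126, 0, 2), (24, 360, 18, 270, 0, 2),
    (24, 360, 18, 270, 0, 18), (24, 360, 24, 360, 0, 8), (24, 360, 24, 360, 0, 24),
    (24, 360, 24, 504, 0, 8), (24, 360, 24, 1080, 0, 8), (28, 228, 10, 102, 0, 10),
    (28, 228, 16, 192, 0, 16), (28, 228, 22, 138, 0, 6), (28, 228, 22, 282, 0, 6),
    (28, 420, 10, 150, 0, 10), (28, 420, 10, 294, 0, 10), (28, 420, 16, 240, 0, 16),
    (28, 420, 16, 384, 0, 16), (28, 420, 22, 186, 0, 6), (28, 420, 22, 330, 0, 6),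
    (28, 420, 22, 330, 0, 22), (28, 420, 22, 1050, 0, 6), (32, 96, 8, 24, 0, 8),
    (32, 96, 8, 24, 1, 8), (32, 96, 20, 60, 0, 4), (32, 288, 8, 72, 0, 8),
    (32, 288, 14, 162, 0, 14), (32, 288, 20, 108, 0, 4), (32, 288, 20, 252, 0, 4),
    (32, 288, 20, 252, 0, 20), (32, 288, 26, 198, 0, 10), (32, 288, 26, 342, 0, 10),
    (36, 156, 12, 84, 0, 12), (36, 156, 12, 84, 1, 12), (36, 156, 24, 120, 0, 8),
    (36, 156, 24, 264, 0, 8), (36, 156, 24, 264, 1, 8), (36, 348, 12, 132, 0, 12),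
    (36, 348, 12, 276, 0, 12), (36, 348, 12, 276, 1, 12), (36, 348, 18, 222, 0, 18),
    (36, 348, 24, 168, 0, 8), (36, 348, 24, 312, 0, 8), (36, 348, 24, 312, 0, 24),
    (36, 348, 24, 1032, 0, 8), (36, 348, 24, 1032, 1, 8), (40, 216, 10, 54, 0, 10),
    (40, 216, 10, 54, 1, 10), (40, 216, 16, 144, 0, 16), (40, 216, 16, 144, 1, 16),
    (40, 216, 22, 90, 0, 6), (40, 408, 10, 102, 0, 10), (40, 408, 10, 102, 1, 10),
    (40, 408, 16, 192, 0, 16), (40, 408, 16, 336, 0, 16), (40, 408, 16, 336, 1, 16),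
    (40, 408, 22, 138, 0, 6), (40, 408, 22, 282, 0, 6), (40, 408, 22, 282, 0, 22),
    (44, 276, 14, 114, 0, 14), (44, 276, 14, 114, 1, 14), (44, 276, 20, 204, 0, 20),
    (44, 276, 20, 204, 1, 20), (44, 276, 26, 150, 0, 10), (44, 276, 26, 294, 0, 10),
    (44, 276, 26, 294, 1, 10), (48, 144, 12, 36, 0, 12), (48, 144, 12, 36, 1, 12),
    (48, 144, 24, 72, 0, 8), (48, 144, 24, 72, 1, 8), (48, 336, 12, 84, 0, 12),
    (48, 336, 12, 84, 1, 12), (48, 336, 18, 174, 0, 18), (48, 336, 18, 174, 1, 18),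
    (48, 336, 24, 120, 0, 8), (48, 336, 24, 264, 0, 8), (48, 336, 24, 264, 0, 24),
    (48, 336, 24, 264, 1, 8), (48, 336, 24, 264, 1, 24), (52, 204, 16, 96, 0, 16),
    (52, 204, 16, 96, 1, 16), (52, 396, 16, 144, 0, 16), (52, 396, 16, 144, 1, 16),
    (52, 396, 16, 288, 0, 16), (52, 396, 16, 288, 1, 16), (52, 396, 22, 234, 0, 22),
    (52, 396, 22, 234, 1, 22), (56, 264, 14, 66, 0, 14), (56, 264, 14, 66, 1, 14),
    (56, 264, 20, 156, 0, 20), (56, 264, 20, 156, 1, 20), (56, 264, 26, 102, 0, 10),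
    (56, 264, 26, 102, 1, 10), (60, 324, 18, 126, 0, 18), (60, 324, 18, 126, 1, 18),
    (60, 324, 24, 216, 0, 24), (60, 324, 24, 216, 1, 24), (64, 0, 16, 0, 0, 0),
    (64, 192, 16, 48, 0, 16), (64, 192, 16, 48, 1, 16), (64, 192, 16, 48, 2, 16),
    (64, 384, 16, 96, 0, 16), (64, 384, 16, 96, 1, 16), (64, 384, 22, 186, 0, 22),
    (64, 384, 22, 186, 1, 22), (68, 60, 20, 60, 0, 4), (68, 252, 20, 108, 0, 20),
    (68, 252, 20, 108, 1, 20), (68, 252, 20, 108, 2, 20), (68, 252, 20, 252, 0, 4),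
    (72, 120, 18, 30, 0, 2), (72, 120, 24, 120, 0, 8), (72, 312, 18, 78, 0, 2),
    (72, 312, 18, 78, 0, 18), (72, 312, 18, 78, 1, 18), (72, 312, 18, 78, 2, 18),
    (72, 312, 24, 168, 0, 24), (72, 312, 24, 168, 1, 24), (72, 312, 24, 168, 2, 24),
    (72, 312, 24, 312, 0, 8), (76, 180, 22, 90, 0, 6), (76, 372, 22, 138, 0, 6),
    (76, 372, 22, 138, 0, 22), (76, 372, 22, 138, 1, 22), (76, 372, 22, 138, 2, 22),
    (76, 372, 22, 282, 0, 6), (80, 48, 20, 12, 0, 4), (80, 240, 20, 60, 0, 4),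
    (80, 240, 20, 60, 0, 20), (80, 240, 20, 60, 1, 20), (80, 240, 20, 60, 2, 20),
    (80, 240, 26, 150, 0, 10), (80, 432, 20, 108, 0, 4), (80, 432, 20, 108, 0, 20),
    (80, 432, 20, 108, 1, 20), (80, 432, 20, 108, 2, 20), (80, 432, 26, 198, 0, 10),
    (80, 432, 26, 198, 0, 26), (80, 432, 26, 198, 1, 26), (80, 432, 26, 198, 2, 26),
    (80, 432, 26, 342, 0, 10)]
  | 6 => [
    (0, 0, 0, 0, 0, 0), (4, 60, 4, 60, 0, 4), (4, 60, 16, 240, 0, 16), (4, 252, 4, 252, 0, 4),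
    (4, 252, 16, 1008, 0, 16), (8, 120, 8, 120, 0, 8), (8, 120, 20, 300, 0, 20),
    (8, 312, 8, 312, 0, 8), (8, 312, 20, 492, 0, 20), (8, 312, 20, 1068, 0, 20),
    (12, 180, 12, 180, 0, 12), (12, 180, 24, 360, 0, 24), (12, 372, 12, 372, 0, 12),
    (12, 372, 24, 552, 0, 24), (12, 372, 24, 1128, 0, 24), (16, 48, 16, 48, 0, 16),
    (16, 240, 16, 240, 0, 16), (16, 432, 16, 432, 0, 16), (20, 108, 20, 108, 0, 20),
    (20, 300, 20, 300, 0, 20), (24, 168, 24, 168, 0, 24), (24, 360, 24, 360, 0, 24)]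
  | _ => []

/-- the possible classes with centralizer of three-part nine -/
def optsNa : List (ℕ × ℕ) := [(48, 144), (24, 360), (12, 180)]

/-- their possible sums -/
def reachNa : List (ℕ × ℕ) := [(0, 0), (12, 180), (24, 360), (48, 144), (60, 324)]

theorem reachAb_closed : ∀ b ∈ [2, 4, 6], (0 : St) ∈ reachAb b ∧ ∀ s ∈ reachAb b,
    ∀ o ∈ optsAb b, (s + o).1 ≤ 80 ∧ (s + o).2.1 ≤ 432 ∧ (s + o).2.2.1 ≤ 26 →
      s + o ∈ reachAb b := by decide +kernel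

theorem reachAb_final : ∀ b ∈ [2, 4, 6], ∀ s ∈ reachAb b, s.1 = 80 → s.2.1 = 432 → s.2.2.1 = 26 →
    s.2.2.2.1 % 27 = 0 → s.2.2.2.2.1 ≠ 0 ∧ s.2.2.2.2.2 < 8 := by decide +kernel

theorem optsAb_mem : ∀ b ∈ [2, 4, 6], ∀ i ∈ List.range 5, ∀ s ∈ List.range 5,
    ∀ I ∈ List.range 136, s ≤ i → s < b → (i - s) % 2 = 0 → I % 3 = 0 → 2 ^ i ∣ I + 1 →
      I ≤ 9 * (2 ^ i - 1) → 2 ^ (6 - i) * I ≤ 432 → 2 ^ (b - s) ≤ 26 →
      (2 ^ (6 - i), 2 ^ (6 - i) * I, 2 ^ (b - s), 2 ^ (b - s) * I,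
        (if i = 1 ∧ I = 3 then 1 else 0), (if 0 < s then 2 ^ (b - s) else 0)) ∈ optsAb b := by
  decide +kernel

theorem reachNa_closed : ((0, 0) : ℕ × ℕ) ∈ reachNa ∧ ∀ s ∈ reachNa, ∀ o ∈ optsNa,
    (s + o).1 ≤ 80 ∧ (s + o).2 ≤ 432 → s + o ∈ reachNa := by decide +kernel

theorem optsNa_mem : ∀ i ∈ List.range 5, ∀ I ∈ List.range 46, I % 3 = 0 → 2 ^ i ∣ I + 1 →
    I ≤ 3 * (2 ^ i - 1) → 2 ^ (6 - i) * 3 ≤ 80 →
      (2 ^ (6 - i) * 3, 2 ^ (6 - i) * 3 * I) ∈ optsNa ∧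
      (2 ^ (6 - i) * 3 ≤ 48 → 2 ^ (6 - i) * 3 * I ≤ 144 → i = 2 ∧ I = 3) := by decide +kernel

theorem reachNa_final : ∀ i ∈ List.range 5, ∀ I ∈ List.range 136, I % 3 = 0 → 2 ^ i ∣ I + 1 →
    I ≤ 9 * (2 ^ i - 1) → ∀ s ∈ reachNa, ∀ e ∈ [1, 2],
      e * 2 ^ (6 - i) + s.1 = 80 → e * (2 ^ (6 - i) * I) + s.2 = 432 →
      i = 1 ∧ I = 9 ∧ e = 1 ∧ s = (48, 144) := by decide +kernel

/-- A sum of admissible terms within the bounds is one of the possible sums. -/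
theorem sum_mem {ι β : Type*} [AddCommMonoid β] (S opts : List β) (ok : β → Prop) (h0 : 0 ∈ S)
    (hdown : ∀ a b, ok (a + b) → ok a) (hcl : ∀ s ∈ S, ∀ o ∈ opts, ok (s + o) → s + o ∈ S)
    (f : ι → β) (T : Finset ι) (hf : ∀ c ∈ T, f c ∈ opts) (hok : ok (∑ c ∈ T, f c)) :
    ∑ c ∈ T, f c ∈ S := by
  classical
  induction T using Finset.induction_on with
  | empty => simpa using h0
  | insert a T ha ih =>
    rw [Finset.sum_insert ha, add_comm] at hok ⊢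
    exact hcl _ (ih (fun c hc => hf c (Finset.mem_insert_of_mem hc)) (hdown _ _ hok)) _
      (hf a (Finset.mem_insert_self a T)) hok

end CfsgLib.M12Nse
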