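import Cfsg.Agent.Lib.M12Nse.Basic
import Cfsg.Agent.Lib.M12Nse.Arith

/-!
# The Sylow three-subgroup is not abelian

Classes of elements of order three would be orbits of its normaliser, and none of the finitely many
numerical possibilities for them survives.
-/

set_option autoImplicit false
set_option linter.unusedSectionVars false
set_option linter.style.haveILetI false
set_option maxHeartbeats 1000000

namespace CfsgLib.M12Nse

universe u

variable {G : Type u} [Group G] [Finite G]

/-- The fixed points of a `p`-group acting by conjugation on an invariant subgroup. -/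
theorem card_modEq_fixed {p : ℕ} [Fact p.Prime] {R P : Subgroup G} (hR : IsPGroup p R)
    (h : ∀ r ∈ R, ∀ x ∈ P, r * x * r⁻¹ ∈ P) :
    Nat.card P ≡ Nat.card {x : G // x ∈ P ∧ ∀ r ∈ R, r * x = x * r} [MOD p] := by
  letI : MulAction R P :=
    { smul := fun q g => ⟨(q : G) * g.1 * (q : G)⁻¹, h q q.2 g g.2⟩
      one_smul := fun g => Subtype.ext (show (1 : G) * g.1 * (1 : G)⁻¹ = g.1 by simp)
      mul_smul := fun q r g => Subtype.ext
        (show (q : G) * r * g.1 * ((q : G) * r)⁻¹ = q * (r * g.1 * (r : G)⁻¹) * (q : G)⁻¹ by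
          group) }
  refine (hR.card_modEq_card_fixedPoints _).trans ?_
  rw [Nat.card_congr (α := MulAction.fixedPoints R P)
    (β := {x : G // x ∈ P ∧ ∀ r ∈ R, r * x = x * r})
    ⟨fun g => ⟨g.1.1, g.1.2, fun r hr => mul_inv_eq_iff_eq_mul.1
        (congrArg Subtype.val (g.2 ⟨r, hr⟩) :)⟩,
      fun g => ⟨⟨g.1, g.2.1⟩, fun q => Subtype.ext
        (show (q : G) * g.1 * (q : G)⁻¹ = g.1 from mul_inv_eq_iff_eq_mul.2 (g.2.2 q q.2))⟩,
      fun _ => rfl, fun _ => rfl⟩]

namespace Facts

variable (F : Facts G)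
include F

theorem card_P (P : Sylow 3 G) : Nat.card (P : Subgroup G) = 27 :=
  haveI : Fact (Nat.Prime 3) := ⟨Nat.prime_three⟩
  F.card_sylow 3 (a := 3) (m := 3520) (by norm_num) (by norm_num) P

theorem mem_P_order (P : Sylow 3 G) {y : G} (hy : y ∈ (P : Subgroup G)) (h1 : y ≠ 1) :
    orderOf y = 3 := by
  have hd := (P : Subgroup G).orderOf_dvd_natCard hy
  rw [F.card_P P] at hd
  obtain ⟨k, hk, he⟩ := (Nat.dvd_prime_pow Nat.prime_three).1 (show orderOf y ∣ 3 ^ 3 from hd)
  have := F.orders y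
  rw [he] at this ⊢
  interval_cases k
  · exact absurd (orderOf_eq_one_iff.1 (by rw [he]; norm_num)) h1
  · norm_num
  · norm_num at this
  · norm_num at this

theorem exists_conj_mem (P : Sylow 3 G) {y : G} (hy : orderOf y = 3) :
    ∃ g : G, g * y * g⁻¹ ∈ (P : Subgroup G) := by
  haveI : Fact (Nat.Prime 3) := ⟨Nat.prime_three⟩
  obtain ⟨T, hT⟩ := (IsPGroup.of_card (n := 1)
    (show Nat.card (Subgroup.zpowers y) = 3 ^ 1 by rw [Nat.card_zpowers, hy, pow_one])).exists_le_sylow
  obtain ⟨c, hc⟩ := MulAction.exists_smul_eq G T P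
  refine ⟨c, ?_⟩
  rw [← hc, Sylow.smul_def]
  exact Subgroup.mem_map_of_mem (MulAut.conj c).toMonoidHom (hT (Subgroup.mem_zpowers y))

/-- The order of the normaliser of a Sylow three-subgroup. -/
theorem card_normalizer (P : Sylow 3 G) :
    ∃ b ∈ [0, 2, 4, 6], Nat.card (Subgroup.normalizer ((P : Subgroup G) : Set G)) = 27 * 2 ^ b := by
  haveI : Fact (Nat.Prime 3) := ⟨Nat.prime_three⟩
  set N := Subgroup.normalizer ((P : Subgroup G) : Set G) with hN
  have h27 : 27 ∣ Nat.card N := F.card_P P ▸ Subgroup.card_dvd_of_le Subgroup.le_normalizer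
  have hq : ∀ q, q = 5 ∨ q = 11 → ¬ q ∣ Nat.card N := by
    intro q hq hd
    haveI : Fact (Nat.Prime q) := ⟨by rcases hq with rfl | rfl <;> norm_num⟩
    obtain ⟨g, hg⟩ := exists_prime_orderOf_dvd_card' q hd
    rw [← Subgroup.orderOf_coe] at hg
    have hR : IsPGroup q (Subgroup.zpowers (g : G)) :=
      IsPGroup.of_card (n := 1) (by rw [Nat.card_zpowers, hg, pow_one])
    have hf := card_modEq_fixed hR (P := (P : Subgroup G)) fun r hr x hx =>
      (Subgroup.mem_normalizer_iff.1 ((Subgroup.zpowers_le.2 g.2) hr) x).1 hx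
    rw [F.card_P P] at hf
    haveI : Subsingleton {x : G // x ∈ (P : Subgroup G) ∧ ∀ r ∈ Subgroup.zpowers (g : G),
        r * x = x * r} := by
      refine ⟨fun a b => ?_⟩
      suffices ∀ c : {x : G // x ∈ (P : Subgroup G) ∧ ∀ r ∈ Subgroup.zpowers (g : G),
          r * x = x * r}, c.1 = 1 from Subtype.ext ((this a).trans (this b).symm)
      intro c
      by_contra hc
      have h3 := F.mem_P_order P c.2.1 hc
      have := F.mul_order (c.2.2 _ (Subgroup.mem_zpowers _)) (by
        rw [h3, hg]; rcases hq with rfl | rfl <;> norm_num)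
      rw [h3, hg] at this
      rcases hq with rfl | rfl <;> simp at this
    have h1 : Nat.card {x : G // x ∈ (P : Subgroup G) ∧ ∀ r ∈ Subgroup.zpowers (g : G),
        r * x = x * r} ≤ 1 := Finite.card_le_one_iff_subsingleton.2 inferInstance
    rw [Nat.ModEq] at hf
    rcases hq with rfl | rfl <;> omega
  have hd : Nat.card N ∣ 27 * 64 * (5 * 11) := by
    have := N.card_subgroup_dvd_card
    rw [F.card] at this
    simpa using this
  have hd' : Nat.card N ∣ 27 * 64 := by
    refine Nat.Coprime.dvd_of_dvd_mul_right (Nat.Coprime.mul_right ?_ ?_) hd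
    · exact ((Nat.Prime.coprime_iff_not_dvd (by norm_num)).2 (hq 5 (Or.inl rfl))).symm
    · exact ((Nat.Prime.coprime_iff_not_dvd (by norm_num)).2 (hq 11 (Or.inr rfl))).symm
  obtain ⟨r, hr⟩ := h27
  rw [hr] at hd'
  obtain ⟨b, hb, rfl⟩ := (Nat.dvd_prime_pow Nat.prime_two).1
    (show r ∣ 2 ^ 6 from Nat.dvd_of_mul_dvd_mul_left (by norm_num) hd')
  refine ⟨b, ?_, hr⟩
  have hn3 : Nat.card (Sylow 3 G) ≡ 1 [MOD 3] := card_sylow_modEq_one 3 G
  have hidx := Subgroup.index_mul_card N
  rw [hr, F.card] at hidx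
  rw [Sylow.card_eq_index_normalizer P] at hn3
  change N.index % 3 = 1 % 3 at hn3
  interval_cases b <;> norm_num at hidx ⊢ <;> omega

/-- No element of order three of an abelian Sylow subgroup is central in its normaliser. -/
theorem no_central (P : Sylow 3 G) (hab : IsMulCommutative (P : Subgroup G)) {y : G}
    (hyP : y ∈ (P : Subgroup G)) (hy1 : y ≠ 1) :
    ¬ Subgroup.normalizer ((P : Subgroup G) : Set G) ≤ cen y := by
  intro hle
  haveI : Fact (Nat.Prime 3) := ⟨Nat.prime_three⟩
  haveI := F.simple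
  haveI := hab
  letI : CommGroup (P : Subgroup G) :=
    { (inferInstance : Group (P : Subgroup G)) with mul_comm := fun a b => mul_comm' a b }
  have hkey : ∀ (k : ℕ) (g₀ : G), g₀⁻¹ * y ^ k * g₀ ∈ (P : Subgroup G) →
      g₀⁻¹ * y ^ k * g₀ = y ^ k := by
    intro k g₀ hk
    obtain ⟨n, hn, hne⟩ := Sylow.conj_eq_normalizer_conj_of_mem P (y ^ k) g₀ (pow_mem hyP k) hk
    rw [hne, mul_assoc, ← ((show Commute n y from mem_cen.1 (hle hn)).pow_right k).eq,
      inv_mul_cancel_left]
  have hrel : (MonoidHom.id (P : Subgroup G)).transfer y =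
      (MonoidHom.id (P : Subgroup G)) ⟨y ^ (P : Subgroup G).index, _⟩ :=
    MonoidHom.transfer_eq_pow (MonoidHom.id (P : Subgroup G)) y hkey
  have hidx : (P : Subgroup G).index = 3520 := by
    have := (P : Subgroup G).card_mul_index
    rw [F.card_P P, F.card] at this
    omega
  have hne : (MonoidHom.id (P : Subgroup G)).transfer y ≠ 1 := by
    rw [hrel]
    intro h
    have h' : y ^ (P : Subgroup G).index = 1 := congrArg Subtype.val h
    have hd := orderOf_dvd_of_pow_eq_one h'
    rw [F.mem_P_order P hyP hy1, hidx] at hd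
    norm_num at hd
  rcases IsSimpleGroup.eq_bot_or_eq_top_of_normal (MonoidHom.id (P : Subgroup G)).transfer.ker
    inferInstance with h | h
  · have := Nat.card_le_card_of_injective _ ((MonoidHom.ker_eq_bot_iff _).1 h)
    rw [F.card, F.card_P P] at this
    omega
  · exact hne (MonoidHom.mem_ker.1 (h ▸ Subgroup.mem_top y))

/-- The sum of the numbers of involutions over an abelian Sylow subgroup. -/
theorem burnside_mod (P : Sylow 3 G) [Fintype G]
    [DecidablePred fun x : G => x ∈ (P : Subgroup G)] :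
    27 ∣ ∑ q ∈ Finset.univ.filter (fun x : G => x ∈ (P : Subgroup G)), nI q := by
  classical
  letI : MulAction (P : Subgroup G) {g : G // orderOf g = 2} :=
    { smul := fun q g => ⟨(q : G) * g.1 * (q : G)⁻¹, by rw [ord_conj]; exact g.2⟩
      one_smul := fun g => Subtype.ext (show (1 : G) * g.1 * (1 : G)⁻¹ = g.1 by simp)
      mul_smul := fun q r g => Subtype.ext
        (show (q : G) * r * g.1 * ((q : G) * r)⁻¹ = q * (r * g.1 * (r : G)⁻¹) * (q : G)⁻¹ by
          group) }
  haveI : Fintype (MulAction.orbitRel.Quotient (P : Subgroup G) {g : G // orderOf g = 2}) :=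
    Fintype.ofFinite _
  have h := MulAction.sum_card_fixedBy_eq_card_orbits_mul_card_group (P : Subgroup G)
    {g : G // orderOf g = 2}
  rw [show Fintype.card (P : Subgroup G) = 27 by rw [← Nat.card_eq_fintype_card, F.card_P P]] at h
  rw [Finset.sum_subtype (p := fun x => x ∈ (P : Subgroup G))
    (Finset.univ.filter fun x : G => x ∈ (P : Subgroup G)) (by simp) nI]
  suffices e : ∑ q : (P : Subgroup G), nI (q : G) =
      ∑ q : (P : Subgroup G), Fintype.card (MulAction.fixedBy {g : G // orderOf g = 2} q) by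
    rw [e, h]; exact dvd_mul_left 27 _
  refine Finset.sum_congr rfl fun q _ => ?_
  rw [← Nat.card_eq_fintype_card]
  exact (Nat.card_congr
    ⟨fun g => ⟨g.1.1, g.1.2, (mul_inv_eq_iff_eq_mul.1 (congrArg Subtype.val g.2 :)).symm⟩,
      fun a => ⟨⟨a.1, a.2.1⟩, Subtype.ext
        (show (q : G) * a.1 * (q : G)⁻¹ = a.1 from mul_inv_eq_iff_eq_mul.2 a.2.2.symm)⟩,
      fun _ => rfl, fun _ => rfl⟩).symm

/-- The stabiliser of an element of an abelian Sylow subgroup in its normaliser. -/
theorem stab_two_power (P : Sylow 3 G) (hab : IsMulCommutative (P : Subgroup G)) {y : G}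
    (hyP : y ∈ (P : Subgroup G)) (hy1 : y ≠ 1) {b : ℕ}
    (hb : Nat.card (Subgroup.normalizer ((P : Subgroup G) : Set G)) = 27 * 2 ^ b) :
    ∃ i s, i ≤ 4 ∧ s ≤ i ∧ s < b ∧ (i - s) % 2 = 0 ∧ Nat.card (cen y) = 27 * 2 ^ i ∧
      Nat.card ↥(Subgroup.normalizer ((P : Subgroup G) : Set G) ⊓ cen y) = 27 * 2 ^ s ∧
      nI y % 3 = 0 ∧ 2 ^ i ∣ nI y + 1 ∧ nI y ≤ 9 * (2 ^ i - 1) := by
  haveI : Fact (Nat.Prime 3) := ⟨Nat.prime_three⟩
  have hy := F.mem_P_order P hyP hy1
  set N := Subgroup.normalizer ((P : Subgroup G) : Set G) with hN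
  have hPC : (P : Subgroup G) ≤ cen y := fun x hx => mem_cen.2
    (congrArg Subtype.val (mul_comm' (⟨x, hx⟩ : (P : Subgroup G)) ⟨y, hyP⟩) :)
  obtain ⟨i, k, hi, hk, hC, h3, h2, hle⟩ := F.cent_three hy
  have h27 := Subgroup.card_dvd_of_le hPC
  rw [F.card_P P, hC] at h27
  obtain rfl : k = 3 := by
    rcases hk with rfl | rfl
    · exfalso
      have := Nat.Coprime.dvd_of_dvd_mul_left
        (Nat.Coprime.pow_right i (show Nat.Coprime 27 2 by norm_num)) h27
      norm_num at this
    · rfl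
  rw [show (3 : ℕ) ^ (3 - 1) = 9 by norm_num] at hle
  set M := N ⊓ cen y with hM
  obtain ⟨r, hr⟩ : 27 ∣ Nat.card M :=
    F.card_P P ▸ Subgroup.card_dvd_of_le (le_inf Subgroup.le_normalizer hPC)
  have h1 := Subgroup.card_dvd_of_le (inf_le_left : M ≤ N)
  have h2' := Subgroup.card_dvd_of_le (inf_le_right : M ≤ cen y)
  rw [hr, hb] at h1
  rw [hr, hC, mul_comm (2 ^ i)] at h2'
  obtain ⟨s, hsb, rfl⟩ := (Nat.dvd_prime_pow Nat.prime_two).1
    (Nat.dvd_of_mul_dvd_mul_left (by norm_num) h1)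
  have hsi : s ≤ i := (Nat.pow_dvd_pow_iff_le_right (by norm_num : 1 < 2)).1
    (Nat.dvd_of_mul_dvd_mul_left (show 0 < 27 by norm_num) h2')
  refine ⟨i, s, hi, hsi, ?_, ?_, by rw [hC]; ring, hr, h3, h2, hle⟩
  · refine lt_of_le_of_ne hsb fun e => F.no_central P hab hyP hy1 ?_
    exact inf_eq_left.1 (Subgroup.eq_of_le_of_card_ge inf_le_left (by rw [hr, hb, e]))
  · -- the number of Sylow subgroups of the centralizer
    set PC : Sylow 3 (cen y) := P.subtype hPC with hPC'
    have hn : Subgroup.normalizer ((PC : Subgroup (cen y)) : Set (cen y)) = M.subgroupOf (cen y) := by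
      ext g
      rw [Subgroup.mem_subgroupOf, hM, Subgroup.mem_inf, and_iff_left g.2, hN,
        Subgroup.mem_normalizer_iff, Subgroup.mem_normalizer_iff]
      constructor
      · intro h x
        constructor
        · exact fun hx => (h ⟨x, hPC hx⟩).1 hx
        · intro hx
          have hxC : x ∈ cen y := by
            have := mul_mem (mul_mem (inv_mem g.2) (hPC hx)) g.2
            rwa [show (g : G)⁻¹ * ((g : G) * x * (g : G)⁻¹) * g = x by group] at this
          exact (h ⟨x, hxC⟩).2 hx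
      · exact fun h x => h x
    have hmod : Nat.card (Sylow 3 (cen y)) ≡ 1 [MOD 3] := card_sylow_modEq_one 3 _
    rw [Sylow.card_eq_index_normalizer PC] at hmod
    change (Subgroup.normalizer ((PC : Subgroup (cen y)) : Set (cen y))).index ≡ 1 [MOD 3] at hmod
    rw [hn] at hmod
    have hidx := (M.subgroupOf (cen y)).card_mul_index
    rw [Nat.card_congr (Subgroup.subgroupOfEquivOfLe (inf_le_right : M ≤ cen y)).toEquiv, hr, hC]
      at hidx
    have hj : (M.subgroupOf (cen y)).index = 2 ^ (i - s) := by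
      refine Nat.eq_of_mul_eq_mul_left (show 0 < 27 * 2 ^ s by positivity) ?_
      rw [hidx, mul_assoc, ← pow_add, Nat.add_sub_cancel' hsi]
      ring
    rw [hj] at hmod
    have : i - s < 5 := by omega
    rw [Nat.ModEq] at hmod
    interval_cases (i - s) <;> simp_all

/-- The Sylow three-subgroup is not abelian. -/
theorem not_abelian (P : Sylow 3 G) : ¬ IsMulCommutative (P : Subgroup G) := by
  classical
  intro hab
  haveI : Fact (Nat.Prime 3) := ⟨Nat.prime_three⟩
  haveI := Fintype.ofFinite G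
  haveI := hab
  set N := Subgroup.normalizer ((P : Subgroup G) : Set G) with hN
  obtain ⟨b, hb0, hb⟩ := F.card_normalizer P
  set P1 : Finset G := Finset.univ.filter fun a => a ∈ (P : Subgroup G) ∧ a ≠ 1 with hP1
  have hstab := fun a (ha : a ∈ P1) => F.stab_two_power P hab (Finset.mem_filter.1 ha).2.1
    (Finset.mem_filter.1 ha).2.2 hb
  have hb' : b ∈ [2, 4, 6] := by
    haveI : Nontrivial (P : Subgroup G) := by
      rw [← Finite.one_lt_card_iff_nontrivial, F.card_P P]; norm_num
    obtain ⟨a, ha⟩ := exists_ne (1 : (P : Subgroup G))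
    obtain ⟨i, s, -, -, hs, -⟩ := hstab a (Finset.mem_filter.2
      ⟨Finset.mem_univ _, a.2, fun h => ha (Subtype.ext h)⟩)
    simp only [List.mem_cons, List.not_mem_nil, or_false] at hb0 ⊢
    omega
  -- the classes and representatives in `P`
  set cls := P1.image ConjClasses.mk with hcls
  have hcls' : (Finset.univ.filter fun y : G => orderOf y = 3).image ConjClasses.mk = cls := by
    ext c
    simp only [hcls, hP1, Finset.mem_image, Finset.mem_filter, Finset.mem_univ, true_and]
    constructor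
    · rintro ⟨y, hy, rfl⟩
      obtain ⟨g, hg⟩ := F.exists_conj_mem P hy
      refine ⟨g * y * g⁻¹, ⟨hg, fun h => ?_⟩,
        (ConjClasses.mk_eq_mk_iff_isConj.2 (isConj_iff.2 ⟨g, rfl⟩)).symm⟩
      have := ord_conj g y
      rw [h, hy, orderOf_one] at this
      omega
    · rintro ⟨a, ⟨ha, ha1⟩, rfl⟩
      exact ⟨a, F.mem_P_order P ha ha1, rfl⟩
  let rep : ConjClasses G → G := fun c =>
    if h : ∃ a ∈ P1, ConjClasses.mk a = c then h.choose else 1
  have hrep : ∀ c ∈ cls, rep c ∈ P1 ∧ ConjClasses.mk (rep c) = c := by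
    intro c hc
    obtain ⟨a, ha, hac⟩ := Finset.mem_image.1 hc
    have h : ∃ a ∈ P1, ConjClasses.mk a = c := ⟨a, ha, hac⟩
    simp only [rep, dif_pos h]
    exact h.choose_spec
  -- the marked elements
  let small : G → ℕ := fun a => if 2 ∣ Nat.card ↥(N ⊓ cen a) then 1 else 0
  have hfib : ∀ c ∈ cls, ∀ f : G → ℕ, (∀ n ∈ N, ∀ a, f (n * a * n⁻¹) = f a) →
      ∀ s, Nat.card ↥(N ⊓ cen (rep c)) = 27 * 2 ^ s → s ≤ b →
      ∑ a ∈ P1.filter (fun a => ConjClasses.mk a = c), f a = 2 ^ (b - s) * f (rep c) := by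
    intro c hc f hf s hs hsb
    obtain ⟨hr1, hr2⟩ := hrep c hc
    obtain ⟨hrP, hr1'⟩ := (Finset.mem_filter.1 hr1).2
    have hfus : ∀ a ∈ P1.filter (fun a => ConjClasses.mk a = c),
        ∃ n ∈ N, n * rep c * n⁻¹ = a := by
      intro a ha
      obtain ⟨ha1, hac⟩ := Finset.mem_filter.1 ha
      obtain ⟨g, hg⟩ := isConj_iff.1 (ConjClasses.mk_eq_mk_iff_isConj.1 (hr2.trans hac.symm))
      obtain ⟨n, hn, hne⟩ := Sylow.conj_eq_normalizer_conj_of_mem P (rep c) g⁻¹ hrP
        (by rw [inv_inv, hg]; exact (Finset.mem_filter.1 ha1).2.1)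
      rw [inv_inv, hg] at hne
      exact ⟨n⁻¹, inv_mem hn, by rw [inv_inv]; exact hne.symm⟩
    rw [Finset.sum_const_nat (m := f (rep c)) fun a ha => ?_]
    · congr 1
      have heq : P1.filter (fun a => ConjClasses.mk a = c) =
          (Finset.univ.filter fun n => n ∈ N).image fun n => n * rep c * n⁻¹ := by
        ext a
        constructor
        · intro ha
          obtain ⟨n, hn, hne⟩ := hfus a ha
          exact Finset.mem_image.2 ⟨n, Finset.mem_filter.2 ⟨Finset.mem_univ _, hn⟩, hne⟩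
        · intro ha
          obtain ⟨n, hn, rfl⟩ := Finset.mem_image.1 ha
          have hn' : n ∈ N := (Finset.mem_filter.1 hn).2
          refine Finset.mem_filter.2 ⟨Finset.mem_filter.2 ⟨Finset.mem_univ _,
            (Subgroup.mem_normalizer_iff.1 hn' _).1 hrP, fun h => hr1' (conj_eq_one_iff.1 h)⟩,
            (ConjClasses.mk_eq_mk_iff_isConj.2 (isConj_iff.2 ⟨n, rfl⟩)).symm.trans hr2⟩
      have hmul : (Finset.univ.filter fun n => n ∈ N).card =
          ((Finset.univ.filter fun n => n ∈ N).image fun n => n * rep c * n⁻¹).card *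
            (27 * 2 ^ s) := by
        rw [Finset.card_eq_sum_card_image (fun n => n * rep c * n⁻¹),
          Finset.sum_const_nat (m := 27 * 2 ^ s) fun a ha => ?_]
        obtain ⟨n0, hn0, rfl⟩ := Finset.mem_image.1 ha
        have hn0' : n0 ∈ N := (Finset.mem_filter.1 hn0).2
        rw [← hs, Nat.card_eq_fintype_card, ← Fintype.card_coe]
        refine Fintype.card_congr ⟨fun m => ⟨n0⁻¹ * m.1, ?_⟩, fun m => ⟨n0 * m.1, ?_⟩,
          fun m => Subtype.ext (mul_inv_cancel_left n0 m.1),
          fun m => Subtype.ext (inv_mul_cancel_left n0 m.1)⟩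
        · obtain ⟨h1, h2⟩ := Finset.mem_filter.1 m.2
          refine Subgroup.mem_inf.2 ⟨N.mul_mem (N.inv_mem hn0') (Finset.mem_filter.1 h1).2, mem_cen.2 ?_⟩
          calc n0⁻¹ * m.1 * rep c = n0⁻¹ * (m.1 * rep c * m.1⁻¹) * m.1 := by group
            _ = n0⁻¹ * (n0 * rep c * n0⁻¹) * m.1 := by rw [h2]
            _ = rep c * (n0⁻¹ * m.1) := by group
        · obtain ⟨h1, h2⟩ := m.2
          refine Finset.mem_filter.2 ⟨Finset.mem_filter.2 ⟨Finset.mem_univ _, mul_mem hn0' h1⟩, ?_⟩
          calc n0 * m.1 * rep c * (n0 * m.1)⁻¹ = n0 * (m.1 * rep c) * m.1⁻¹ * n0⁻¹ := by group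
            _ = n0 * rep c * n0⁻¹ := by rw [mem_cen.1 h2]; group
      rw [← heq, ← Fintype.card_subtype, ← Nat.card_eq_fintype_card,
        show Nat.card {n : G // n ∈ N} = 27 * 2 ^ b from hb] at hmul
      refine (Nat.eq_of_mul_eq_mul_right (show 0 < 27 * 2 ^ s by positivity) ?_).symm
      rw [← hmul, mul_comm, mul_assoc, ← pow_add, Nat.add_sub_cancel' hsb]
    · obtain ⟨n, hn, hne⟩ := hfus a ha
      rw [← hne, hf n hn]
  have hP1sum : ∀ f : G → ℕ, ∑ a ∈ P1, f a =
      ∑ c ∈ cls, ∑ a ∈ P1.filter (fun a => ConjClasses.mk a = c), f a := fun f =>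
    (Finset.sum_fiberwise_of_maps_to (fun a ha => Finset.mem_image_of_mem _ ha) f).symm
  have hsmall : ∀ n ∈ N, ∀ a, small (n * a * n⁻¹) = small a := by
    intro n hn a
    have : (N ⊓ cen a).map (MulAut.conj n).toMonoidHom = N ⊓ cen (n * a * n⁻¹) := by
      ext x
      rw [Subgroup.mem_map_equiv, MulAut.conj_symm_apply, Subgroup.mem_inf, Subgroup.mem_inf,
        mem_cen, mem_cen]
      refine and_congr ⟨fun h => ?_, fun h => mul_mem (mul_mem (inv_mem hn) h) hn⟩
        ⟨fun h => ?_, fun h => ?_⟩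
      · have := mul_mem (mul_mem hn h) (inv_mem hn)
        rwa [show n * (n⁻¹ * x * n) * n⁻¹ = x by group] at this
      · calc x * (n * a * n⁻¹) = n * ((n⁻¹ * x * n) * a) * n⁻¹ := by group
          _ = n * (a * (n⁻¹ * x * n)) * n⁻¹ := by rw [h]
          _ = n * a * n⁻¹ * x := by group
      · calc n⁻¹ * x * n * a = n⁻¹ * (x * (n * a * n⁻¹)) * n := by group
          _ = n⁻¹ * (n * a * n⁻¹ * x) * n := by rw [h]
          _ = a * (n⁻¹ * x * n) := by group
    show (if _ then 1 else 0) = (if _ then 1 else 0)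
    rw [← this, Subgroup.card_map_of_injective (MulAut.conj n).injective]
  choose! fi fs hfs using fun a (ha : a ∈ P1) => hstab a ha
  let item : ConjClasses G → St := fun c =>
    (2 ^ (6 - fi (rep c)), 2 ^ (6 - fi (rep c)) * nI (rep c), 2 ^ (b - fs (rep c)),
      2 ^ (b - fs (rep c)) * nI (rep c),
      (if fi (rep c) = 1 ∧ nI (rep c) = 3 then 1 else 0),
      (if 0 < fs (rep c) then 2 ^ (b - fs (rep c)) else 0))
  have hw : ∀ c ∈ cls, ∀ f : G → ℕ, (∀ g a, f (g * a * g⁻¹) = f a) →
      95040 / Nat.card (cen (Quotient.out c)) * f (Quotient.out c) =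
        55 * (2 ^ (6 - fi (rep c)) * f (rep c)) := by
    intro c hc f hf
    obtain ⟨g, hg⟩ := isConj_iff.1 (ConjClasses.mk_eq_mk_iff_isConj.1
      ((hrep c hc).2.trans (Quotient.out_eq c).symm))
    change g * rep c * g⁻¹ = Quotient.out c at hg
    obtain ⟨hi, -, -, -, hC, -⟩ := hfs _ (hrep c hc).1
    rw [← hg, hf, card_cen_conj, hC, ← mul_assoc]
    congr 1
    have : fi (rep c) ≤ 4 := hi
    interval_cases (fi (rep c)) <;> norm_num
  have hW : ∑ c ∈ cls, (item c).1 = 80 := by
    have h := F.sum_three (fun _ => 1) (fun _ _ => rfl)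
    rw [hcls', Finset.sum_congr rfl fun c hc => hw c hc (fun _ => 1) (fun _ _ => rfl),
      ← Finset.mul_sum, ← Finset.card_eq_sum_ones, ← Fintype.card_subtype,
      ← Nat.card_eq_fintype_card] at h
    change cnt G 3 = _ at h
    rw [F.c3] at h
    simp only [mul_one] at h
    change _ = 55 * ∑ c ∈ cls, (item c).1 at h
    omega
  have hE : ∑ c ∈ cls, (item c).2.1 = 432 := by
    have h := F.sum_three nI nI_conj
    rw [hcls', Finset.sum_congr rfl fun c hc => hw c hc nI nI_conj, ← Finset.mul_sum,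
      F.sum_nI] at h
    change _ = 55 * ∑ c ∈ cls, (item c).2.1 at h
    omega
  have hs' : ∀ c ∈ cls, Nat.card ↥(N ⊓ cen (rep c)) = 27 * 2 ^ fs (rep c) ∧ fs (rep c) ≤ b :=
    fun c hc => by
      obtain ⟨-, -, h3, -, -, h6, -⟩ := hfs _ (hrep c hc).1
      exact ⟨h6, h3.le⟩
  have hO : ∑ c ∈ cls, (item c).2.2.1 = 26 := by
    have h := hP1sum fun _ => 1
    rw [Finset.sum_congr rfl fun c hc => hfib c hc (fun _ => 1) (fun _ _ _ => rfl) _ (hs' c hc).1
      (hs' c hc).2, ← Finset.card_eq_sum_ones] at h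
    simp only [mul_one] at h
    rw [← h]
    have : P1 = (Finset.univ.filter fun a => a ∈ (P : Subgroup G)).erase 1 := by
      ext a; simp [hP1, and_comm]
    rw [this, Finset.card_erase_of_mem (by simp), ← Fintype.card_subtype,
      ← Nat.card_eq_fintype_card]
    change Nat.card (P : Subgroup G) - 1 = 26
    rw [F.card_P P]
  have hR : (∑ c ∈ cls, (item c).2.2.2.1) % 27 = 0 := by
    have h := hP1sum nI
    rw [Finset.sum_congr rfl fun c hc => hfib c hc nI (fun n _ a => nI_conj n a) _ (hs' c hc).1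
      (hs' c hc).2] at h
    change _ = ∑ c ∈ cls, (item c).2.2.2.1 at h
    rw [← h]
    have h27 := F.burnside_mod P
    rw [← Finset.add_sum_erase _ _ (show (1 : G) ∈ Finset.univ.filter
      (fun x : G => x ∈ (P : Subgroup G)) by simp)] at h27
    have h1 : nI (1 : G) = 891 := by
      rw [← F.c2]
      exact Nat.card_congr (Equiv.subtypeEquivRight fun a => by simp)
    have e : (Finset.univ.filter fun x : G => x ∈ (P : Subgroup G)).erase 1 = P1 := by
      ext a; simp [hP1, and_comm]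
    rw [h1, e] at h27
    omega
  have hSm : ∑ c ∈ cls, (item c).2.2.2.2.2 = ∑ a ∈ P1, small a := by
    rw [hP1sum small]
    refine Finset.sum_congr rfl fun c hc => ?_
    rw [hfib c hc small hsmall _ (hs' c hc).1 (hs' c hc).2]
    show (if 0 < fs (rep c) then _ else 0) = _ * (if _ then 1 else 0)
    rcases Nat.eq_zero_or_pos (fs (rep c)) with h0 | h0
    · rw [if_neg (by omega), if_neg, mul_zero]
      rw [(hs' c hc).1, h0]; norm_num
    · rw [if_pos h0, if_pos, mul_one]
      rw [(hs' c hc).1]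
      exact (dvd_pow_self 2 h0.ne').trans (dvd_mul_left _ _)
  obtain ⟨h0, hcl⟩ := reachAb_closed b hb'
  have hmem : ∀ c ∈ cls, item c ∈ optsAb b := by
    intro c hc
    obtain ⟨hi, hsi, hsb, hpar, -, -, h3, h2, hle⟩ := hfs _ (hrep c hc).1
    have hwI : (item c).2.1 ≤ 432 := hE ▸ Finset.single_le_sum (f := fun c => (item c).2.1)
      (fun _ _ => Nat.zero_le _) hc
    have ho : (item c).2.2.1 ≤ 26 := hO ▸ Finset.single_le_sum (f := fun c => (item c).2.2.1)
      (fun _ _ => Nat.zero_le _) hc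
    have hI : nI (rep c) < 136 := by
      have : 2 ^ fi (rep c) ≤ 2 ^ 4 := Nat.pow_le_pow_right (by norm_num) hi
      omega
    exact optsAb_mem b hb' _ (List.mem_range.2 (by omega)) _ (List.mem_range.2 (by omega)) _
      (List.mem_range.2 hI) hsi hsb hpar h3 h2 hle hwI ho
  have hproj : (∑ c ∈ cls, item c).1 = 80 ∧ (∑ c ∈ cls, item c).2.1 = 432 ∧
      (∑ c ∈ cls, item c).2.2.1 = 26 := by
    simp only [Prod.fst_sum, Prod.snd_sum]
    exact ⟨hW, hE, hO⟩
  have hin := sum_mem (reachAb b) (optsAb b)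
    (fun s : St => s.1 ≤ 80 ∧ s.2.1 ≤ 432 ∧ s.2.2.1 ≤ 26) h0
    (fun x z h => ⟨le_trans (Nat.le_add_right _ _) h.1, le_trans (Nat.le_add_right _ _) h.2.1,
      le_trans (Nat.le_add_right _ _) h.2.2⟩) hcl item cls hmem
    ⟨hproj.1.le, hproj.2.1.le, hproj.2.2.le⟩
  obtain ⟨hB, hlt⟩ := reachAb_final b hb' _ hin hproj.1 hproj.2.1 hproj.2.2
    (by simp only [Prod.fst_sum, Prod.snd_sum]; exact hR)
  simp only [Prod.fst_sum, Prod.snd_sum] at hB hlt
  rw [hSm] at hlt
  obtain ⟨c, hc, hne⟩ := Finset.exists_ne_zero_of_sum_ne_zero hB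
  have hi1 : fi (rep c) = 1 ∧ nI (rep c) = 3 := by
    by_contra h
    exact hne (if_neg h)
  -- an involution centralising a plane of `P`
  obtain ⟨hr1, -⟩ := hrep c hc
  obtain ⟨-, hsi, -, hpar, hC, hM, -⟩ := hfs _ hr1
  set y := rep c with hydef
  have hs1 : fs y = 1 := by omega
  have hNC : cen y ≤ N := by
    have : N ⊓ cen y = cen y := Subgroup.eq_of_le_of_card_ge inf_le_right (by
      rw [hM, hC, hs1, hi1.1])
    exact inf_eq_right.1 this
  have hne0 : Nonempty {a : G // orderOf a = 2 ∧ a * y = y * a} :=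
    (Nat.card_pos_iff.1 (by rw [show Nat.card _ = nI y from rfl, hi1.2]; norm_num)).1
  obtain ⟨a, ha2, hay⟩ := hne0
  have haN : a ∈ N := hNC (mem_cen.2 hay)
  have hPy : ∀ x ∈ (P : Subgroup G), x * y = y * x := fun x hx =>
    congrArg Subtype.val (mul_comm' (⟨x, hx⟩ : (P : Subgroup G))
      ⟨y, (Finset.mem_filter.1 hr1).2.1⟩)
  have h9 : 9 ≤ (Finset.univ.filter fun x : G => x ∈ (P : Subgroup G) ∧ x * a = a * x).card := by
    have hc' := Finset.card_eq_sum_card_image (fun x : G => x * a * x⁻¹)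
      (Finset.univ.filter fun x : G => x ∈ (P : Subgroup G))
    rw [← Fintype.card_subtype, ← Nat.card_eq_fintype_card,
      show Nat.card {x : G // x ∈ (P : Subgroup G)} = 27 from F.card_P P,
      Finset.sum_const_nat (m := (Finset.univ.filter fun x : G => x ∈ (P : Subgroup G) ∧
        x * a = a * x).card) fun z hz => ?_] at hc'
    · have h3 : ((Finset.univ.filter fun x : G => x ∈ (P : Subgroup G)).image
          fun x => x * a * x⁻¹).card ≤ 3 := by
        refine le_of_le_of_eq (Finset.card_le_card (t := Finset.univ.filter fun a' : G =>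
          orderOf a' = 2 ∧ a' * y = y * a') fun z hz => ?_) ?_
        · obtain ⟨x, hx, rfl⟩ := Finset.mem_image.1 hz
          have hxy := hPy x (Finset.mem_filter.1 hx).2
          refine Finset.mem_filter.2 ⟨Finset.mem_univ _, by rw [ord_conj]; exact ha2, ?_⟩
          have hxy' : x⁻¹ * y = y * x⁻¹ := ((show Commute x y from hxy).inv_left).eq
          calc x * a * x⁻¹ * y = x * (a * y) * x⁻¹ := by rw [mul_assoc _ x⁻¹ y, hxy']; group
            _ = x * y * (a * x⁻¹) := by rw [hay]; group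
            _ = y * (x * a * x⁻¹) := by rw [hxy]; group
        · rw [← Fintype.card_subtype, ← Nat.card_eq_fintype_card]
          exact hi1.2
      nlinarith
    · obtain ⟨x0, hx0, rfl⟩ := Finset.mem_image.1 hz
      have hx0' : x0 ∈ (P : Subgroup G) := (Finset.mem_filter.1 hx0).2
      refine Finset.card_bij' (fun x _ => x0⁻¹ * x) (fun x _ => x0 * x) ?_ ?_
        (fun x _ => mul_inv_cancel_left x0 x) (fun x _ => inv_mul_cancel_left x0 x)
      · intro x hx
        simp only [Finset.mem_filter, Finset.mem_univ, true_and] at hx ⊢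
        refine ⟨mul_mem (inv_mem hx0') hx.1, ?_⟩
        calc x0⁻¹ * x * a = x0⁻¹ * (x * a * x⁻¹) * x := by group
          _ = x0⁻¹ * (x0 * a * x0⁻¹) * x := by rw [hx.2]
          _ = a * (x0⁻¹ * x) := by group
      · intro x hx
        simp only [Finset.mem_filter, Finset.mem_univ, true_and] at hx ⊢
        refine ⟨mul_mem hx0' hx.1, ?_⟩
        calc x0 * x * a * (x0 * x)⁻¹ = x0 * (x * a) * x⁻¹ * x0⁻¹ := by group
          _ = x0 * a * x0⁻¹ := by rw [hx.2]; group
  have hsub : ((Finset.univ.filter fun x : G => x ∈ (P : Subgroup G) ∧ x * a = a * x).erase 1).card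
      ≤ ∑ x ∈ P1, small x := by
    rw [Finset.card_eq_sum_ones]
    refine (Finset.sum_le_sum fun x hx => ?_).trans
      (Finset.sum_le_sum_of_subset (f := small) fun x hx => ?_)
    · obtain ⟨-, hxP, hxa⟩ := Finset.mem_filter.1 (Finset.mem_erase.1 hx).2
      show 1 ≤ if _ then 1 else 0
      rw [if_pos]
      have := Subgroup.orderOf_dvd_natCard (N ⊓ cen x) (x := a) ⟨haN, mem_cen.2 hxa.symm⟩
      rwa [ha2] at this
    · obtain ⟨hx1, hx'⟩ := Finset.mem_erase.1 hx
      exact Finset.mem_filter.2 ⟨Finset.mem_univ _, (Finset.mem_filter.1 hx').2.1, hx1⟩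
  rw [Finset.card_erase_of_mem (by simp)] at hsub
  omega

end Facts

end CfsgLib.M12Nse
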