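import Cfsg.Agent.Lib.M12Nse.Defs
import Cfsg.Agent.Lib.Base.FrobeniusSolutions

/-!
# Centralisers of the elements of order three

Their Sylow two-subgroups are elementary abelian of order at most sixteen, which bounds the numbers
of involutions in them; sums over elements of order three are sums over classes.
-/

set_option autoImplicit false
set_option linter.unusedSectionVars false
set_option linter.style.haveILetI false

namespace CfsgLib.M12Nse

universe u

variable {G : Type u} [Group G]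

/-- the centralizer of an element -/
abbrev cen (y : G) : Subgroup G := Subgroup.centralizer ({y} : Set G)

theorem mem_cen {y g : G} : g ∈ cen y ↔ g * y = y * g := Subgroup.mem_centralizer_singleton_iff

/-- the number of involutions commuting with an element -/
noncomputable def nI (y : G) : ℕ := Nat.card {a : G // orderOf a = 2 ∧ a * y = y * a}

variable [Finite G]

theorem ord_conj (g x : G) : orderOf (g * x * g⁻¹) = orderOf x :=
  (MulAut.conj g).orderOf_eq x

theorem card_cen_conj (g y : G) : Nat.card (cen (g * y * g⁻¹)) = Nat.card (cen y) := by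
  have : (cen y).map (MulAut.conj g).toMonoidHom = cen (g * y * g⁻¹) := by
    ext a
    rw [mem_cen, Subgroup.mem_map_equiv, mem_cen, MulAut.conj_symm_apply]
    constructor <;> intro h
    · calc a * (g * y * g⁻¹) = g * ((g⁻¹ * a * g) * y) * g⁻¹ := by group
        _ = g * (y * (g⁻¹ * a * g)) * g⁻¹ := by rw [h]
        _ = g * y * g⁻¹ * a := by group
    · calc g⁻¹ * a * g * y = g⁻¹ * (a * (g * y * g⁻¹)) * g := by group
        _ = g⁻¹ * (g * y * g⁻¹ * a) * g := by rw [h]
        _ = y * (g⁻¹ * a * g) := by group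
  rw [← this, Subgroup.card_map_of_injective (MulAut.conj g).injective]

theorem nI_conj (g y : G) : nI (g * y * g⁻¹) = nI y := by
  refine (Nat.card_congr ((MulAut.conj g).toEquiv.subtypeEquiv fun a => ?_)).symm
  show _ ↔ orderOf (g * a * g⁻¹) = 2 ∧ g * a * g⁻¹ * (g * y * g⁻¹) = g * y * g⁻¹ * (g * a * g⁻¹)
  rw [ord_conj, conj_mul, conj_mul, mul_left_inj, mul_right_inj]

/-- Elements of a given order modulo the prime of a group acting on them. -/
theorem cnt_modEq {p : ℕ} [Fact p.Prime] {P : Subgroup G} (hP : IsPGroup p P) (n : ℕ) :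
    cnt G n ≡ Nat.card {g : G // orderOf g = n ∧ ∀ x ∈ P, x * g = g * x} [MOD p] := by
  letI : MulAction P {g : G // orderOf g = n} :=
    { smul := fun q g => ⟨(q : G) * g.1 * (q : G)⁻¹, by rw [ord_conj]; exact g.2⟩
      one_smul := fun g => Subtype.ext (show (1 : G) * g.1 * (1 : G)⁻¹ = g.1 by simp)
      mul_smul := fun q r g => Subtype.ext
        (show (q : G) * r * g.1 * ((q : G) * r)⁻¹ = q * (r * g.1 * (r : G)⁻¹) * (q : G)⁻¹ by
          group) }
  refine (hP.card_modEq_card_fixedPoints _).trans ?_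
  rw [Nat.card_congr (α := MulAction.fixedPoints P {g : G // orderOf g = n})
    (β := {g : G // orderOf g = n ∧ ∀ x ∈ P, x * g = g * x})
    ⟨fun g => ⟨g.1.1, g.1.2, fun x hx => mul_inv_eq_iff_eq_mul.1
        (congrArg Subtype.val (g.2 ⟨x, hx⟩) :)⟩,
      fun g => ⟨⟨g.1, g.2.1⟩, fun q => Subtype.ext
        (show (q : G) * g.1 * (q : G)⁻¹ = g.1 from mul_inv_eq_iff_eq_mul.2 (g.2.2 q q.2))⟩,
      fun _ => rfl, fun _ => rfl⟩]

namespace Facts

variable (F : Facts G)
include F

/-- Commuting elements of coprime orders. -/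
theorem mul_order {a b : G} (h : a * b = b * a) (hc : (orderOf a).Coprime (orderOf b)) :
    orderOf a * orderOf b ∈ [1, 2, 3, 4, 5, 6, 8, 10, 11] := by
  rw [← Commute.orderOf_mul_eq_mul_orderOf_of_coprime h hc]
  exact F.orders _

theorem not_dvd_cen {y : G} (hy : orderOf y = 3) {p : ℕ} [hp : Fact p.Prime] (h : p = 5 ∨ p = 11) :
    ¬ p ∣ Nat.card (cen y) := by
  intro hd
  obtain ⟨g, hg⟩ := exists_prime_orderOf_dvd_card' p hd
  rw [← Subgroup.orderOf_coe] at hg
  have := F.mul_order (mem_cen.1 g.2) (by rw [hg, hy]; rcases h with rfl | rfl <;> norm_num)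
  rw [hg, hy] at this
  rcases h with rfl | rfl <;> simp at this

theorem two_elt {y g : G} (hy : orderOf y = 3) (hg : g * y = y * g) {j : ℕ} (hj : g ^ 2 ^ j = 1) :
    g * g = 1 := by
  obtain ⟨e, -, he⟩ := (Nat.dvd_prime_pow Nat.prime_two).1 (orderOf_dvd_of_pow_eq_one hj)
  have h2 : orderOf g ∣ 2 := by
    have := F.mul_order hg (by rw [he, hy]; exact Nat.Coprime.pow_left e (by norm_num))
    rw [he, hy] at this
    rw [he]
    rcases e with _ | _ | _ | e
    · norm_num
    · norm_num
    · norm_num at this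
    · exfalso
      have h8 : 24 ≤ 2 ^ (e + 3) * 3 := by
        have := Nat.one_le_two_pow (n := e)
        rw [pow_add]; omega
      have : 2 ^ (e + 3) * 3 ≤ 11 := by
        have hb : ∀ m ∈ [1, 2, 3, 4, 5, 6, 8, 10, 11], m ≤ 11 := by decide
        exact hb _ this
      omega
  rw [← pow_two]
  exact orderOf_dvd_iff_pow_eq_one.1 h2

theorem card_sylow (p : ℕ) [Fact p.Prime] {a m : ℕ} (h : 95040 = p ^ a * m) (hm : ¬ p ∣ m)
    (P : Sylow p G) : Nat.card (P : Subgroup G) = p ^ a := by
  have hp : p.Prime := Fact.out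
  rw [P.card_eq_multiplicity, F.card, h, Nat.factorization_mul (pow_ne_zero _ hp.ne_zero)
    (fun e => hm (by rw [e]; exact dvd_zero p)), Finsupp.add_apply, hp.factorization_pow, Finsupp.single_eq_same,
    Nat.factorization_eq_zero_of_not_dvd hm, add_zero]

/-- An elementary abelian subgroup has order at most sixteen. -/
theorem elementary_le {V : Subgroup G} (h2 : ∀ v ∈ V, v * v = 1) {i : ℕ}
    (hV : Nat.card V = 2 ^ i) : i ≤ 4 := by
  haveI : Fact (Nat.Prime 2) := ⟨Nat.prime_two⟩
  by_contra hi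
  obtain ⟨S, hS⟩ := (IsPGroup.of_card hV).exists_le_sylow
  have hS64 := F.card_sylow 2 (a := 6) (m := 1485) (by norm_num) (by norm_num) S
  obtain ⟨g, hg⟩ := F.exists_eight
  obtain ⟨T, hT⟩ := (IsPGroup.of_card (n := 3) (show Nat.card (Subgroup.zpowers g) = 2 ^ 3 by
    rw [Nat.card_zpowers, hg]; norm_num)).exists_le_sylow
  obtain ⟨c, hc⟩ := MulAction.exists_smul_eq G T S
  have hx : c * g * c⁻¹ ∈ (S : Subgroup G) := by
    rw [← hc, Sylow.smul_def]
    exact Subgroup.mem_map_of_mem (MulAut.conj c).toMonoidHom (hT (Subgroup.mem_zpowers g))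
  set x := c * g * c⁻¹ with hxdef
  set K : Subgroup (S : Subgroup G) := V.subgroupOf (S : Subgroup G) with hK
  have hKc : Nat.card K = 2 ^ i :=
    (Nat.card_congr (Subgroup.subgroupOfEquivOfLe hS).toEquiv).trans hV
  have hidx := K.card_mul_index
  rw [hKc, hS64] at hidx
  have hKle : K.index ≤ 2 := by
    have : 2 ^ 5 ≤ 2 ^ i := Nat.pow_le_pow_right (by norm_num) (by omega)
    nlinarith
  have hsq : x * x ∈ V := by
    by_cases h1 : K.index = 1
    · have : (⟨x * x, mul_mem hx hx⟩ : (S : Subgroup G)) ∈ K := by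
        rw [Subgroup.index_eq_one.1 h1]; trivial
      exact this
    · have h0 : K.index ≠ 0 := Subgroup.index_ne_zero_of_finite
      exact Subgroup.mul_self_mem_of_index_two (H := K) (by omega) ⟨x, hx⟩
  have h4 : x ^ 4 = 1 := by
    rw [show 4 = 2 + 2 from rfl, pow_add, pow_two]; exact h2 _ hsq
  have h8 : orderOf x = 8 := by rw [hxdef, ord_conj, hg]
  have := orderOf_dvd_of_pow_eq_one h4
  rw [h8] at this
  norm_num at this

theorem nI_mod {y : G} (hy : orderOf y = 3) : nI y % 3 = 0 := by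
  haveI : Fact (Nat.Prime 3) := ⟨Nat.prime_three⟩
  have h := cnt_modEq (IsPGroup.of_card (n := 1)
    (show Nat.card (Subgroup.zpowers y) = 3 ^ 1 by rw [Nat.card_zpowers, hy, pow_one])) 2
  rw [F.c2, Nat.card_congr (Equiv.subtypeEquivRight (q := fun a => orderOf a = 2 ∧ a * y = y * a)
    fun a => and_congr_right fun _ => ⟨fun ha => (ha y (Subgroup.mem_zpowers y)).symm,
      fun ha x hx => by
        obtain ⟨k, rfl⟩ := Subgroup.mem_zpowers_iff.1 hx
        exact ((show Commute a y from ha).zpow_right k).symm.eq⟩)] at h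
  rw [Nat.ModEq] at h
  unfold nI
  omega

/-- The centralizer of an element of order three and the involutions in it. -/
theorem cent_three {y : G} (hy : orderOf y = 3) :
    ∃ i k, i ≤ 4 ∧ (k = 2 ∨ k = 3) ∧ Nat.card (cen y) = 2 ^ i * 3 ^ k ∧ nI y % 3 = 0 ∧
      2 ^ i ∣ nI y + 1 ∧ nI y ≤ 3 ^ (k - 1) * (2 ^ i - 1) := by
  classical
  haveI : Fact (Nat.Prime 2) := ⟨Nat.prime_two⟩
  haveI : Fact (Nat.Prime 3) := ⟨Nat.prime_three⟩
  haveI : Fact (Nat.Prime 5) := ⟨by norm_num⟩
  haveI : Fact (Nat.Prime 11) := ⟨by norm_num⟩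
  set C := cen y with hCdef
  have hd : Nat.card C ∣ 64 * 27 * (5 * 11) := by
    have := C.card_subgroup_dvd_card
    rw [F.card] at this
    simpa using this
  have hd' : Nat.card C ∣ 64 * 27 := by
    refine Nat.Coprime.dvd_of_dvd_mul_right (Nat.Coprime.mul_right ?_ ?_) hd
    · exact ((Nat.Prime.coprime_iff_not_dvd (by norm_num)).2 (F.not_dvd_cen hy (Or.inl rfl))).symm
    · exact ((Nat.Prime.coprime_iff_not_dvd (by norm_num)).2 (F.not_dvd_cen hy (Or.inr rfl))).symm
  obtain ⟨a, b, ha, hb, hab⟩ := Nat.dvd_mul.1 hd'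
  obtain ⟨i, -, rfl⟩ := (Nat.dvd_prime_pow Nat.prime_two).1 (show a ∣ 2 ^ 6 from ha)
  obtain ⟨k, hk3, rfl⟩ := (Nat.dvd_prime_pow Nat.prime_three).1 (show b ∣ 3 ^ 3 from hb)
  have hC : Nat.card C = 2 ^ i * 3 ^ k := hab.symm
  -- the three-part
  obtain ⟨P, hP⟩ := (IsPGroup.of_card (n := 1)
    (show Nat.card (Subgroup.zpowers y) = 3 ^ 1 by rw [Nat.card_zpowers, hy, pow_one])).exists_le_sylow
  have hyP : y ∈ (P : Subgroup G) := hP (Subgroup.mem_zpowers y)
  have hP27 := F.card_sylow 3 (a := 3) (m := 3520) (by norm_num) (by norm_num) P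
  have hk : 2 ≤ k := by
    set R := Subgroup.centralizer ({(⟨y, hyP⟩ : (P : Subgroup G))} : Set (P : Subgroup G)) with hR
    have h9 : 9 ∣ Nat.card R := by
      have hRd := R.card_subgroup_dvd_card
      rw [hP27] at hRd
      obtain ⟨r, -, hr⟩ := (Nat.dvd_prime_pow Nat.prime_three).1 hRd
      rw [hr]
      suffices 2 ≤ r from Nat.pow_dvd_pow 3 this
      by_contra hlt
      have hsub : Subgroup.zpowers (⟨y, hyP⟩ : (P : Subgroup G)) ⊔
          Subgroup.center (P : Subgroup G) ≤ R := by
        refine sup_le (Subgroup.zpowers_le.2 (Subgroup.mem_centralizer_singleton_iff.2 rfl)) ?_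
        exact fun c hc => Subgroup.mem_centralizer_singleton_iff.2
          (Subgroup.mem_center_iff.1 hc _).symm
      have h3 : Nat.card (Subgroup.zpowers (⟨y, hyP⟩ : (P : Subgroup G))) = 3 := by
        rw [Nat.card_zpowers, ← Subgroup.orderOf_coe]; exact hy
      have hRle : Nat.card R ≤ 3 := by
        rw [hr]; exact le_of_le_of_eq (Nat.pow_le_pow_right (by norm_num) (by omega)) (pow_one 3)
      have e : Subgroup.zpowers (⟨y, hyP⟩ : (P : Subgroup G)) = R :=
        Subgroup.eq_of_le_of_card_ge (le_sup_left.trans hsub) (by omega)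
      haveI : Nontrivial (P : Subgroup G) := by
        rw [← Finite.one_lt_card_iff_nontrivial, hP27]; norm_num
      haveI := P.2.center_nontrivial
      have hZ := (Subgroup.center (P : Subgroup G)).card_subgroup_dvd_card
      rw [hP27] at hZ
      have hZ1 : 1 < Nat.card (Subgroup.center (P : Subgroup G)) := Finite.one_lt_card
      have hZR : Subgroup.center (P : Subgroup G) = R := by
        refine Subgroup.eq_of_le_of_card_ge (le_sup_right.trans hsub) ?_
        obtain ⟨z, -, hz⟩ := (Nat.dvd_prime_pow Nat.prime_three).1 (show _ ∣ 3 ^ 3 from hZ)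
        rw [hz] at hZ1 ⊢
        have : 1 ≤ z := by by_contra h; simp [show z = 0 by omega] at hZ1
        exact hRle.trans (le_of_eq_of_le (pow_one 3).symm (Nat.pow_le_pow_right (by norm_num) this))
      have hyc : (⟨y, hyP⟩ : (P : Subgroup G)) ∈ Subgroup.center (P : Subgroup G) := by
        rw [hZR, ← e]; exact Subgroup.mem_zpowers _
      have : R = ⊤ := eq_top_iff.2 fun c _ => Subgroup.mem_centralizer_singleton_iff.2
        (Subgroup.mem_center_iff.1 hyc c)
      rw [this, Subgroup.card_top, hP27] at hRle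
      omega
    have hle : R.map (P : Subgroup G).subtype ≤ C := by
      rintro _ ⟨c, hc, rfl⟩
      exact mem_cen.2 (congrArg Subtype.val (Subgroup.mem_centralizer_singleton_iff.1 hc) :)
    have h9' : 9 ∣ Nat.card C :=
      h9.trans ((Subgroup.card_map_of_injective (P : Subgroup G).subtype_injective).symm ▸
        Subgroup.card_dvd_of_le hle)
    rw [hC] at h9'
    have := Nat.Coprime.dvd_of_dvd_mul_left
      (Nat.Coprime.pow_right i (show Nat.Coprime 9 2 by norm_num)) h9'
    exact Nat.pow_dvd_pow_iff_le_right (show 1 < 3 by norm_num) |>.1 (show 3 ^ 2 ∣ 3 ^ k from this)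
  -- the two-part
  obtain ⟨V⟩ : Nonempty (Sylow 2 C) := inferInstance
  have hV : Nat.card (V : Subgroup C) = 2 ^ i := by
    rw [V.card_eq_multiplicity, hC, Nat.factorization_mul (by positivity) (by positivity),
      Finsupp.add_apply, Nat.prime_two.factorization_pow, Finsupp.single_eq_same,
      Nat.factorization_eq_zero_of_not_dvd, add_zero]
    exact fun h => absurd (Nat.prime_two.dvd_of_dvd_pow h) (by norm_num)
  have hsq : ∀ (T : Sylow 2 C) (v : C), v ∈ (T : Subgroup C) → (v : G) * v = 1 := by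
    intro T v hv
    obtain ⟨j, hj⟩ := T.2 ⟨v, hv⟩
    exact F.two_elt hy (mem_cen.1 v.2) (congrArg Subtype.val (congrArg Subtype.val hj :) :)
  have hi : i ≤ 4 := F.elementary_le (V := (V : Subgroup C).map C.subtype)
    (by rintro _ ⟨v, hv, rfl⟩; exact hsq V v hv)
    (by rw [Subgroup.card_map_of_injective C.subtype_injective, hV])
  -- elements of order dividing two
  have hp2 : Nat.card {u : C // ∃ j, u ^ 2 ^ j = 1} = nI y + 1 := by
    have e1 : Nat.card {u : C // ∃ j, u ^ 2 ^ j = 1} =
        ({a : G | orderOf a = 2 ∧ a * y = y * a} ∪ {1} : Set G).ncard := by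
      rw [← Nat.card_coe_set_eq]
      refine Nat.card_congr ⟨fun u => ⟨u.1, ?_⟩, fun a => ⟨⟨a.1, mem_cen.2 ?_⟩, ?_⟩,
        fun _ => rfl, fun _ => rfl⟩
      · obtain ⟨u, j, hj⟩ := u
        have h2 := F.two_elt hy (mem_cen.1 u.2) (congrArg Subtype.val hj :)
        by_cases h1 : (u : G) = 1
        · exact Or.inr h1
        · exact Or.inl ⟨orderOf_eq_prime (by rw [pow_two]; exact h2) h1, mem_cen.1 u.2⟩
      · rcases a.2 with h | h
        · exact h.2
        · rw [Set.mem_singleton_iff] at h; rw [h, one_mul, mul_one]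
      · refine ⟨1, Subtype.ext ?_⟩
        show (a.1 : G) ^ 2 ^ 1 = 1
        rcases a.2 with h | h
        · have h2 := pow_orderOf_eq_one (a.1 : G)
          rw [h.1] at h2
          rw [pow_one]; exact h2
        · rw [Set.mem_singleton_iff] at h; rw [h, one_pow]
    rw [e1, Set.union_singleton, Set.ncard_insert_of_notMem (by simp), ← Nat.card_coe_set_eq]
    rfl
  refine ⟨i, k, hi, by omega, hC, F.nI_mod hy, hp2 ▸ ?_, ?_⟩
  · exact CfsgLib.Base.Solutions.pow_dvd_card_pElements (hC ▸ dvd_mul_right _ _)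
  -- every involution lies in one of the Sylow subgroups
  have hcov : ∀ a : {a : G // orderOf a = 2 ∧ a * y = y * a}, ∃ T : Sylow 2 C,
      (⟨a.1, mem_cen.2 a.2.2⟩ : C) ∈ (T : Subgroup C) := fun a => by
    obtain ⟨T, hT⟩ := (IsPGroup.of_card (n := 1)
      (show Nat.card (Subgroup.zpowers (⟨a.1, mem_cen.2 a.2.2⟩ : C)) = 2 ^ 1 by
        rw [Nat.card_zpowers, ← Subgroup.orderOf_coe, pow_one]; exact a.2.1)).exists_le_sylow
    exact ⟨T, hT (Subgroup.mem_zpowers _)⟩
  choose T hT using hcov
  let f : {a : G // orderOf a = 2 ∧ a * y = y * a} →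
      Σ T : Sylow 2 C, {v : (T : Subgroup C) // v ≠ 1} := fun a =>
    ⟨T a, ⟨⟨_, hT a⟩, fun h => by
      have h1 : (a.1 : G) = 1 := congrArg Subtype.val (congrArg Subtype.val h :)
      have := a.2.1
      rw [h1, orderOf_one] at this
      omega⟩⟩
  have hf : Function.Injective f := fun a b h =>
    Subtype.ext (congrArg (fun p => ((p.2.1 : C) : G)) h :)
  have hle := Nat.card_le_card_of_injective f hf
  haveI : Fintype (Sylow 2 C) := Fintype.ofFinite _
  rw [Nat.card_sigma, Finset.sum_const_nat (m := 2 ^ i - 1) fun T _ => ?_] at hle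
  · rw [Finset.card_univ, ← Nat.card_eq_fintype_card] at hle
    refine hle.trans (Nat.mul_le_mul_right _ ?_)
    set N := Subgroup.normalizer (V : Set C) with hN
    have h2N : 2 ^ i ∣ Nat.card N := hV ▸ Subgroup.card_dvd_of_le Subgroup.le_normalizer
    have hyC : y ∈ C := mem_cen.2 rfl
    have h3N : 3 ∣ Nat.card N := by
      have hmem : (⟨y, hyC⟩ : C) ∈ N := by
        refine Subgroup.mem_normalizer_iff.2 fun v => ?_
        have : (⟨y, hyC⟩ : C) * v * (⟨y, hyC⟩ : C)⁻¹ = v := Subtype.ext (by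
          show y * (v : G) * y⁻¹ = v
          rw [← mem_cen.1 v.2, mul_inv_cancel_right])
        rw [this]
      have := N.orderOf_dvd_natCard hmem
      rwa [← Subgroup.orderOf_coe, hy] at this
    obtain ⟨r, hr⟩ := Nat.Coprime.mul_dvd_of_dvd_of_dvd
      (Nat.Coprime.pow_left i (show Nat.Coprime 2 3 by norm_num)) h2N h3N
    have hidx := N.index_mul_card
    have hn := Sylow.card_eq_index_normalizer V
    rw [← hN] at hn
    rw [← hn, hC, hr, show k = k - 1 + 1 by omega, pow_succ] at hidx
    have h : Nat.card (Sylow 2 C) * r = 3 ^ (k - 1) := by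
      have h' : 2 ^ i * 3 * (Nat.card (Sylow 2 C) * r) = 2 ^ i * 3 * 3 ^ (k - 1) := by
        calc _ = Nat.card (Sylow 2 C) * (2 ^ i * 3 * r) := by ring
          _ = 2 ^ i * (3 ^ (k - 1) * 3) := hidx
          _ = _ := by ring
      exact Nat.eq_of_mul_eq_mul_left (by positivity) h'
    exact Nat.le_of_dvd (by positivity) ⟨r, h.symm⟩
  · haveI := Fintype.ofFinite (T : Subgroup C)
    rw [Nat.card_eq_fintype_card, Fintype.card_subtype_compl, Fintype.card_subtype_eq,
      ← Nat.card_eq_fintype_card]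
    rw [← hV, Nat.card_congr (T.equiv V).toEquiv]

/-- A sum over elements of order three as a sum over their classes. -/
theorem sum_three [Fintype G] [DecidableEq (ConjClasses G)] (f : G → ℕ)
    (hf : ∀ g y, f (g * y * g⁻¹) = f y) :
    ∑ y ∈ Finset.univ.filter (fun y : G => orderOf y = 3), f y =
      ∑ c ∈ (Finset.univ.filter fun y : G => orderOf y = 3).image ConjClasses.mk,
        95040 / Nat.card (cen (Quotient.out c)) * f (Quotient.out c) := by
  classical
  rw [← Finset.sum_fiberwise_of_maps_to (fun y hy => Finset.mem_image_of_mem ConjClasses.mk hy)]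
  refine Finset.sum_congr rfl fun c hc => ?_
  obtain ⟨y, hy, rfl⟩ := Finset.mem_image.1 hc
  set v := Quotient.out (ConjClasses.mk y) with hv
  have hvc : ConjClasses.mk v = ConjClasses.mk y := Quotient.out_eq _
  have hfib : ((Finset.univ.filter fun y : G => orderOf y = 3).filter fun a =>
      ConjClasses.mk a = ConjClasses.mk y) = Finset.univ.filter fun a => IsConj v a := by
    ext a
    simp only [Finset.mem_filter, Finset.mem_univ, true_and]
    constructor
    · exact fun h => (ConjClasses.mk_eq_mk_iff_isConj.1 (h.2.trans hvc.symm)).symm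
    · intro h
      refine ⟨?_, (ConjClasses.mk_eq_mk_iff_isConj.2 h).symm.trans hvc⟩
      obtain ⟨g, hg⟩ := isConj_iff.1 ((ConjClasses.mk_eq_mk_iff_isConj.1 hvc.symm).trans h)
      rw [← hg, ord_conj]
      exact (Finset.mem_filter.1 hy).2
  rw [hfib, Finset.sum_const_nat (m := f v) fun a ha => ?_]
  · congr 1
    rw [← Fintype.card_subtype, ← Nat.card_eq_fintype_card, ← F.card,
      ← (Subgroup.centralizer ({v} : Set G)).card_mul_index,
      Nat.mul_div_cancel_left _ Nat.card_pos, ← CfsgLib.Base.Solutions.card_conjClass v]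
    refine Nat.card_congr (Equiv.subtypeEquivRight fun a => ?_)
    rw [ConjClasses.mem_carrier_iff_mk_eq, ConjClasses.mk_eq_mk_iff_isConj, isConj_comm]
  · obtain ⟨g, hg⟩ := isConj_iff.1 (Finset.mem_filter.1 ha).2
    rw [← hg, hf]

/-- The pairs of commuting elements of orders three and two. -/
theorem sum_nI [Fintype G] :
    ∑ y ∈ Finset.univ.filter (fun y : G => orderOf y = 3), nI y = 23760 := by
  classical
  rw [Finset.sum_subtype (p := fun y : G => orderOf y = 3) _ (by simp) nI]
  unfold nI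
  rw [← Nat.card_sigma, ← F.c6]
  refine Nat.card_congr (Equiv.ofBijective (fun p => ⟨p.2.1 * p.1.1, ?_⟩) ⟨?_, ?_⟩)
  · rw [Commute.orderOf_mul_eq_mul_orderOf_of_coprime (show Commute p.2.1 p.1.1 from p.2.2.2)
      (by rw [p.2.2.1, p.1.2]; norm_num), p.2.2.1, p.1.2]
  · rintro ⟨⟨y, hy⟩, a, ha, hay⟩ ⟨⟨z, hz⟩, c, hc, hcz⟩ h
    have h' : a * y = c * z := congrArg Subtype.val h
    have e : ∀ {u v : G}, orderOf u = 2 → orderOf v = 3 → u * v = v * u → (u * v) ^ 4 = v := by
      intro u v hu hv huv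
      have h2 : u ^ 2 = 1 := by rw [← hu, pow_orderOf_eq_one]
      have h3 : v ^ 3 = 1 := by rw [← hv, pow_orderOf_eq_one]
      rw [(show Commute u v from huv).mul_pow, show 4 = 2 * 2 from rfl, pow_mul, h2, one_pow,
        one_mul, show 2 * 2 = 3 + 1 from rfl, pow_add, h3, one_mul, pow_one]
    obtain rfl : y = z := by rw [← e ha hy hay, ← e hc hz hcz, h']
    obtain rfl : a = c := mul_right_cancel h'
    rfl
  · rintro ⟨g, hg⟩
    have hg6 : g ^ 6 = 1 := by rw [← hg, pow_orderOf_eq_one]
    have h3 : orderOf (g ^ 4) = 3 := by rw [orderOf_pow, hg]; norm_num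
    have h2 : orderOf (g ^ 3) = 2 := by rw [orderOf_pow, hg]; norm_num
    refine ⟨⟨⟨g ^ 4, h3⟩, g ^ 3, h2, by rw [← pow_add, ← pow_add]⟩, Subtype.ext ?_⟩
    show g ^ 3 * g ^ 4 = g
    rw [← pow_add, show 3 + 4 = 6 + 1 from rfl, pow_add, hg6, one_mul, pow_one]

end Facts

end CfsgLib.M12Nse
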