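import Cfsg.Agent.Lib.M12Nse.Defs

/-!
# The local structure at the prime three
-/

set_option autoImplicit false

namespace CfsgLib.M12Nse

universe u

variable (G : Type u) [Group G]

/-- The centralizers of the elements of order three. -/
structure Local : Prop where
  three : ∀ y : G, orderOf y = 3 →
    (Nat.card (Subgroup.centralizer ({y} : Set G)) = 54 ∧
        Nat.card {a : G // orderOf a = 2 ∧ a * y = y * a} = 9) ∨
      (Nat.card (Subgroup.centralizer ({y} : Set G)) = 36 ∧
        Nat.card {a : G // orderOf a = 2 ∧ a * y = y * a} = 3)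
  card36 : Nat.card {y : G // orderOf y = 3 ∧
    Nat.card (Subgroup.centralizer ({y} : Set G)) = 36} = 2640
  no_nine : ∀ a : G, orderOf a = 2 → ¬ 9 ∣ Nat.card (Subgroup.centralizer ({a} : Set G))

end CfsgLib.M12Nse
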