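import Cfsg.Agent.Lib.M12Nse.Basic
import Cfsg.Agent.Lib.M12Nse.Local
import Cfsg.Agent.Lib.Small.Order168
import Cfsg.Agent.Lib.Small.Basic

/-!
# The two classes of involutions

An involution commuting with an element of order five has centralizer of order 240; the others form
one class with centralizers of order 192, in which the elements of order three have centralizer of
order six.
-/

set_option autoImplicit false
set_option linter.unusedSectionVars false
set_option linter.style.haveILetI false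

namespace CfsgLib.M12Nse

universe u

variable {G : Type u} [Group G]

/-- In a subgroup of twice odd order containing commuting elements of orders two and that odd
number, the involution is unique. -/
theorem unique_invol {D : Subgroup G} {p : ℕ} (hp : Odd p) (hD : Nat.card D = 2 * p) [Finite G]
    {y t a : G} (hy : orderOf y = p) (ht : orderOf t = 2) (hyD : y ∈ D) (htD : t ∈ D)
    (h : t * y = y * t) (haD : a ∈ D) (ha : orderOf a = 2) : a = t := by
  have hc : (orderOf t).Coprime (orderOf y) := by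
    rw [ht, hy]; exact hp.coprime_two_left
  have hx : orderOf (t * y) = 2 * p := by
    rw [Commute.orderOf_mul_eq_mul_orderOf_of_coprime h hc, ht, hy]
  have hz : Subgroup.zpowers (t * y) = D :=
    Subgroup.eq_of_le_of_card_ge (Subgroup.zpowers_le.2 (mul_mem htD hyD))
      (by rw [Nat.card_zpowers, hx, hD])
  classical
  have key : ∀ b, b ∈ D → orderOf b = 2 → b = (t * y) ^ p := by
    intro b hbD hb
    obtain ⟨k, hk, rfl⟩ : ∃ k < orderOf (t * y), (t * y) ^ k = b := by
      have h' : b ∈ Subgroup.zpowers (t * y) := hz.symm ▸ hbD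
      rw [mem_zpowers_iff_mem_range_orderOf, Finset.mem_image] at h'
      simpa using h'
    have h2 := pow_orderOf_eq_one ((t * y) ^ k)
    rw [hb, ← pow_mul] at h2
    have hd := orderOf_dvd_of_pow_eq_one h2
    rw [hx, mul_comm k 2] at hd
    obtain ⟨m, hm⟩ := Nat.dvd_of_mul_dvd_mul_left (by norm_num) hd
    rw [hx] at hk
    have hm2 : m < 2 := by
      by_contra hge
      have : p * 2 ≤ p * m := Nat.mul_le_mul_left p (by omega)
      omega
    interval_cases m
    · rw [hm, Nat.mul_zero, pow_zero, orderOf_one] at hb; omega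
    · rw [hm, Nat.mul_one]
  exact (key a haD ha).trans (key t htD ht).symm

variable [Finite G]

/-- pairs counted along the first coordinate -/
theorem pairs_card {P Q : G → Prop} {R : G → G → Prop} {k : ℕ}
    (h : ∀ a, P a → Nat.card {b : G // Q b ∧ R a b} = k) :
    Nat.card {p : G × G // P p.1 ∧ Q p.2 ∧ R p.1 p.2} = Nat.card {a : G // P a} * k := by
  classical
  haveI := Fintype.ofFinite G
  have e : {p : G × G // P p.1 ∧ Q p.2 ∧ R p.1 p.2} ≃ Σ a : {a : G // P a}, {b : G // Q b ∧ R a b} :=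
    { toFun := fun p => ⟨⟨p.1.1, p.2.1⟩, ⟨p.1.2, p.2.2⟩⟩
      invFun := fun s => ⟨(s.1.1, s.2.1), s.1.2, s.2.2⟩
      left_inv := fun p => rfl
      right_inv := fun s => rfl }
  rw [Nat.card_congr e, Nat.card_sigma, Finset.sum_const_nat (m := k) fun a _ => h a.1 a.2,
    Finset.card_univ, ← Nat.card_eq_fintype_card]

theorem card_split {α : Type*} [Finite α] (p q : α → Prop) :
    Nat.card {a // p a} = Nat.card {a // p a ∧ q a} + Nat.card {a // p a ∧ ¬ q a} := by
  classical
  haveI := Fintype.ofFinite α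
  simp only [Nat.card_eq_fintype_card, Fintype.card_subtype]
  rw [← Finset.card_filter_add_card_filter_not (s := Finset.univ.filter p) q,
    Finset.filter_filter, Finset.filter_filter]

theorem card_class (v : G) :
    Nat.card {b : G // IsConj v b} * Nat.card (cen v) = Nat.card G := by
  rw [← (cen v).card_mul_index, mul_comm, ← CfsgLib.Base.Solutions.card_conjClass v]
  congr 1

theorem orderOf_of_isConj {v a : G} (h : IsConj v a) : orderOf a = orderOf v := by
  obtain ⟨g, rfl⟩ := isConj_iff.1 h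
  exact ord_conj g v

/-- Conjugate elements commute with equally many elements of a conjugation invariant set. -/
theorem card_commute_congr {P : G → Prop} (hP : ∀ g b, P (g * b * g⁻¹) ↔ P b) {v a : G}
    (h : IsConj v a) :
    Nat.card {b : G // P b ∧ b * a = a * b} = Nat.card {b : G // P b ∧ b * v = v * b} := by
  obtain ⟨g, rfl⟩ := isConj_iff.1 h
  refine (Nat.card_congr ((MulAut.conj g).toEquiv.subtypeEquiv fun b => ?_)).symm
  show _ ↔ P (g * b * g⁻¹) ∧ g * b * g⁻¹ * (g * v * g⁻¹) = g * v * g⁻¹ * (g * b * g⁻¹)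
  rw [hP, conj_mul, conj_mul, mul_left_inj, mul_right_inj]

/-- The elements of order three in a centralizer, by its Sylow subgroups. -/
theorem card_three_cen {v : G} {a m : ℕ} (hC : Nat.card (cen v) = 3 ^ a * m) (ha : a = 1)
    (hm : ¬ 3 ∣ m) :
    ∃ n, n ∣ m ∧ n % 3 = 1 ∧ Nat.card {y : G // orderOf y = 3 ∧ y * v = v * y} = 2 * n := by
  haveI : Fact (Nat.Prime 3) := ⟨Nat.prime_three⟩
  subst ha
  refine ⟨_, CfsgLib.Small.card_sylow_dvd 1 m hC hm, card_sylow_modEq_one 3 _, ?_⟩
  rw [mul_comm, ← CfsgLib.Small.card_orderOf_eq_prime (G := cen v) fun P => by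
    simpa using CfsgLib.Small.card_sylow_eq 1 m hC hm P]
  exact Nat.card_congr
    { toFun := fun y => ⟨⟨y.1, mem_cen.2 y.2.2⟩, by rw [← Subgroup.orderOf_coe]; exact y.2.1⟩
      invFun := fun y => ⟨y.1.1, by rw [Subgroup.orderOf_coe]; exact y.2, mem_cen.1 y.1.2⟩
      left_inv := fun y => rfl
      right_inv := fun y => rfl }

/-- An element has at most as many conjugates as there are elements of its order. -/
theorem le_card_inter {v y : G} {k : ℕ} (hy : y * v = v * y)
    (hk : Nat.card {x : G // orderOf x = orderOf y ∧ x * v = v * x} = k) :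
    Nat.card (cen v) ≤ Nat.card (cen v ⊓ cen y : Subgroup G) * k := by
  set y' : cen v := ⟨y, mem_cen.2 hy⟩
  set R := Subgroup.centralizer ({y'} : Set (cen v)) with hR
  have hi : R.index ≤ k := by
    rw [hR, ← CfsgLib.Base.Solutions.card_conjClass, ← hk]
    refine Nat.card_le_card_of_injective (fun c => ⟨c.1.1, ?_, mem_cen.1 c.1.2⟩) fun c d h => ?_
    · have hc : IsConj y' c.1 := (ConjClasses.mk_eq_mk_iff_isConj.1
        (ConjClasses.mem_carrier_iff_mk_eq.1 c.2)).symm
      obtain ⟨g, hg⟩ := isConj_iff.1 hc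
      rw [show (c.1.1 : G) = g.1 * y * (g.1)⁻¹ from (congrArg Subtype.val hg).symm, ord_conj]
    · exact Subtype.ext (Subtype.ext (congrArg Subtype.val h :))
  have hR' : Nat.card R ≤ Nat.card (cen v ⊓ cen y : Subgroup G) :=
    Nat.card_le_card_of_injective (fun r => ⟨r.1.1, r.1.2, mem_cen.2
      (congrArg Subtype.val (Subgroup.mem_centralizer_singleton_iff.1 r.2) :)⟩)
      fun r s h => Subtype.ext (Subtype.ext (congrArg Subtype.val h :))
  rw [← R.card_mul_index]
  exact Nat.mul_le_mul hR' hi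

/-- The two classes of involutions. -/
structure Invols (u t : G) : Prop where
  ou : orderOf u = 2
  ot : orderOf t = 2
  cu : Nat.card (cen u) = 240
  ct : Nat.card (cen t) = 192
  ne : ¬ IsConj u t
  classes : ∀ a : G, orderOf a = 2 → IsConj u a ∨ IsConj t a
  cent : ∀ y : G, orderOf y = 3 → y * t = t * y → Nat.card (cen t ⊓ cen y : Subgroup G) = 6

theorem exists_invols (F : Facts G) (L : Local G) : ∃ u t : G, Invols u t := by
  classical
  haveI : Fact (Nat.Prime 2) := ⟨Nat.prime_two⟩
  haveI : Fact (Nat.Prime 3) := ⟨Nat.prime_three⟩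
  haveI : Fact (Nat.Prime 5) := ⟨by norm_num⟩
  haveI : Fact (Nat.Prime 11) := ⟨by norm_num⟩
  -- an involution commuting with an element of order five
  obtain ⟨g, hg⟩ := exists_prime_orderOf_dvd_card' (G := G) 5 (by rw [F.card]; norm_num)
  obtain ⟨⟨u, hug⟩, hu⟩ := exists_prime_orderOf_dvd_card' (G := cen g) 2
    (by rw [F.cent5 g hg]; norm_num)
  rw [Subgroup.orderOf_mk] at hu
  have huniq : ∀ a, orderOf a = 2 → a * g = g * a → a = u := fun a ha hag =>
    unique_invol (p := 5) ⟨2, rfl⟩ (F.cent5 g hg) hg hu (mem_cen.2 rfl) hug (mem_cen.1 hug)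
      (mem_cen.2 hag) ha
  obtain ⟨P, hP⟩ := (IsPGroup.of_card (p := 5) (n := 1)
    (show Nat.card (Subgroup.zpowers g) = 5 ^ 1 by rw [Nat.card_zpowers, hg, pow_one])).exists_le_sylow
  have hP5 := F.card_sylow 5 (a := 1) (m := 19008) (by norm_num) (by norm_num) P
  have hPg : Subgroup.zpowers g = (P : Subgroup G) :=
    Subgroup.eq_of_le_of_card_ge hP (by rw [Nat.card_zpowers, hg, hP5, pow_one])
  have hgP : ∀ a, a * g = g * a → ∀ z ∈ (P : Subgroup G), a * z = z * a := fun a ha z hz => by
    obtain ⟨k, rfl⟩ := Subgroup.mem_zpowers_iff.1 (hPg.symm ▸ hz)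
    exact ((show Commute a g from ha).zpow_right k).eq
  have hPu : (P : Subgroup G) ≤ cen u := fun z hz => mem_cen.2 (hgP u (mem_cen.1 hug) z hz).symm
  have hNu : Subgroup.normalizer ((P : Subgroup G) : Set G) ≤ cen u := by
    intro n hn
    have hm : n⁻¹ * g * n ∈ (P : Subgroup G) := by
      have := (Subgroup.mem_normalizer_iff.1 (inv_mem hn) g).1 (hP (Subgroup.mem_zpowers g))
      rwa [inv_inv] at this
    have h := huniq (n * u * n⁻¹) ((ord_conj n u).trans hu) (by
      calc n * u * n⁻¹ * g = n * (u * (n⁻¹ * g * n)) * n⁻¹ := by group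
        _ = n * ((n⁻¹ * g * n) * u) * n⁻¹ := by rw [hgP u (mem_cen.1 hug) _ hm]
        _ = g * (n * u * n⁻¹) := by group)
    rw [mem_cen]
    exact mul_inv_eq_iff_eq_mul.1 h
  have hcu : Nat.card (cen u) = 240 := by
    have hd : Nat.card (cen u) ∣ 95040 := F.card ▸ (cen u).card_subgroup_dvd_card
    have h11 : ¬ 11 ∣ Nat.card (cen u) := fun h => by
      obtain ⟨z, hz⟩ := exists_prime_orderOf_dvd_card' 11 h
      rw [← Subgroup.orderOf_coe] at hz
      have := F.mul_order (mem_cen.1 z.2) (by rw [hz, hu]; norm_num)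
      rw [hz, hu] at this
      simp at this
    have h9 := L.no_nine u hu
    obtain ⟨q, hq⟩ : 40 ∣ Nat.card (cen u) := F.norm5 P ▸ Subgroup.card_dvd_of_le hNu
    have hmod : q % 5 = 1 := by
      have h1 := card_sylow_modEq_one 5 (cen u)
      have h2 : Nat.card (Sylow 5 (cen u)) =
          (Subgroup.normalizer ((P.subtype hPu : Subgroup (cen u)) : Set (cen u))).index :=
        Sylow.card_eq_index_normalizer _
      rw [Sylow.coe_subtype, ← Subgroup.subgroupOf_normalizer_eq hPu] at h2
      have h3 := ((Subgroup.normalizer ((P : Subgroup G) : Set G)).subgroupOf (cen u)).card_mul_index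
      rw [Nat.card_congr (Subgroup.subgroupOfEquivOfLe hNu).toEquiv, F.norm5 P, hq, ← h2] at h3
      have : Nat.card (Sylow 5 (cen u)) = q := Nat.eq_of_mul_eq_mul_left (by norm_num) h3
      rw [← this]
      exact h1
    have hq' : q ∣ 2376 := by
      rw [hq, show 95040 = 40 * 2376 by norm_num] at hd
      exact Nat.dvd_of_mul_dvd_mul_left (by norm_num) hd
    have hcl := card_class u
    have hle : Nat.card {b : G // IsConj u b} ≤ 891 := F.c2 ▸ Nat.card_le_card_of_injective
      (fun b => (⟨b.1, (orderOf_of_isConj b.2).trans hu⟩ : {g : G // orderOf g = 2}))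
      fun b c h => Subtype.ext (congrArg Subtype.val h :)
    rw [F.card] at hcl
    have hq3 : 3 ≤ q := by
      by_contra hlt
      have : Nat.card (cen u) ≤ 80 := by omega
      nlinarith
    rw [hq] at h11 h9
    have key : ∀ m ∈ Nat.divisors 2376, ¬ 11 ∣ 40 * m → ¬ 9 ∣ 40 * m → m % 5 = 1 → 3 ≤ m →
        m = 6 := by decide +kernel
    rw [hq, key q (Nat.mem_divisors.2 ⟨hq', by norm_num⟩) h11 h9 hmod hq3]
  have hU : Nat.card {b : G // IsConj u b} = 396 := by
    have := card_class u
    rw [hcu, F.card] at this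
    omega
  -- the other involutions
  have h5conj : ∀ t, orderOf t = 2 → 5 ∣ Nat.card (cen t) → IsConj u t := by
    intro t ht h5
    obtain ⟨z, hz⟩ := exists_prime_orderOf_dvd_card' 5 h5
    rw [← Subgroup.orderOf_coe] at hz
    obtain ⟨Q, hQ⟩ := (IsPGroup.of_card (p := 5) (n := 1)
      (show Nat.card (Subgroup.zpowers (z : G)) = 5 ^ 1 by
        rw [Nat.card_zpowers, hz, pow_one])).exists_le_sylow
    obtain ⟨c, hc⟩ := MulAction.exists_smul_eq G Q P
    have hzP : c * z * c⁻¹ ∈ (P : Subgroup G) := by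
      rw [← hc, Sylow.smul_def]
      exact Subgroup.mem_map_of_mem (MulAut.conj c).toMonoidHom (hQ (Subgroup.mem_zpowers _))
    have hzc : orderOf (c * z * c⁻¹) = 5 := (ord_conj c _).trans hz
    have hgz : Subgroup.zpowers (c * z * c⁻¹) = Subgroup.zpowers g :=
      Subgroup.eq_of_le_of_card_ge (hPg ▸ Subgroup.zpowers_le.2 hzP)
        (by rw [Nat.card_zpowers, Nat.card_zpowers, hg, hzc])
    obtain ⟨k, hk⟩ := Subgroup.mem_zpowers_iff.1 (hgz ▸ Subgroup.mem_zpowers g)
    have hct : Commute (c * t * c⁻¹) (c * z * c⁻¹) :=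
      (show Commute t (z : G) from (mem_cen.1 z.2).symm).map (MulAut.conj c).toMonoidHom
    have := huniq (c * t * c⁻¹) ((ord_conj c t).trans ht) (by rw [← hk]; exact (hct.zpow_right k).eq)
    exact (isConj_iff.2 ⟨c, this⟩).symm
  have hct : ∀ t, orderOf t = 2 → ¬ IsConj u t →
      Nat.card (cen t) = 192 ∧ Nat.card {b : G // IsConj t b} = 495 := by
    intro t ht hne
    have h11 : ¬ 11 ∣ Nat.card (cen t) := fun h => by
      obtain ⟨z, hz⟩ := exists_prime_orderOf_dvd_card' 11 h
      rw [← Subgroup.orderOf_coe] at hz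
      have := F.mul_order (mem_cen.1 z.2) (by rw [hz, ht]; norm_num)
      rw [hz, ht] at this
      simp at this
    have h5 : ¬ 5 ∣ Nat.card (cen t) := fun h => hne (h5conj t ht h)
    have h9 := L.no_nine t ht
    have hd : Nat.card (cen t) ∣ 95040 := F.card ▸ (cen t).card_subgroup_dvd_card
    have hsum : Nat.card {b : G // IsConj t b} + 396 ≤ 891 := by
      have hdis := card_split (fun b : G => orderOf b = 2) (fun b => IsConj u b)
      rw [show Nat.card {b : G // orderOf b = 2} = 891 from F.c2,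
        Nat.card_congr (Equiv.subtypeEquivRight (q := fun b => IsConj u b) fun b =>
          ⟨And.right, fun h => ⟨(orderOf_of_isConj h).trans hu, h⟩⟩), hU] at hdis
      have := Nat.card_le_card_of_injective
        (fun b : {b : G // IsConj t b} => (⟨b.1, (orderOf_of_isConj b.2).trans ht,
          fun h => hne (h.trans b.2.symm)⟩ : {b : G // orderOf b = 2 ∧ ¬ IsConj u b}))
        fun b c h => Subtype.ext (congrArg Subtype.val h :)
      omega
    have hd192 : Nat.card (cen t) ∣ 64 * 3 := by
      have h1 : Nat.card (cen t) ∣ 64 * 27 := by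
        refine Nat.Coprime.dvd_of_dvd_mul_right (Nat.Coprime.mul_right ?_ ?_)
          (show _ ∣ 64 * 27 * (5 * 11) from hd)
        · exact ((Nat.Prime.coprime_iff_not_dvd (by norm_num)).2 h5).symm
        · exact ((Nat.Prime.coprime_iff_not_dvd (by norm_num)).2 h11).symm
      obtain ⟨a, b, ha, hb, hab⟩ := Nat.dvd_mul.1 h1
      obtain ⟨i, hi, rfl⟩ := (Nat.dvd_prime_pow Nat.prime_three).1 (show b ∣ 3 ^ 3 from hb)
      rw [← hab] at h9 ⊢
      refine Nat.mul_dvd_mul ha ?_
      rcases Nat.lt_or_ge i 2 with hi2 | hi2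
      · interval_cases i <;> norm_num
      · exact absurd ((pow_dvd_pow 3 hi2).mul_left a) h9
    have hcl := card_class t
    rw [F.card] at hcl
    have hle := Nat.le_of_dvd (by norm_num) hd192
    have : 192 ≤ Nat.card (cen t) := by
      by_contra hlt
      have : Nat.card {b : G // IsConj t b} * Nat.card (cen t) ≤ 495 * 191 :=
        Nat.mul_le_mul (by omega) (by omega)
      omega
    have hc : Nat.card (cen t) = 192 := by omega
    rw [hc] at hcl
    exact ⟨hc, by omega⟩
  obtain ⟨t, ht, hne⟩ : ∃ t, orderOf t = 2 ∧ ¬ IsConj u t := by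
    by_contra hno
    push Not at hno
    have : cnt G 2 = 396 := hU ▸ Nat.card_congr (Equiv.subtypeEquivRight fun b =>
      ⟨hno b, fun h => (orderOf_of_isConj h).trans hu⟩)
    rw [F.c2] at this
    omega
  obtain ⟨hcT, hT⟩ := hct t ht hne
  have hcls : ∀ a : G, orderOf a = 2 → IsConj u a ∨ IsConj t a := by
    intro a ha
    by_contra hno
    push Not at hno
    obtain ⟨-, hA⟩ := hct a ha hno.1
    have h1 := card_split (fun b : G => orderOf b = 2) (fun b => IsConj u b)
    have h2 := card_split (fun b : G => orderOf b = 2 ∧ ¬ IsConj u b) (fun b => IsConj t b)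
    have hB : Nat.card {b : G // IsConj a b} ≤
        Nat.card {b : G // (orderOf b = 2 ∧ ¬ IsConj u b) ∧ ¬ IsConj t b} :=
      Nat.card_le_card_of_injective
        (fun b => ⟨b.1, ⟨(orderOf_of_isConj b.2).trans ha, fun h => hno.1 (h.trans b.2.symm)⟩,
          fun h => hno.2 (h.trans b.2.symm)⟩)
        fun b c h => Subtype.ext (congrArg Subtype.val h :)
    have hB' : Nat.card {b : G // IsConj t b} ≤
        Nat.card {b : G // (orderOf b = 2 ∧ ¬ IsConj u b) ∧ IsConj t b} :=
      Nat.card_le_card_of_injective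
        (fun b => ⟨b.1, ⟨(orderOf_of_isConj b.2).trans ht, fun h => hne (h.trans b.2.symm)⟩, b.2⟩)
        fun b c h => Subtype.ext (congrArg Subtype.val h :)
    rw [show Nat.card {b : G // orderOf b = 2} = 891 from F.c2,
      Nat.card_congr (Equiv.subtypeEquivRight (q := fun b => IsConj u b) fun b =>
        ⟨And.right, fun h => ⟨(orderOf_of_isConj h).trans hu, h⟩⟩), hU] at h1
    omega
  -- pairs of an element of order three and an involution
  let T36 : G → Prop := fun y => orderOf y = 3 ∧ Nat.card (cen y) = 36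
  have hnI36 : Nat.card {p : G × G // T36 p.1 ∧ orderOf p.2 = 2 ∧ p.1 * p.2 = p.2 * p.1} = 7920 := by
    refine (pairs_card (P := T36) (Q := fun b => orderOf b = 2) (R := fun a b => a * b = b * a)
      (k := 3) fun y hy => ?_).trans ?_
    rotate_left
    · rw [show Nat.card {y : G // T36 y} = 2640 from L.card36]
    · rcases L.three y hy.1 with h | h
      · exact absurd (h.1.symm.trans hy.2) (by norm_num)
      · rw [← h.2]
        exact Nat.card_congr (Equiv.subtypeEquivRight fun b => and_congr_right fun _ => eq_comm)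
  have hnIall : Nat.card {p : G × G // orderOf p.2 = 2 ∧ orderOf p.1 = 3 ∧ p.1 * p.2 = p.2 * p.1} =
      23760 := by
    rw [card_split _ fun p : G × G => Nat.card (cen p.1) = 36,
      Nat.card_congr (Equiv.subtypeEquivRight
        (q := fun p : G × G => T36 p.1 ∧ orderOf p.2 = 2 ∧ p.1 * p.2 = p.2 * p.1) fun p => by
          simp only [T36]; tauto), hnI36,
      Nat.card_congr (Equiv.subtypeEquivRight
        (q := fun p : G × G => (orderOf p.1 = 3 ∧ ¬ Nat.card (cen p.1) = 36) ∧ orderOf p.2 = 2 ∧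
          p.1 * p.2 = p.2 * p.1) fun p => by tauto)]
    have h9 : Nat.card {p : G × G // (orderOf p.1 = 3 ∧ ¬ Nat.card (cen p.1) = 36) ∧
        orderOf p.2 = 2 ∧ p.1 * p.2 = p.2 * p.1} =
          Nat.card {y : G // orderOf y = 3 ∧ ¬ Nat.card (cen y) = 36} * 9 := by
      refine pairs_card (P := fun y => orderOf y = 3 ∧ ¬ Nat.card (cen y) = 36)
        (Q := fun b => orderOf b = 2) (R := fun a b => a * b = b * a) fun y hy => ?_
      rcases L.three y hy.1 with h | h
      · rw [← h.2]
        exact Nat.card_congr (Equiv.subtypeEquivRight fun b => and_congr_right fun _ => eq_comm)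
      · exact absurd h.1 hy.2
    have h := card_split (fun y : G => orderOf y = 3) fun y => Nat.card (cen y) = 36
    rw [show Nat.card {y : G // orderOf y = 3} = 4400 from F.c3,
      show Nat.card {y : G // orderOf y = 3 ∧ Nat.card (cen y) = 36} = 2640 from L.card36] at h
    omega
  have h3inv : ∀ g y : G, orderOf (g * y * g⁻¹) = 3 ↔ orderOf y = 3 := fun g y => by rw [ord_conj]
  have hswap : ∀ (P : G → Prop) (v : G), (∀ a, P a ↔ IsConj v a) →
      Nat.card {p : G × G // P p.2 ∧ orderOf p.1 = 3 ∧ p.1 * p.2 = p.2 * p.1} =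
        Nat.card {b : G // IsConj v b} * Nat.card {y : G // orderOf y = 3 ∧ y * v = v * y} := by
    intro P v hP
    rw [← pairs_card (P := fun a => IsConj v a) (Q := fun y => orderOf y = 3)
      (R := fun a y => y * a = a * y) fun a ha => card_commute_congr h3inv ha]
    refine Nat.card_congr ((Equiv.prodComm G G).subtypeEquiv fun p => ?_)
    show _ ↔ IsConj v p.2 ∧ orderOf p.1 = 3 ∧ p.1 * p.2 = p.2 * p.1
    rw [hP]
  obtain ⟨n, hn, hn3, hA⟩ := card_three_cen (v := u) (a := 1) (m := 80) (by rw [hcu]; norm_num) rfl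
    (by norm_num)
  obtain ⟨n', hn', hn3', hB⟩ := card_three_cen (v := t) (a := 1) (m := 64) (by rw [hcT]; norm_num)
    rfl (by norm_num)
  have hnu : Nat.card {p : G × G // IsConj u p.2 ∧ orderOf p.1 = 3 ∧ p.1 * p.2 = p.2 * p.1} =
      396 * (2 * n) := by rw [hswap _ u fun _ => Iff.rfl, hU, hA]
  have hsplit := card_split (fun p : G × G => orderOf p.2 = 2 ∧ orderOf p.1 = 3 ∧
    p.1 * p.2 = p.2 * p.1) fun p => IsConj u p.2
  rw [hnIall, Nat.card_congr (Equiv.subtypeEquivRight
      (q := fun p : G × G => IsConj u p.2 ∧ orderOf p.1 = 3 ∧ p.1 * p.2 = p.2 * p.1) fun p =>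
      ⟨fun h => ⟨h.2, h.1.2⟩, fun h => ⟨⟨(orderOf_of_isConj h.1).trans hu, h.2⟩, h.1⟩⟩), hnu,
    Nat.card_congr (Equiv.subtypeEquivRight
      (q := fun p : G × G => IsConj t p.2 ∧ orderOf p.1 = 3 ∧ p.1 * p.2 = p.2 * p.1) fun p =>
      ⟨fun h => ⟨(hcls _ h.1.1).resolve_left h.2, h.1.2⟩, fun h =>
        ⟨⟨(orderOf_of_isConj h.1).trans ht, h.2⟩, fun h' => hne (h'.trans h.1.symm)⟩⟩),
    hswap _ t fun _ => Iff.rfl, hT, hB] at hsplit
  obtain ⟨rfl, rfl⟩ : n = 10 ∧ n' = 16 := by
    obtain ⟨i, hi, rfl⟩ := (Nat.dvd_prime_pow Nat.prime_two).1 (show n' ∣ 2 ^ 6 from hn')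
    have h80 : n ∈ Nat.divisors 80 := Nat.mem_divisors.2 ⟨hn, by norm_num⟩
    have hs : ∀ n ∈ Nat.divisors 80, n ∈ [1, 2, 4, 5, 8, 10, 16, 20, 40, 80] := by decide
    have := hs n h80
    simp only [List.mem_cons, List.not_mem_nil, or_false] at this
    interval_cases i <;> omega
  refine ⟨u, t, hu, ht, hcu, hcT, hne, hcls, fun y hy hyt => ?_⟩
  -- the pairs with smaller centralizer use up the first class
  have hcard36 : ∀ z : G, orderOf z = 3 → z * u = u * z → Nat.card (cen z) = 36 := by
    intro z hz hzu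
    rcases L.three z hz with h | h
    · exfalso
      have h1 := le_card_inter hzu (k := 20) (by rw [hz]; exact hA)
      rw [hcu] at h1
      have hd1 : Nat.card (cen u ⊓ cen z : Subgroup G) ∣ 240 :=
        hcu ▸ Subgroup.card_dvd_of_le inf_le_left
      have hd2 : Nat.card (cen u ⊓ cen z : Subgroup G) ∣ 54 :=
        h.1 ▸ Subgroup.card_dvd_of_le inf_le_right
      have := Nat.le_of_dvd (by norm_num) (Nat.dvd_gcd hd1 hd2)
      rw [show Nat.gcd 240 54 = 6 by norm_num] at this
      omega
    · exact h.1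
  have hsub : {p : G × G | IsConj u p.2 ∧ orderOf p.1 = 3 ∧ p.1 * p.2 = p.2 * p.1} ⊆
      {p | T36 p.1 ∧ orderOf p.2 = 2 ∧ p.1 * p.2 = p.2 * p.1} := by
    rintro ⟨z, a⟩ ⟨ha, hz, hza⟩
    obtain ⟨c, hc⟩ := isConj_iff.1 ha.symm
    refine ⟨⟨hz, ?_⟩, (orderOf_of_isConj ha).trans hu, hza⟩
    have h1 := hcard36 (c * z * c⁻¹) ((ord_conj c z).trans hz) (by
      rw [← hc, conj_mul, conj_mul]
      exact congrArg (fun w => c * w * c⁻¹) hza)
    rwa [card_cen_conj] at h1
  have heq := Set.eq_of_subset_of_ncard_le hsub (by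
    rw [← Nat.card_coe_set_eq, ← Nat.card_coe_set_eq]
    exact le_of_eq (hnI36.trans hnu.symm))
  have h54 : Nat.card (cen y) = 54 := by
    rcases L.three y hy with h | h
    · exact h.1
    · exact absurd ((Set.ext_iff.1 heq (y, t)).2 ⟨⟨hy, h.1⟩, ht, hyt⟩).1 hne
  have h1 := le_card_inter hyt (k := 32) (by rw [hy]; exact hB)
  rw [hcT] at h1
  have hd1 : Nat.card (cen t ⊓ cen y : Subgroup G) ∣ 192 := hcT ▸ Subgroup.card_dvd_of_le inf_le_left
  have hd2 : Nat.card (cen t ⊓ cen y : Subgroup G) ∣ 54 := h54 ▸ Subgroup.card_dvd_of_le inf_le_right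
  have := Nat.le_of_dvd (by norm_num) (Nat.dvd_gcd hd1 hd2)
  rw [show Nat.gcd 192 54 = 6 by norm_num] at this
  omega

end CfsgLib.M12Nse
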