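import Cfsg.Agent.Lib.M12Nse.FixThree
import Cfsg.Agent.Lib.M12Nse.InvolClasses
import Cfsg.Agent.Lib.Base.Cores
import Cfsg.Agent.Lib.Transfer.ThompsonTransfer
import Cfsg.Agent.S3344

/-!
# The centralizer of an involution of the second class and the identification of the group

The centralizer has an extraspecial two-core of order 32 with quotient the symmetric group of
degree three, and its involution is not weakly closed in that core.
-/

set_option autoImplicit false
set_option linter.unusedSectionVars false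
set_option linter.style.haveILetI false

namespace CfsgLib.M12Nse

open Subgroup

universe u

variable {G : Type u} [Group G] [Finite G]

theorem mul_self_of_two {a : G} (h : orderOf a = 2) : a * a = 1 := by
  rw [← pow_two, ← h, pow_orderOf_eq_one]

theorem orderOf_two {a : G} (h : a * a = 1) (h1 : a ≠ 1) : orderOf a = 2 :=
  orderOf_eq_prime (by rw [pow_two, h]) h1

/-- The identity and the central involution inside a subgroup of its centralizer. -/
theorem pair_iff {t : G} {N : Subgroup (cen t)} (ht : (⟨t, mem_cen.2 rfl⟩ : cen t) ∈ N) (a : N) :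
    a = 1 ∨ a = ⟨⟨t, mem_cen.2 rfl⟩, ht⟩ ↔ (a : cen t) = 1 ∨ ((a : cen t) : G) = t := by
  constructor
  · rintro (rfl | rfl)
    exacts [Or.inl rfl, Or.inr rfl]
  · rintro (h | h)
    exacts [Or.inl (Subtype.ext h), Or.inr (Subtype.ext (Subtype.ext h))]

theorem exists_core_of_invols {u t : G} (hs : IsSimpleGroup G) (hG : Nat.card G = 95040)
    (I : Invols u t) :
    ∃ (y : cen t) (π : cen t →* Equiv.Perm (Fin 3)), orderOf y = 3 ∧ Function.Surjective π ∧
      π.ker = Cfsg.pCore 2 (cen t) ∧ Nat.card (Cfsg.pCore 2 (cen t)) = 32 ∧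
      (∀ a ∈ Cfsg.pCore 2 (cen t), y * a = a * y ↔ a = 1 ∨ (a : G) = t) ∧
      Cfsg.IsExtraspecial 2 (Cfsg.pCore 2 (cen t)) := by
  classical
  haveI : Fact (Nat.Prime 2) := ⟨Nat.prime_two⟩
  haveI : Fact (Nat.Prime 3) := ⟨Nat.prime_three⟩
  obtain ⟨y, hy⟩ := exists_prime_orderOf_dvd_card' (G := cen t) 3 (by rw [I.ct]; norm_num)
  have hyG : orderOf (y : G) = 3 := (Subgroup.orderOf_coe y).trans hy
  have hD := I.cent y hyG (mem_cen.1 y.2)
  have htt := mul_self_of_two I.ot
  have ht1 : t ≠ 1 := fun h => by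
    have := I.ot
    rw [h, orderOf_one] at this
    omega
  set tK : cen t := ⟨t, mem_cen.2 rfl⟩ with htK
  have htKc : ∀ a : cen t, a * tK = tK * a := fun a => Subtype.ext (mem_cen.1 a.2)
  -- two-elements commuting with y
  have hfix : ∀ a : cen t, y * a = a * y → ∀ k, a ^ 2 ^ k = 1 → a = 1 ∨ (a : G) = t := by
    intro a hay k hk
    have haD : (a : G) ∈ cen t ⊓ cen (y : G) := ⟨a.2, mem_cen.2 (congrArg Subtype.val hay.symm)⟩
    obtain ⟨e, -, he⟩ := (Nat.dvd_prime_pow Nat.prime_two).1 (orderOf_dvd_of_pow_eq_one hk)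
    have hd := Subgroup.orderOf_dvd_natCard _ haD
    rw [hD, Subgroup.orderOf_coe, he] at hd
    rcases e with _ | _ | e
    · exact Or.inl (orderOf_eq_one_iff.1 (by rw [he, pow_zero]))
    · refine Or.inr (unique_invol (p := 3) ⟨1, rfl⟩ hD hyG I.ot ⟨y.2, mem_cen.2 rfl⟩
        ⟨mem_cen.2 rfl, mem_cen.2 (mem_cen.1 y.2).symm⟩ (mem_cen.1 y.2).symm haD ?_)
      rw [Subgroup.orderOf_coe, he]
      rfl
    · have := (pow_dvd_pow 2 (show 2 ≤ e + 1 + 1 by omega)).trans hd
      norm_num at this
  -- normal two-subgroups containing t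
  have hnormal : ∀ N : Subgroup (cen t), ∀ [hN : N.Normal], IsPGroup 2 N → tK ∈ N →
      Nat.card N % 3 = 2 ∧ ∀ a ∈ N, y * a = a * y ↔ a = 1 ∨ (a : G) = t := by
    intro N hN hp ht
    have hiff : ∀ a ∈ N, y * a = a * y ↔ a = 1 ∨ (a : G) = t := by
      intro a ha
      refine ⟨fun h => ?_, ?_⟩
      · obtain ⟨k, hk⟩ := hp ⟨a, ha⟩
        exact hfix a h k (congrArg Subtype.val hk :)
      · rintro (rfl | h)
        · rw [mul_one, one_mul]
        · rw [show a = tK from Subtype.ext h, htKc]
    refine ⟨?_, hiff⟩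
    have h3 : (MulAut.conjNormal (H := N) y) ^ 3 = 1 := by
      rw [← map_pow, ← hy, pow_orderOf_eq_one, map_one]
    have h := CfsgLib.Small.card_fixed_aut_modEq h3 (P := fun _ => True) fun _ _ => trivial
    rw [Nat.card_congr (α := {a : N // True}) (Equiv.subtypeUnivEquiv fun _ => trivial)] at h
    have e : Nat.card {a : N // True ∧ MulAut.conjNormal (H := N) y a = a} = 2 := by
      have hne : (⟨tK, ht⟩ : N) ≠ 1 := fun h =>
        ht1 (congrArg Subtype.val (congrArg Subtype.val h :) :)
      rw [Nat.card_congr (Equiv.subtypeEquivRight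
        (q := fun a : N => a ∈ ({1, ⟨tK, ht⟩} : Set N)) fun a => ?_)]
      · rw [← Set.ncard_pair (Ne.symm hne)]
        exact Nat.card_coe_set_eq _
      · rw [Subtype.ext_iff, MulAut.conjNormal_apply, mul_inv_eq_iff_eq_mul, hiff a a.2,
          Set.mem_insert_iff, Set.mem_singleton_iff, true_and]
        exact (pair_iff ht a).symm
    rw [e] at h
    exact h.symm
  have hS : ∀ S : Sylow 2 (cen t), Nat.card (S : Subgroup (cen t)) = 64 := fun S =>
    (CfsgLib.Small.card_sylow_eq 6 3 (by rw [I.ct]; norm_num) (by norm_num) S).trans (by norm_num)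
  have htP : IsPGroup 2 (Subgroup.zpowers tK) := IsPGroup.of_card (n := 1) (by
    rw [Nat.card_zpowers, pow_one, ← Subgroup.orderOf_coe]; exact I.ot)
  haveI htN : (Subgroup.zpowers tK).Normal := ⟨fun a ha g => by
    obtain ⟨k, rfl⟩ := Subgroup.mem_zpowers_iff.1 ha
    rw [((show Commute g tK from htKc g).zpow_right k).eq, mul_inv_cancel_right]
    exact Subgroup.zpow_mem _ (Subgroup.mem_zpowers _) _⟩
  have htcore : tK ∈ Cfsg.pCore 2 (cen t) :=
    CfsgLib.Base.le_pCore htP (Subgroup.mem_zpowers _)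
  have hn : Nat.card (Sylow 2 (cen t)) = 3 := by
    have hd : Nat.card (Sylow 2 (cen t)) ∣ 3 :=
      CfsgLib.Small.card_sylow_dvd 6 3 (by rw [I.ct]; norm_num) (by norm_num)
    refine ((Nat.dvd_prime Nat.prime_three).1 hd).resolve_left fun h => ?_
    obtain ⟨S⟩ := (inferInstance : Nonempty (Sylow 2 (cen t)))
    haveI := (Nat.card_eq_one_iff_unique.1 h).1
    haveI := S.normal_of_subsingleton
    have := (hnormal (S : Subgroup (cen t)) S.2
      (CfsgLib.Base.pCore_le_sylow S htcore)).1
    rw [hS] at this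
    norm_num at this
  set π₀ := MulAction.toPermHom (cen t) (Sylow 2 (cen t))
  have hker : π₀.ker = Cfsg.pCore 2 (cen t) := by
    have hselfN : ∀ S : Sylow 2 (cen t),
        Subgroup.normalizer ((S : Subgroup (cen t)) : Set (cen t)) = (S : Subgroup (cen t)) := by
      intro S
      refine (Subgroup.eq_of_le_of_card_ge Subgroup.le_normalizer ?_).symm
      have h := (Subgroup.normalizer ((S : Subgroup (cen t)) : Set (cen t))).card_mul_index
      have hi : (Subgroup.normalizer ((S : Subgroup (cen t)) : Set (cen t))).index = 3 :=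
        (Sylow.card_eq_index_normalizer S).symm.trans hn
      rw [hi, I.ct] at h
      rw [hS]
      omega
    refine le_antisymm ?_ ?_
    · rw [CfsgLib.Base.pCore_eq_iInf_sylow]
      refine le_iInf fun S g hg => ?_
      rw [← hselfN S]
      refine Sylow.smul_eq_iff_mem_normalizer.1 ?_
      exact DFunLike.congr_fun (show π₀ g = 1 from hg) S
    · intro g hg
      refine Equiv.ext fun S => ?_
      show g • S = S
      exact Sylow.smul_eq_iff_mem_normalizer.2
        (Subgroup.le_normalizer (CfsgLib.Base.pCore_le_sylow S hg))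
  haveI hcn : (Cfsg.pCore 2 (cen t)).Normal := inferInstance
  have hcp := CfsgLib.Base.isPGroup_pCore 2 (cen t)
  obtain ⟨hmod, hiff⟩ := hnormal (Cfsg.pCore 2 (cen t)) hcp htcore
  haveI : Fintype (Sylow 2 (cen t)) := Fintype.ofFinite _
  have e3 : Sylow 2 (cen t) ≃ Fin 3 :=
    Fintype.equivFinOfCardEq (by rw [← Nat.card_eq_fintype_card, hn])
  set π : cen t →* Equiv.Perm (Fin 3) := e3.permCongrHom.toMonoidHom.comp π₀ with hπ
  have hπker : π.ker = Cfsg.pCore 2 (cen t) := by
    rw [← hker]
    ext g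
    simp [hπ]
  have hrel : Nat.card (Cfsg.pCore 2 (cen t)) * Nat.card π.range = 192 := by
    rw [← hπker, ← Subgroup.index_ker, Subgroup.card_mul_index, I.ct]
  have hrange : Nat.card π.range ∣ 6 := by
    have := π.range.card_subgroup_dvd_card
    rwa [Nat.card_perm, Nat.card_fin] at this
  obtain ⟨e, he⟩ := IsPGroup.iff_card.1 hcp
  have h32 : Nat.card (Cfsg.pCore 2 (cen t)) = 32 ∧ Nat.card π.range = 6 := by
    have hr6 := Nat.le_of_dvd (by norm_num) hrange
    rw [he] at hrel hmod ⊢
    have he6 : e ≤ 6 := by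
      by_contra hlt
      have : 2 ^ 7 ≤ 2 ^ e := Nat.pow_le_pow_right (by norm_num) (by omega)
      have : 0 < Nat.card π.range := Nat.card_pos
      rcases Nat.lt_or_ge (Nat.card π.range) 2 with hr | hr
      · have : Nat.card π.range = 1 := by omega
        rw [this, mul_one] at hrel
        have : (3 : ℕ) ∣ 2 ^ e := hrel ▸ (by norm_num)
        exact absurd (Nat.prime_three.dvd_of_dvd_pow this) (by norm_num)
      · nlinarith
    interval_cases e <;> omega
  have hsurj : Function.Surjective π := MonoidHom.range_eq_top.1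
    (Subgroup.eq_top_of_card_eq _ (by rw [h32.2, Nat.card_perm, Nat.card_fin]; rfl))
  refine ⟨y, π, hy, hsurj, hπker, h32.1, hiff, ?_⟩
  -- a conjugate of u in the core
  haveI := hs
  obtain ⟨S⟩ := (inferInstance : Nonempty (Sylow 2 (cen t)))
  have hSmap : Nat.card ((S : Subgroup (cen t)).map (cen t).subtype) = 64 := by
    rw [Subgroup.card_map_of_injective (cen t).subtype_injective, hS]
  obtain ⟨P, hP⟩ := (IsPGroup.of_card (n := 6)
    (show Nat.card ((S : Subgroup (cen t)).map (cen t).subtype) = 2 ^ 6 from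
      hSmap.trans (by norm_num))).exists_le_sylow
  have hP64 := (CfsgLib.Small.card_sylow_eq 6 1485 (by rw [hG]; norm_num) (by norm_num) P).trans
    (show 2 ^ 6 = 64 by norm_num)
  set Q := (Cfsg.pCore 2 (cen t)).map (cen t).subtype
  have hQP : Q ≤ (P : Subgroup G) :=
    (Subgroup.map_mono (CfsgLib.Base.pCore_le_sylow S)).trans hP
  have hQ32 : Nat.card Q = 32 := by
    rw [Subgroup.card_map_of_injective (cen t).subtype_injective, h32.1]
  have hQi : Q.relIndex (P : Subgroup G) = 2 := by
    have h := (Q.subgroupOf (P : Subgroup G)).card_mul_index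
    rw [Nat.card_congr (Subgroup.subgroupOfEquivOfLe hQP).toEquiv, hQ32, hP64] at h
    rw [Subgroup.relIndex]
    omega
  obtain ⟨g, hg⟩ : ∃ g : G, g * u * g⁻¹ ∈ Q := by
    by_contra hno
    push Not at hno
    obtain ⟨M, hMn, hM2, huM⟩ := CfsgLib.Transfer.exists_index_two_of_not_conj_mem P hQP hQi I.ou hno
    rcases hMn.eq_bot_or_eq_top with h | h
    · rw [h, Subgroup.index_bot, hG] at hM2
      omega
    · exact huM (h ▸ Subgroup.mem_top u)
  obtain ⟨q, hq, hqe⟩ := hg
  have hqu : IsConj u (q : G) := isConj_iff.2 ⟨g, hqe.symm⟩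
  refine FixThree.isExtraspecial (φ := MulAut.conjNormal (H := Cfsg.pCore 2 (cen t)) y)
    (t := ⟨tK, htcore⟩) (q := ⟨q, hq⟩) h32.1 (fun a => Subtype.ext (htKc a.1))
    (fun h => ht1 (congrArg Subtype.val (congrArg Subtype.val h :) :))
    (Subtype.ext (Subtype.ext htt)) ?_ ?_ ?_ ?_
  · rw [← map_pow, ← hy, pow_orderOf_eq_one, map_one]
  · intro a
    rw [Subtype.ext_iff, MulAut.conjNormal_apply, mul_inv_eq_iff_eq_mul, hiff a a.2]
    exact (pair_iff htcore a).symm
  · exact Subtype.ext (Subtype.ext (mul_self_of_two ((orderOf_of_isConj hqu).trans I.ou)))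
  · intro hc
    have hle : Q ≤ cen (q : G) := by
      rintro _ ⟨b, hb, rfl⟩
      exact mem_cen.2 (congrArg Subtype.val
        (congrArg Subtype.val (Subgroup.mem_center_iff.1 hc ⟨b, hb⟩) :) :)
    have h := Subgroup.card_dvd_of_le hle
    obtain ⟨c, hc'⟩ := isConj_iff.1 hqu
    rw [hQ32, ← hc', card_cen_conj, I.cu] at h
    norm_num at h

theorem two_mod_four {N : ℕ} (h : (2 * (N : ℤ) - 32) ^ 2 = 64) : N = 12 ∨ N = 20 := by
  have h1 : (2 * (N : ℤ) - 32 - 8) * (2 * (N : ℤ) - 32 + 8) = 0 := by linear_combination h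
  rcases mul_eq_zero.1 h1 with h2 | h2 <;> omega

theorem perm_three : ∀ σ τ : Equiv.Perm (Fin 3), σ * σ = 1 → σ ≠ 1 → τ * τ * τ = 1 →
    σ * τ * σ⁻¹ * τ = 1 := by decide

/-- The number of elements of a conjugation invariant set is divisible by what divides all class
sizes in it. -/
theorem dvd_card_invariant {H : Type*} [Group H] [Finite H] {p : H → Prop}
    (hp : ∀ v w, IsConj v w → p v → p w) {D : ℕ}
    (h : ∀ v, p v → D ∣ (centralizer ({v} : Set H)).index) : D ∣ Nat.card {v // p v} := by
  classical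
  haveI := Fintype.ofFinite H
  have := CfsgLib.Base.Solutions.dvd_sum_of_conj_invariant (s := Finset.univ.filter p)
    (f := fun _ => 1) (D := D) (fun v w hvw hv => by simpa using hp v w hvw (by simpa using hv))
    (fun _ _ _ => rfl) fun v hv => by simpa using h v (by simpa using hv)
  rwa [Finset.sum_const, smul_eq_mul, mul_one, ← Fintype.card_subtype,
    ← Nat.card_eq_fintype_card] at this

/-- An element of the centralizer outside the core commuting with few elements of the core. -/
theorem card_core_inter_le {t : G} {y a : cen t} (π : cen t →* Equiv.Perm (Fin 3))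
    (hker : π.ker = Cfsg.pCore 2 (cen t)) (hQ : Cfsg.IsExtraspecial 2 (Cfsg.pCore 2 (cen t)))
    (hQ32 : Nat.card (Cfsg.pCore 2 (cen t)) = 32) (ht : orderOf t = 2)
    (hfix : ∀ a ∈ Cfsg.pCore 2 (cen t), y * a = a * y ↔ a = 1 ∨ (a : G) = t) (hy : orderOf y = 3)
    (htQ : (⟨t, mem_cen.2 rfl⟩ : cen t) ∈ Cfsg.pCore 2 (cen t))
    (ha2 : a * a = 1) (ha : a ∉ Cfsg.pCore 2 (cen t)) :
    Nat.card (centralizer ({a} : Set (cen t)) ⊓ Cfsg.pCore 2 (cen t) : Subgroup (cen t)) ≤ 8 := by
  haveI : Fact (Nat.Prime 2) := ⟨Nat.prime_two⟩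
  set R := Cfsg.pCore 2 (cen t) with hR
  haveI hRn : R.Normal := inferInstanceAs (Cfsg.pCore 2 (cen t)).Normal
  by_contra hlt
  push Not at hlt
  set φ : MulAut R := MulAut.conjNormal (H := R) y with hφdef
  have hφ : φ ^ 3 = 1 := by rw [hφdef, ← map_pow, ← hy, pow_orderOf_eq_one, map_one]
  set tR : R := ⟨_, htQ⟩ with htR
  have htt : tR * tR = 1 := Subtype.ext (Subtype.ext (mul_self_of_two ht))
  have ht1 : tR ≠ 1 := fun h => by
    have h' : t = 1 := congrArg Subtype.val (congrArg Subtype.val h :)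
    rw [h', orderOf_one] at ht
    omega
  have hfixR : ∀ b, φ b = b ↔ b = 1 ∨ b = tR := fun b => by
    rw [Subtype.ext_iff, hφdef, MulAut.conjNormal_apply, mul_inv_eq_iff_eq_mul, hfix b b.2]
    exact (pair_iff htQ b).symm
  obtain ⟨z, hES⟩ := CfsgLib.Small.exists_ESTwo hQ
  have hzt : tR = z := ((hES.center_iff tR).1 (mem_center_iff.2 fun b =>
    Subtype.ext (Subtype.ext (mem_cen.1 b.1.2)))).resolve_left ht1
  set H := (centralizer ({a} : Set (cen t))).subgroupOf R with hH
  have hH16 : 16 ≤ Nat.card H := by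
    have hc : Nat.card H = Nat.card (centralizer ({a} : Set (cen t)) ⊓ R : Subgroup (cen t)) := by
      rw [hH, ← Subgroup.inf_subgroupOf_right]
      exact Nat.card_congr (Subgroup.subgroupOfEquivOfLe inf_le_right).toEquiv
    have hd := H.card_subgroup_dvd_card
    rw [hQ32] at hd
    obtain ⟨i, hi, he⟩ := (Nat.dvd_prime_pow Nat.prime_two).1 (show _ ∣ 2 ^ 5 from hd)
    rw [← hc, he] at hlt
    rw [he]
    interval_cases i <;> omega
  have hHi : H.index ≤ 2 := by
    have := H.card_mul_index
    rw [hQ32] at this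
    by_contra h
    nlinarith
  set J := H.map φ.toMonoidHom with hJ
  have hJi : J.index ≤ 2 := by
    have h1 := J.card_mul_index
    have h2 := H.card_mul_index
    rw [hJ, Subgroup.card_map_of_injective (f := φ.toMonoidHom) φ.injective] at h1
    rw [← h2] at h1
    rw [hJ, Nat.eq_of_mul_eq_mul_left Nat.card_pos h1]
    exact hHi
  have hI : 8 ≤ Nat.card (H ⊓ J : Subgroup R) := by
    have h1 := (H ⊓ J).card_mul_index
    have h2 : (H ⊓ J).index ≤ 2 * 2 := (Subgroup.index_inf_le (H := H) (K := J)).trans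
      (Nat.mul_le_mul hHi hJi)
    rw [hQ32] at h1
    nlinarith
  obtain ⟨v, hv, hv1, hvt⟩ : ∃ v ∈ H ⊓ J, v ≠ 1 ∧ v ≠ tR := by
    by_contra hno
    push Not at hno
    have : Nat.card (H ⊓ J : Subgroup R) ≤ 2 := by
      rw [← SetLike.coe_sort_coe, Nat.card_coe_set_eq]
      refine (Set.ncard_le_ncard (t := ({1, tR} : Set R)) ?_ (Set.toFinite _)).trans
        (Set.ncard_pair (Ne.symm ht1)).le
      intro b hb
      by_cases h : b = 1
      · exact Or.inl h
      · exact Or.inr (hno b hb h)
    omega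
  obtain ⟨w, hw, rfl⟩ := Subgroup.mem_map.1 hv.2
  have hconj : ∀ b : R, b ∈ H → a * b * a⁻¹ = b := fun b hb => by
    rw [← Subgroup.mem_centralizer_singleton_iff.1 (Subgroup.mem_subgroupOf.1 hb), mul_inv_cancel_right]
  -- a inverts y modulo the core
  have hc : a * y * a⁻¹ * y ∈ R := by
    have hσ : π a ≠ 1 := fun h => ha (hker ▸ (MonoidHom.mem_ker.2 h))
    rw [← hker, MonoidHom.mem_ker, map_mul, map_mul, map_mul, map_inv]
    refine perm_three _ _ (by rw [← map_mul, ha2, map_one]) hσ ?_
    rw [← map_mul, ← map_mul]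
    have h3 := pow_orderOf_eq_one y
    rw [hy, pow_succ, pow_two] at h3
    rw [h3, map_one]
  set c : R := ⟨_, hc⟩ with hcdef
  -- the image of w and its two neighbours differ by t
  have hkey : φ w = c * φ⁻¹ w * c⁻¹ := by
    refine Subtype.ext ?_
    have e1 := hconj (φ w) hv.1
    have e2 := hconj w hw
    simp only [hφdef, MulAut.conjNormal_apply, MulAut.conjNormal_inv_apply, Subgroup.coe_mul,
      Subgroup.coe_inv, hcdef] at e1 ⊢
    calc y * (w : cen t) * y⁻¹ = a * (y * (w : cen t) * y⁻¹) * a⁻¹ := e1.symm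
      _ = a * y * a⁻¹ * (a * (w : cen t) * a⁻¹) * (a * y⁻¹ * a⁻¹) := by group
      _ = _ := by rw [e2]; group
  have hcc : φ w = φ⁻¹ w ∨ φ w = φ⁻¹ w * tR := by
    rcases hES.comm_eq c (φ⁻¹ w) with h | h
    · left; rw [hkey, h, mul_inv_cancel_right]
    · right
      rw [hkey, h, mul_assoc (φ⁻¹ w * c), ← mem_center_iff.1 ((hES.center_iff z).2 (Or.inr rfl)) c⁻¹,
        hzt]
      group
  have hinv : φ⁻¹ w = φ (φ w) := by
    have h := φ.symm_apply_apply (φ (φ w))
    rwa [FixThree.apply_three hφ w] at h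
  rw [hinv] at hcc
  rcases hcc with h | h
  · rcases (hfixR _).1 h.symm with h' | h'
    exacts [hv1 h', hvt h']
  · refine (FixThree.eq_of_apply_eq hφ ht1 htt hfixR (a := φ w) ?_).elim
    conv_rhs => rw [h, mul_assoc, htt, mul_one]

theorem iso_of_invols (hs : IsSimpleGroup G) (hG : Nat.card G = 95040) {u t : G} (I : Invols u t) :
    Cfsg.Spor.IsoM12 G := by
  classical
  haveI : Fact (Nat.Prime 2) := ⟨Nat.prime_two⟩
  haveI : Fact (Nat.Prime 3) := ⟨Nat.prime_three⟩
  obtain ⟨y, π, hy, hsurj, hker, hQ32, hfix, hES⟩ := exists_core_of_invols hs hG I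
  set R := Cfsg.pCore 2 (cen t) with hR
  set Q := R.map (cen t).subtype with hQdef
  have ht1 : t ≠ 1 := fun h => by
    have := I.ot
    rw [h, orderOf_one] at this
    omega
  set tK : cen t := ⟨t, mem_cen.2 rfl⟩ with htK
  have htR : tK ∈ R := by
    have htN : (Subgroup.zpowers tK).Normal := ⟨fun a ha g => by
      obtain ⟨k, rfl⟩ := Subgroup.mem_zpowers_iff.1 ha
      rw [((show Commute g tK from Subtype.ext (mem_cen.1 g.2)).zpow_right k).eq, mul_inv_cancel_right]
      exact Subgroup.zpow_mem _ (Subgroup.mem_zpowers _) _⟩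
    exact CfsgLib.Base.le_pCore (hN := htN) (IsPGroup.of_card (n := 1) (by
      rw [Nat.card_zpowers, pow_one, ← Subgroup.orderOf_coe]; exact I.ot)) (Subgroup.mem_zpowers _)
  -- fusion in the core
  have hfused : ∃ g : G, g * t * g⁻¹ ∈ Q ∧ g * t * g⁻¹ ≠ t := by
    by_contra hno
    push Not at hno
    have hQU : ∀ b : cen t, b ∈ R → (IsConj u (b : G) ↔ b * b = 1 ∧ b ≠ 1 ∧ b ≠ tK) := by
      intro b hb
      constructor
      · intro h
        have h2 := (orderOf_of_isConj h).trans I.ou
        refine ⟨Subtype.ext (mul_self_of_two h2), fun e => ?_, fun e => I.ne ?_⟩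
        · rw [e, OneMemClass.coe_one, orderOf_one] at h2
          omega
        · rw [e] at h; exact h
      · rintro ⟨h1, h2, h3⟩
        refine ((I.classes b (orderOf_two (congrArg Subtype.val h1) fun e => h2 (Subtype.ext e))
          ).resolve_right fun h => ?_)
        obtain ⟨g, hg⟩ := isConj_iff.1 h
        have hb' : g * t * g⁻¹ ∈ Q := hg ▸ Subgroup.mem_map_of_mem _ hb
        exact h3 (Subtype.ext (hg.symm.trans (hno g hb')))
    obtain ⟨z, hz⟩ := CfsgLib.Small.exists_ESTwo hES
    have hN := CfsgLib.Small.two_mul_card_sq_one_sub_sq ((hz.center_iff z).2 (Or.inr rfl)) hz.ne_one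
      hz.mul_self hz.sq_eq hz.comm_eq fun d hd => by
        rcases (hz.center_iff d).1 hd with rfl | rfl
        exacts [one_pow 2, (pow_two _).trans hz.mul_self]
    rw [hQ32, hES.2] at hN
    have hin : Nat.card {b : cen t // b ∈ R ∧ IsConj u (b : G)} + 2 =
        Nat.card {x : R // x ^ 2 = 1} := by
      have h1 := card_split (fun x : R => x ^ 2 = 1) fun x => (x : cen t) ≠ 1 ∧ (x : cen t) ≠ tK
      have h2 : Nat.card {x : R // x ^ 2 = 1 ∧ ¬ ((x : cen t) ≠ 1 ∧ (x : cen t) ≠ tK)} = 2 := by
        have hne : (⟨tK, htR⟩ : R) ≠ 1 := fun h =>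
          ht1 (congrArg Subtype.val (congrArg Subtype.val h :) :)
        rw [Nat.card_congr (Equiv.subtypeEquivRight
          (q := fun x : R => x ∈ ({1, ⟨tK, htR⟩} : Set R)) fun x => ?_)]
        · rw [← Set.ncard_pair (Ne.symm hne)]
          exact Nat.card_coe_set_eq _
        · simp only [Set.mem_insert_iff, Set.mem_singleton_iff]
          constructor
          · rintro ⟨-, h⟩
            by_cases e : (x : cen t) = 1
            · exact Or.inl (Subtype.ext e)
            · exact Or.inr (Subtype.ext (not_not.1 fun e' => h ⟨e, e'⟩))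
          · rintro (rfl | rfl)
            · exact ⟨one_pow 2, fun h => h.1 rfl⟩
            · exact ⟨Subtype.ext (Subtype.ext (by
                rw [pow_two]; exact mul_self_of_two I.ot)), fun h => h.2 rfl⟩
      rw [h2] at h1
      rw [h1]
      refine congrArg (· + 2) (Nat.card_congr
        { toFun := fun b => ⟨⟨b.1, b.2.1⟩, ⟨Subtype.ext (by
            rw [pow_two]; exact ((hQU _ b.2.1).1 b.2.2).1), ((hQU _ b.2.1).1 b.2.2).2⟩⟩
          invFun := fun x => ⟨x.1.1, x.1.2, (hQU _ x.1.2).2
            ⟨by rw [← pow_two]; exact congrArg Subtype.val x.2.1, x.2.2⟩⟩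
          left_inv := fun b => rfl
          right_inv := fun x => rfl })
    -- outside the core the classes have size divisible by four
    have hout : 4 ∣ Nat.card {b : cen t // IsConj u (b : G) ∧ b ∉ R} := by
      refine dvd_card_invariant (fun v w hvw hv => ?_) fun a ha => ?_
      · obtain ⟨g, rfl⟩ := isConj_iff.1 hvw
        exact ⟨hv.1.trans (isConj_iff.2 ⟨g.1, rfl⟩), fun h => hv.2 (by
          have := (inferInstance : (Cfsg.pCore 2 (cen t)).Normal).conj_mem _ h g⁻¹
          simpa [mul_assoc] using this)⟩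
      set C := centralizer ({a} : Set (cen t)) with hC
      have h2 := (orderOf_of_isConj ha.1).trans I.ou
      have hd := C.card_subgroup_dvd_card
      have hm := C.card_mul_index
      rw [I.ct] at hd hm
      have hn3 : ¬ 3 ∣ Nat.card C := fun h => by
        obtain ⟨v, hv⟩ := exists_prime_orderOf_dvd_card' 3 h
        have hvG : orderOf ((v : cen t) : G) = 3 := by
          rw [Subgroup.orderOf_coe, Subgroup.orderOf_coe, hv]
        have hva : ((v : cen t) : G) * a = a * (v : cen t) :=
          congrArg Subtype.val (Subgroup.mem_centralizer_singleton_iff.1 v.2)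
        have hvt := mem_cen.1 (v : cen t).2
        refine ha.2 ?_
        rw [show a = tK from Subtype.ext (unique_invol (p := 3) ⟨1, rfl⟩ (I.cent _ hvG hvt) hvG I.ot
          ⟨(v : cen t).2, mem_cen.2 rfl⟩ ⟨mem_cen.2 rfl, mem_cen.2 hvt.symm⟩ hvt.symm
          ⟨a.2, mem_cen.2 hva.symm⟩ h2)]
        exact htR
      have hd64 : Nat.card C ∣ 2 ^ 6 :=
        Nat.Coprime.dvd_of_dvd_mul_right
          ((Nat.Prime.coprime_iff_not_dvd (by norm_num)).2 hn3).symm (show _ ∣ 2 ^ 6 * 3 from hd)
      obtain ⟨i, hi, he⟩ := (Nat.dvd_prime_pow Nat.prime_two).1 hd64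
      have h16 : Nat.card C ≤ 16 := by
        have h8 := card_core_inter_le π hker hES hQ32 I.ot hfix hy htR
          (Subtype.ext (mul_self_of_two h2) : a * a = 1) ha.2
        set f := π.comp C.subtype with hf
        have hfk : Nat.card f.ker ≤ 8 := by
          refine le_of_eq_of_le ?_ h8
          exact Nat.card_congr
            { toFun := fun x => ⟨x.1.1, x.1.2, (SetLike.ext_iff.1 hker _).1 x.2⟩
              invFun := fun x => ⟨⟨x.1, x.2.1⟩, show π x.1 = 1 from
                MonoidHom.mem_ker.1 (hker.symm ▸ x.2.2)⟩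
              left_inv := fun x => rfl
              right_inv := fun x => rfl }
        have hfr : Nat.card f.range ∣ 2 := by
          have h1 := Subgroup.card_range_dvd f
          have h2 := f.range.card_subgroup_dvd_card
          rw [he] at h1
          rw [Nat.card_perm, Nat.card_fin] at h2
          obtain ⟨j, -, hj⟩ := (Nat.dvd_prime_pow Nat.prime_two).1 h1
          rw [hj] at h2 ⊢
          exact (Nat.Coprime.pow_left j (by norm_num : Nat.Coprime 2 3)).dvd_of_dvd_mul_right
            (show 2 ^ j ∣ 2 * 3 from h2)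
        have h := f.ker.card_mul_index
        rw [Subgroup.index_ker] at h
        rw [← h]
        exact (Nat.mul_le_mul hfk (Nat.le_of_dvd (by norm_num) hfr))
      rw [he] at hm h16
      show 4 ∣ C.index
      interval_cases i <;> omega
    have hxu := card_split (fun b : cen t => IsConj u (b : G)) fun b => b ∈ R
    rw [Nat.card_congr (Equiv.subtypeEquivRight (q := fun b : cen t => b ∈ R ∧ IsConj u (b : G))
      fun b => and_comm)] at hxu
    have h12 := two_mod_four (by exact_mod_cast hN.trans (by norm_num))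
    -- counting commuting pairs of the two classes
    have hinvU : ∀ g b : G, IsConj u (g * b * g⁻¹) ↔ IsConj u b := fun g b =>
      ⟨fun h => h.trans (isConj_iff.2 ⟨g, rfl⟩).symm, fun h => h.trans (isConj_iff.2 ⟨g, rfl⟩)⟩
    have hinvT : ∀ g b : G, IsConj t (g * b * g⁻¹) ↔ IsConj t b := fun g b =>
      ⟨fun h => h.trans (isConj_iff.2 ⟨g, rfl⟩).symm, fun h => h.trans (isConj_iff.2 ⟨g, rfl⟩)⟩
    have p1 := pairs_card (P := fun a => IsConj t a) (Q := fun b => IsConj u b)
      (R := fun a b => b * a = a * b) fun a ha => card_commute_congr hinvU ha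
    have p2 := pairs_card (P := fun a => IsConj u a) (Q := fun b => IsConj t b)
      (R := fun a b => b * a = a * b) fun a ha => card_commute_congr hinvT ha
    have hsw : Nat.card {p : G × G // IsConj t p.1 ∧ IsConj u p.2 ∧ p.2 * p.1 = p.1 * p.2} =
        Nat.card {p : G × G // IsConj u p.1 ∧ IsConj t p.2 ∧ p.2 * p.1 = p.1 * p.2} :=
      Nat.card_congr ((Equiv.prodComm G G).subtypeEquiv fun p =>
        ⟨fun h => ⟨h.2.1, h.1, h.2.2.symm⟩, fun h => ⟨h.2.1, h.1, h.2.2.symm⟩⟩)
    rw [p1, p2] at hsw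
    have hcT := card_class t
    have hcU := card_class u
    rw [I.ct, hG] at hcT
    rw [I.cu, hG] at hcU
    rw [show Nat.card {b : G // IsConj t b} = 495 by omega,
      show Nat.card {b : G // IsConj u b} = 396 by omega] at hsw
    have hxK : Nat.card {b : G // IsConj u b ∧ b * t = t * b} =
        Nat.card {b : cen t // IsConj u (b : G)} :=
      Nat.card_congr
        { toFun := fun b => ⟨⟨b.1, mem_cen.2 b.2.2⟩, b.2.1⟩
          invFun := fun b => ⟨b.1.1, b.2, mem_cen.1 b.1.2⟩
          left_inv := fun b => rfl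
          right_inv := fun b => rfl }
    rw [hxK] at hsw
    omega
  -- the recognition
  let X := Classical.arbitrary (Sylow 3 (cen t))
  obtain ⟨P3, hP3⟩ := (IsPGroup.of_card (p := 3) (n := 1)
    (show Nat.card (Subgroup.zpowers y) = 3 ^ 1 by rw [Nat.card_zpowers, hy, pow_one])).exists_le_sylow
  have hP3' : Nat.card (P3 : Subgroup (cen t)) = 3 ^ 1 :=
    CfsgLib.Small.card_sylow_eq 1 64 (by rw [I.ct]; norm_num) (by norm_num) P3
  have hPy : (P3 : Subgroup (cen t)) = Subgroup.zpowers y :=
    (Subgroup.eq_of_le_of_card_ge hP3 (by rw [Nat.card_zpowers, hy, hP3', pow_one])).symm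
  have hCQ : Q ⊓ Subgroup.centralizer
      (((P3 : Subgroup (cen t)).map (cen t).subtype : Subgroup G) : Set G) = Subgroup.zpowers t := by
    refine le_antisymm ?_ ?_
    · rintro a ⟨⟨b, hb, rfl⟩, hc⟩
      have hyb : y * b = b * y := Subtype.ext (Subgroup.mem_centralizer_iff.1 hc (y : G)
        ⟨y, by rw [hPy]; exact Subgroup.mem_zpowers y, rfl⟩)
      rcases (hfix b hb).1 hyb with h | h
      · rw [h, map_one]; exact one_mem _
      · rw [show (cen t).subtype b = t from h]; exact Subgroup.mem_zpowers t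
    · refine Subgroup.zpowers_le.2 ⟨⟨tK, htR, rfl⟩, Subgroup.mem_centralizer_iff.2 ?_⟩
      rintro _ ⟨b, -, rfl⟩
      exact mem_cen.1 b.2
  have e : cen t ⧸ Cfsg.pCore 2 (cen t) ≃* Equiv.Perm (Fin 3) :=
    (QuotientGroup.quotientMulEquivOfEq hker.symm).trans
      (QuotientGroup.quotientKerEquivOfSurjective π hsurj)
  have hEQ : Cfsg.IsExtraspecial 2 Q :=
    FixThree.isExtraspecial_congr (R.equivMapOfInjective _ (cen t).subtype_injective) hES
  rcases Cfsg.Agent.S3344.result t I.ot (cen t) rfl Q rfl hEQ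
      (by rw [hQdef, Subgroup.card_map_of_injective (cen t).subtype_injective, hQ32]) e P3 hCQ hfused
    with ⟨N, hN, -, -, h8, -⟩ | ⟨⟨e8⟩⟩ | ⟨⟨e9⟩⟩ | h
  · haveI := hs
    rcases hN.eq_bot_or_eq_top with h | h
    · rw [h, Subgroup.card_bot] at h8; omega
    · rw [h, Subgroup.card_top, hG] at h8; omega
  · have := Nat.card_congr e8.toEquiv
    rw [hG, nat_card_alternatingGroup, Nat.card_fin] at this
    norm_num [Nat.factorial] at this
  · have := Nat.card_congr e9.toEquiv
    rw [hG, nat_card_alternatingGroup, Nat.card_fin] at this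
    norm_num [Nat.factorial] at this
  · exact h

theorem iso_of_local (F : Facts G) (L : Local G) : Cfsg.Spor.IsoM12 G := by
  obtain ⟨u, t, I⟩ := exists_invols F L
  exact iso_of_invols F.simple F.card I

end CfsgLib.M12Nse
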