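import Cfsg.Agent.Lib.M12Nse.Defs
import Cfsg.Agent.Lib.Techniques.OrderClasses
import Cfsg.Agent.Lib.Small.Order7920PrimeGraph
import Cfsg.Agent.Lib.Small.Order168

/-!
# The numbers of elements of each order determine the orders and the local structure
-/

set_option autoImplicit false
set_option linter.unusedSectionVars false
set_option linter.style.haveILetI false

open scoped Classical

namespace CfsgLib.M12Nse

open Subgroup

universe u

variable {G : Type u} [Group G] [Finite G]

private theorem conj_order (c x : G) : orderOf (c * x * c⁻¹) = orderOf x :=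
  (MulAut.conj c).orderOf_eq x

private theorem cnt_eq (n : ℕ) : cnt G n = CfsgLib.Techniques.OrderClasses.cnt G n := rfl

private theorem cnt_pos_iff {n : ℕ} : 0 < cnt G n ↔ ∃ g : G, orderOf g = n :=
  ⟨fun h => CfsgLib.Techniques.OrderClasses.cnt_ne_zero G (by rw [← cnt_eq]; omega),
    fun ⟨g, hg⟩ => by rw [cnt_eq]; exact CfsgLib.Techniques.OrderClasses.cnt_pos G hg⟩

private theorem cnt_of_dvd {m n : ℕ} (hmn : m ∣ n) (hn : 0 < cnt G n) : 0 < cnt G m := by
  obtain ⟨g, rfl⟩ := cnt_pos_iff.1 hn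
  obtain ⟨k, hk⟩ := hmn
  have h0 : k ≠ 0 := by rintro rfl; exact (orderOf_pos g).ne' (by simpa using hk)
  exact cnt_pos_iff.2 ⟨g ^ k, by
    rw [orderOf_pow' _ h0, hk, Nat.gcd_mul_left_left, Nat.mul_div_cancel _ (by omega)]⟩

private theorem cnt_eq_zero_of {n : ℕ} (h : ∀ g : G, orderOf g ≠ n) : cnt G n = 0 := by
  by_contra h0
  obtain ⟨g, hg⟩ := cnt_pos_iff.1 (Nat.pos_of_ne_zero h0)
  exact h g hg

/-- The centralizer part of the elements of a given order. -/
private noncomputable def centCnt (x : G) (m : ℕ) : ℕ :=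
  Nat.card {y : G // Commute x y ∧ orderOf y = m}

private theorem centCnt_eq (x : G) (m : ℕ) :
    centCnt x m = cnt (centralizer ({x} : Set G)) m :=
  Nat.card_congr
    { toFun := fun y => ⟨⟨y.1, mem_centralizer_singleton_iff.2 y.2.1.symm.eq⟩,
        by rw [orderOf_mk]; exact y.2.2⟩
      invFun := fun y => ⟨y.1.1, (show Commute y.1.1 x from
          mem_centralizer_singleton_iff.1 y.1.2).symm,
        by rw [orderOf_coe]; exact y.2⟩
      left_inv := fun _ => rfl
      right_inv := fun _ => rfl }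

/-- Elements of order `a * b` with `a, b` coprime, sorted by their `a`-part. -/
private theorem cnt_prod [Fintype G] {a b : ℕ} (hab : a.Coprime b) :
    cnt G (a * b) = ∑ x ∈ Finset.univ.filter (fun x : G => orderOf x = a), centCnt x b := by
  obtain ⟨e, he1, he2⟩ := Nat.chineseRemainder hab 1 0
  obtain ⟨f, hf1, hf2⟩ := Nat.chineseRemainder hab 0 1
  have hbe : b ∣ e := Nat.modEq_zero_iff_dvd.1 he2
  have haf : a ∣ f := Nat.modEq_zero_iff_dvd.1 hf1
  have hef : e + f ≡ 1 [MOD a * b] :=
    (Nat.modEq_and_modEq_iff_modEq_mul hab).1 ⟨by simpa using he1.add hf1, by simpa using he2.add hf2⟩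
  have hfix : ∀ g : G, orderOf g = a * b → g ^ e * g ^ f = g := fun g hg => by
    rw [← pow_add]
    conv_rhs => rw [← pow_one g]
    exact pow_eq_pow_iff_modEq.2 (hg ▸ hef)
  have hparts : ∀ g : G, orderOf g = a * b → orderOf (g ^ e) = a ∧ orderOf (g ^ f) = b := by
    intro g hg
    have hab0 : 0 < a * b := hg ▸ orderOf_pos g
    have h1 : orderOf (g ^ e) ∣ a := orderOf_dvd_of_pow_eq_one (by
      rw [← pow_mul]
      refine orderOf_dvd_iff_pow_eq_one.1 (hg ▸ ?_)
      rw [mul_comm e a]; exact Nat.mul_dvd_mul_left a hbe)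
    have h2 : orderOf (g ^ f) ∣ b := orderOf_dvd_of_pow_eq_one (by
      rw [← pow_mul]
      refine orderOf_dvd_iff_pow_eq_one.1 (hg ▸ ?_)
      exact Nat.mul_dvd_mul_right haf b)
    have h3 : a * b ∣ orderOf (g ^ e) * orderOf (g ^ f) := by
      have := ((Commute.refl g).pow_pow e f).orderOf_mul_dvd_mul_orderOf
      rwa [hfix g hg, hg] at this
    exact ⟨Nat.dvd_antisymm h1 ((hab.coprime_dvd_right h2).dvd_of_dvd_mul_right
        ((Nat.dvd_mul_right a b).trans h3)),
      Nat.dvd_antisymm h2 ((hab.symm.coprime_dvd_right h1).dvd_of_dvd_mul_left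
        ((Nat.dvd_mul_left b a).trans h3))⟩
  rw [← Finset.sum_coe_sort]
  unfold centCnt
  rw [← Nat.card_sigma, cnt]
  refine Nat.card_congr
    { toFun := fun g => ⟨⟨g.1 ^ e, by simpa using (hparts g.1 g.2).1⟩,
        ⟨g.1 ^ f, (Commute.refl g.1).pow_pow e f, (hparts g.1 g.2).2⟩⟩
      invFun := fun s => ⟨s.1.1 * s.2.1, by
        have ha : orderOf s.1.1 = a := (Finset.mem_filter.1 s.1.2).2
        rw [s.2.2.1.orderOf_mul_eq_mul_orderOf_of_coprime (by rw [ha, s.2.2.2]; exact hab), ha,
          s.2.2.2]⟩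
      left_inv := fun g => Subtype.ext (hfix g.1 g.2)
      right_inv := ?_ }
  rintro ⟨⟨x, hx⟩, ⟨y, hc, hy⟩⟩
  have ha : orderOf x = a := (Finset.mem_filter.1 hx).2
  have hx1 : x ^ e = x := by
    conv_rhs => rw [← pow_one x]
    exact pow_eq_pow_iff_modEq.2 (ha ▸ he1)
  have hy0 : y ^ e = 1 := orderOf_dvd_iff_pow_eq_one.1 (hy ▸ hbe)
  have hy1 : y ^ f = y := by
    conv_rhs => rw [← pow_one y]
    exact pow_eq_pow_iff_modEq.2 (hy ▸ hf2)
  have hx0 : x ^ f = 1 := orderOf_dvd_iff_pow_eq_one.1 (ha ▸ haf)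
  have h1 : (x * y) ^ e = x := by rw [hc.mul_pow, hx1, hy0, mul_one]
  have h2 : (x * y) ^ f = y := by rw [hc.mul_pow, hx0, hy1, one_mul]
  exact Sigma.subtype_ext (Subtype.ext h1) h2

/-- With Sylow subgroups of prime order, elements of that order have the same centralizer counts. -/
private theorem centCnt_const {p : ℕ} [Fact p.Prime]
    (hP : ∀ P : Sylow p G, Nat.card (P : Subgroup G) = p) {x x' : G}
    (hx : orderOf x = p) (hx' : orderOf x' = p) (m : ℕ) : centCnt x m = centCnt x' m := by
  have hcard : ∀ z : G, orderOf z = p → Nat.card (zpowers z) = p ^ (Nat.card G).factorization p :=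
    fun z hz => by
      obtain ⟨P⟩ := (inferInstance : Nonempty (Sylow p G))
      rw [Nat.card_zpowers, hz, ← Sylow.card_eq_multiplicity P, hP P]
  let P : Sylow p G := Sylow.ofCard (zpowers x) (hcard x hx)
  let Q : Sylow p G := Sylow.ofCard (zpowers x') (hcard x' hx')
  obtain ⟨c, hc⟩ := MulAction.exists_smul_eq G P Q
  have hmem : c * x * c⁻¹ ∈ zpowers x' := by
    have h1 : c * x * c⁻¹ ∈ ((c • P : Sylow p G) : Subgroup G) :=
      Subgroup.smul_mem_pointwise_smul x (MulAut.conj c) (P : Subgroup G)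
        (by rw [Sylow.coe_ofCard]; exact mem_zpowers x)
    rw [hc, Sylow.coe_ofCard] at h1
    exact h1
  have hgen : zpowers (c * x * c⁻¹) = zpowers x' :=
    Subgroup.eq_of_le_of_card_ge (zpowers_le.2 hmem)
      (le_of_eq (by rw [Nat.card_zpowers, Nat.card_zpowers, conj_order, hx, hx']))
  have key : ∀ y, Commute x y ↔ Commute x' (c * y * c⁻¹) := fun y => by
    have h1 : Commute x y ↔ Commute (c * x * c⁻¹) (c * y * c⁻¹) := (Commute.conj_iff c).symm
    rw [h1]
    constructor
    · intro h
      obtain ⟨k, hk⟩ := mem_zpowers_iff.1 (hgen.symm ▸ mem_zpowers x' : x' ∈ zpowers (c * x * c⁻¹))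
      rw [← hk]; exact h.zpow_left k
    · intro h
      obtain ⟨k, hk⟩ := mem_zpowers_iff.1 hmem
      rw [← hk]; exact h.zpow_left k
  exact Nat.card_congr ((MulAut.conj c).toEquiv.subtypeEquiv fun y => by
    simp only [MulEquiv.toEquiv_eq_coe, EquivLike.coe_coe, MulAut.conj_apply]
    rw [conj_order, key y])

/-- The count for `p * m`, when the Sylow `p`-subgroups have order `p`. -/
private theorem cnt_prime_prod {p : ℕ} [Fact p.Prime]
    (hP : ∀ P : Sylow p G, Nat.card (P : Subgroup G) = p) {x : G} (hx : orderOf x = p) {m : ℕ}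
    (hpm : p.Coprime m) : cnt G (p * m) = cnt G p * cnt (centralizer ({x} : Set G)) m := by
  haveI := Fintype.ofFinite G
  rw [cnt_prod hpm, Finset.sum_congr rfl
    (fun y hy => centCnt_const hP (Finset.mem_filter.1 hy).2 hx m), Finset.sum_const, smul_eq_mul,
    centCnt_eq]
  simp [cnt, Nat.card_eq_fintype_card, Fintype.card_subtype]

private theorem dvd_centCard {x g : G} (h : Commute g x) :
    orderOf g ∣ Nat.card (centralizer ({x} : Set G)) :=
  Subgroup.orderOf_dvd_natCard _ (mem_centralizer_singleton_iff.2 h.eq)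

/-- Two primes: the Sylow normalizer and its quotient by the centralizer. -/
private theorem local_card {p : ℕ} [Fact p.Prime]
    (hP : ∀ P : Sylow p G, Nat.card (P : Subgroup G) = p) {x : G} (hx : orderOf x = p) :
    ∃ e, e ∣ p - 1 ∧
      Nat.card (centralizer ({x} : Set G)) * e * Nat.card (Sylow p G) = Nat.card G := by
  have hcard : Nat.card (zpowers x) = p ^ (Nat.card G).factorization p := by
    obtain ⟨P⟩ := (inferInstance : Nonempty (Sylow p G))
    rw [Nat.card_zpowers, hx, ← Sylow.card_eq_multiplicity P, hP P]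
  let P : Sylow p G := Sylow.ofCard (zpowers x) hcard
  obtain ⟨e, he, hmul⟩ := CfsgLib.Small.O7920.exists_index_centralizer (P : Subgroup G) (hP P)
  refine ⟨e, he, ?_⟩
  have hcent : centralizer ((P : Subgroup G) : Set G) = centralizer ({x} : Set G) := by
    rw [Sylow.coe_ofCard, zpowers_eq_closure, centralizer_closure]
  rw [hcent] at hmul
  rw [hmul, Sylow.card_eq_index_normalizer P]
  exact Subgroup.card_mul_index _

private theorem mem_of_coprime_index {N : Subgroup G} [N.Normal] {g : G}
    (h : (orderOf g).Coprime N.index) : g ∈ N := by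
  rw [← QuotientGroup.eq_one_iff, ← orderOf_eq_one_iff]
  refine Nat.dvd_one.1 ?_
  rw [← h.gcd_eq_one]
  exact Nat.dvd_gcd (orderOf_map_dvd (QuotientGroup.mk' N) g)
    (by rw [Subgroup.index_eq_card]; exact orderOf_dvd_natCard _)

/-- The values of one count, after the excluded ones are removed. -/
private theorem split_count {c : ℕ}
    (h : c = 0 ∨ c = 4400 ∨ c = 5940 ∨ c = 9504 ∨ c = 17280 ∨ c = 23760) :
    c = 4400 * (if c = 4400 then 1 else 0) + (5940 * (if c = 5940 then 1 else 0) +
      (9504 * (if c = 9504 then 1 else 0) + (17280 * (if c = 17280 then 1 else 0) +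
      23760 * (if c = 23760 then 1 else 0)))) := by
  rcases h with rfl | rfl | rfl | rfl | rfl | rfl <;> norm_num

private theorem card_sylow_eq' (p m : ℕ) [Fact p.Prime] (h : Nat.card G = p * m) (hm : ¬ p ∣ m)
    (P : Sylow p G) : Nat.card (P : Subgroup G) = p ^ 1 := by
  rw [Sylow.card_eq_multiplicity P, h, Nat.factorization_mul (Fact.out : p.Prime).ne_zero
    (by rintro rfl; exact hm (dvd_zero p))]
  simp [(Fact.out : p.Prime).factorization_self, Nat.factorization_eq_zero_of_not_dvd hm]

private theorem values (h : Hyp G) (n : ℕ) : cnt G n = 0 ∨ cnt G n = 1 ∨ cnt G n = 891 ∨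
    cnt G n = 4400 ∨ cnt G n = 5940 ∨ cnt G n = 9504 ∨ cnt G n = 17280 ∨ cnt G n = 23760 := by
  simpa [vals] using h.mem n

private theorem totient_dvd (n : ℕ) : Nat.totient n ∣ cnt G n :=
  CfsgLib.Techniques.OrderClasses.totient_dvd_cnt G n

private theorem succ_mod (h : Hyp G) {p : ℕ} (hp : p.Prime) (hd : p ∣ 95040) :
    (cnt G p + 1) % p = 0 := by
  have := CfsgLib.Techniques.OrderClasses.cnt_prime G hp (h.card ▸ hd)
  refine Nat.mod_eq_zero_of_dvd ?_
  rw [← ZMod.natCast_eq_zero_iff, Nat.cast_add, Nat.cast_one, cnt_eq, this, neg_add_cancel]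

private theorem count_eleven (h : Hyp G) : cnt G 11 = 17280 := by
  have := succ_mod h (p := 11) (by norm_num) (by norm_num)
  have := values h 11
  omega

private theorem count_five (h : Hyp G) : cnt G 5 = 9504 := by
  have := succ_mod h (p := 5) (by norm_num) (by norm_num)
  have := values h 5
  omega

private theorem count_three (h : Hyp G) : cnt G 3 = 4400 := by
  have := succ_mod h (p := 3) (by norm_num) (by norm_num)
  have := values h 3
  have h2 := totient_dvd (G := G) 3
  rw [Nat.totient_prime (by norm_num : Nat.Prime 3)] at h2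
  omega

private theorem sylow_eleven (h : Hyp G) [Fact (Nat.Prime 11)] :
    (∀ P : Sylow 11 G, Nat.card (P : Subgroup G) = 11) ∧ Nat.card (Sylow 11 G) = 1728 := by
  have hP : ∀ P : Sylow 11 G, Nat.card (P : Subgroup G) = 11 := fun P => by
    simpa using card_sylow_eq' 11 8640 (by rw [h.card]) (by norm_num) P
  refine ⟨hP, ?_⟩
  have h1 := CfsgLib.Small.card_orderOf_eq_prime hP
  rw [← cnt, count_eleven h] at h1
  omega

private theorem sylow_five (h : Hyp G) [Fact (Nat.Prime 5)] :
    (∀ P : Sylow 5 G, Nat.card (P : Subgroup G) = 5) ∧ Nat.card (Sylow 5 G) = 2376 := by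
  have hP : ∀ P : Sylow 5 G, Nat.card (P : Subgroup G) = 5 := fun P => by
    simpa using card_sylow_eq' 5 19008 (by rw [h.card]) (by norm_num) P
  refine ⟨hP, ?_⟩
  have h1 := CfsgLib.Small.card_orderOf_eq_prime hP
  rw [← cnt, count_five h] at h1
  omega

private theorem cent_eleven (h : Hyp G) {g : G} (hg : orderOf g = 11) :
    Nat.card (centralizer ({g} : Set G)) = 11 := by
  haveI : Fact (Nat.Prime 11) := ⟨by norm_num⟩
  haveI : Fact (Nat.Prime 5) := ⟨by norm_num⟩
  obtain ⟨hP11, hn11⟩ := sylow_eleven h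
  obtain ⟨e, -, hmul⟩ := local_card hP11 hg
  rw [hn11, h.card] at hmul
  have hCe : Nat.card (centralizer ({g} : Set G)) * e = 55 :=
    Nat.eq_of_mul_eq_mul_right (by norm_num : 0 < 1728) (hmul.trans (by norm_num))
  have hd : 11 ∣ Nat.card (centralizer ({g} : Set G)) := hg ▸ dvd_centCard (Commute.refl g)
  have hne : Nat.card (centralizer ({g} : Set G)) ≠ 55 := by
    intro h55
    obtain ⟨y, hy⟩ := exists_prime_orderOf_dvd_card' (G := centralizer ({g} : Set G)) 5
      (by rw [h55]; norm_num)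
    have hpos : 0 < cnt (centralizer ({g} : Set G)) 5 := cnt_pos_iff.2 ⟨y, hy⟩
    have h4 := totient_dvd (G := centralizer ({g} : Set G)) 5
    rw [Nat.totient_prime (by norm_num : Nat.Prime 5)] at h4
    have hp := cnt_prime_prod hP11 hg (m := 5) (by norm_num)
    rw [count_eleven h] at hp
    have h5 := Nat.le_of_dvd hpos h4
    have := values h (11 * 5)
    omega
  obtain ⟨k, hk⟩ := hd
  rw [hk, mul_assoc] at hCe
  have hke : k * e = 5 := by omega
  rcases (Nat.dvd_prime (by norm_num : Nat.Prime 5)).1 (Dvd.intro _ hke) with rfl | rfl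
  · rw [hk]
  · exact absurd hk hne

private theorem order_eleven (h : Hyp G) {g : G} (hd : 11 ∣ orderOf g) : orderOf g = 11 := by
  obtain ⟨k, hk⟩ := hd
  have hk0 : k ≠ 0 := by rintro rfl; exact (orderOf_pos g).ne' (by simpa using hk)
  have hx : orderOf (g ^ k) = 11 := by
    rw [orderOf_pow' _ hk0, hk, Nat.gcd_mul_left_left, Nat.mul_div_cancel _ (by omega)]
  have hd := dvd_centCard ((Commute.refl g).pow_right k)
  rw [cent_eleven h hx, hk] at hd
  have := Nat.le_of_dvd (by norm_num) hd
  omega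

private theorem cent_five (h : Hyp G) {g : G} (hg : orderOf g = 5) :
    Nat.card (centralizer ({g} : Set G)) = 10 := by
  haveI : Fact (Nat.Prime 2) := ⟨Nat.prime_two⟩
  haveI : Fact (Nat.Prime 5) := ⟨by norm_num⟩
  obtain ⟨hP5, hn5⟩ := sylow_five h
  obtain ⟨e, he, hmul⟩ := local_card hP5 hg
  rw [hn5, h.card] at hmul
  have hCe : Nat.card (centralizer ({g} : Set G)) * e = 40 :=
    Nat.eq_of_mul_eq_mul_right (by norm_num : 0 < 2376) (hmul.trans (by norm_num))
  have hle : e ≤ 4 := Nat.le_of_dvd (by norm_num) he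
  obtain ⟨k, hk⟩ : 5 ∣ Nat.card (centralizer ({g} : Set G)) := hg ▸ dvd_centCard (Commute.refl g)
  rw [hk, mul_assoc] at hCe
  have hke : k * e = 8 := by omega
  have hk8 : k ∣ 2 ^ 3 := Dvd.intro _ hke
  obtain ⟨i, hi, rfl⟩ := (Nat.dvd_prime_pow Nat.prime_two).1 hk8
  rcases i with _ | _ | i
  · simp at hke; omega
  · rw [hk]; norm_num
  exfalso
  obtain ⟨t, ht⟩ := exists_prime_orderOf_dvd_card' (G := centralizer ({g} : Set G)) 2
    (by rw [hk]; exact Dvd.dvd.mul_left (dvd_pow_self 2 (by omega)) 5)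
  have hpos : 0 < cnt (centralizer ({g} : Set G)) 2 := cnt_pos_iff.2 ⟨t, ht⟩
  have h10 := cnt_prime_prod hP5 hg (m := 2) (by norm_num)
  have h20 := cnt_prime_prod hP5 hg (m := 4) (by norm_num)
  rw [count_five h] at h10 h20
  have i1 : cnt (centralizer ({g} : Set G)) 2 = 1 := by
    have := values h (5 * 2)
    omega
  have i0 : cnt (centralizer ({g} : Set G)) 4 = 0 := by
    have := values h (5 * 4)
    have ev := CfsgLib.Techniques.OrderClasses.even_cnt (centralizer ({g} : Set G))
      (m := 4) (by norm_num)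
    rw [← cnt_eq, Nat.even_iff] at ev
    omega
  have h4 : 4 ∣ Nat.card (centralizer ({g} : Set G)) := by
    rw [hk]; exact Dvd.dvd.mul_left (pow_dvd_pow 2 (by omega : 2 ≤ i + 1 + 1)) 5
  have h4' := CfsgLib.Base.Solutions.pow_dvd_card_pow_eq_one (p := 2) (a := 2) (G := centralizer ({g} : Set G)) h4
  rw [← CfsgLib.Techniques.OrderClasses.sum_cnt _ (by norm_num : (2:ℕ) ^ 2 ≠ 0),
    show ((2:ℕ) ^ 2).divisors = {1, 2, 4} by decide +kernel] at h4'
  have hc1 : cnt (centralizer ({g} : Set G)) 1 = 1 :=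
    CfsgLib.Techniques.OrderClasses.cnt_one _
  simp [← cnt_eq, hc1, i1, i0] at h4'

private theorem order_five (h : Hyp G) {g : G} (hd : 5 ∣ orderOf g) :
    orderOf g = 5 ∨ orderOf g = 10 := by
  obtain ⟨k, hk⟩ := hd
  have hk0 : k ≠ 0 := by rintro rfl; exact (orderOf_pos g).ne' (by simpa using hk)
  have hx : orderOf (g ^ k) = 5 := by
    rw [orderOf_pow' _ hk0, hk, Nat.gcd_mul_left_left, Nat.mul_div_cancel _ (by omega)]
  have hd := dvd_centCard ((Commute.refl g).pow_right k)
  rw [cent_five h hx, hk] at hd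
  have := Nat.le_of_dvd (by norm_num) hd
  omega

private theorem count_ten (h : Hyp G) : cnt G 10 = 9504 := by
  haveI : Fact (Nat.Prime 2) := ⟨Nat.prime_two⟩
  haveI : Fact (Nat.Prime 5) := ⟨by norm_num⟩
  obtain ⟨x, hx⟩ := exists_prime_orderOf_dvd_card' (G := G) 5 (by rw [h.card]; norm_num)
  have h10 := cnt_prime_prod (sylow_five h).1 hx (m := 2) (by norm_num)
  obtain ⟨t, ht⟩ := exists_prime_orderOf_dvd_card' (G := centralizer ({x} : Set G)) 2
    (by rw [cent_five h hx]; norm_num)
  have hpos : 0 < cnt (centralizer ({x} : Set G)) 2 := cnt_pos_iff.2 ⟨t, ht⟩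
  rw [count_five h, show 5 * 2 = 10 from rfl] at h10
  have := values h 10
  omega

/-- the possible orders prime to fifty-five, other than one, two and three -/
private def S : Finset ℕ := {4, 8, 16, 32, 64, 6, 12, 24, 48, 96, 192, 9, 18, 36, 72, 144, 288,
  576, 27, 54, 108, 216, 432, 864, 1728}

/-- the other possible orders -/
private def T : Finset ℕ := {1, 2, 3, 5, 10, 11}

private theorem order_mem (h : Hyp G) (g : G) : orderOf g ∈ T ∪ S := by
  by_cases h11 : 11 ∣ orderOf g
  · rw [order_eleven h h11]; decide +kernel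
  by_cases h5 : 5 ∣ orderOf g
  · rcases order_five h h5 with e | e <;> rw [e] <;> decide +kernel
  have hd : orderOf g ∣ 1728 := by
    have h55 : (orderOf g).Coprime (5 * 11) := Nat.Coprime.mul_right
      ((Nat.Prime.coprime_iff_not_dvd (by norm_num)).2 h5).symm
      ((Nat.Prime.coprime_iff_not_dvd (by norm_num)).2 h11).symm
    refine h55.dvd_of_dvd_mul_right ?_
    rw [show 1728 * (5 * 11) = Nat.card G by rw [h.card]]
    exact orderOf_dvd_natCard g
  obtain ⟨a, b, ha, hb, hab⟩ := exists_dvd_and_dvd_of_dvd_mul (show orderOf g ∣ 64 * 27 from hd)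
  obtain ⟨i, hi, rfl⟩ := (Nat.dvd_prime_pow Nat.prime_two).1 (show a ∣ 2 ^ 6 from ha)
  obtain ⟨j, hj, rfl⟩ := (Nat.dvd_prime_pow Nat.prime_three).1 (show b ∣ 3 ^ 3 from hb)
  have key : ∀ i < 7, ∀ j < 4, 2 ^ i * 3 ^ j ∈ T ∪ S := by decide +kernel
  rw [hab]
  exact key i (by omega) j (by omega)

private theorem sum_S (h : Hyp G) : cnt G 2 + ∑ d ∈ S, cnt G d = 54351 := by
  have hall : ∑ d ∈ (95040 : ℕ).divisors, cnt G d = 95040 := by
    show ∑ d ∈ (95040 : ℕ).divisors, CfsgLib.Techniques.OrderClasses.cnt G d = 95040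
    rw [CfsgLib.Techniques.OrderClasses.sum_cnt G (by norm_num), ← h.card]
    exact Nat.card_congr (Equiv.subtypeUnivEquiv fun g => pow_card_eq_one')
  have hdvd : ∀ d ∈ T ∪ S, d ∣ 95040 := by decide +kernel
  have hdis : Disjoint T S := by decide +kernel
  have e : ∑ d ∈ T ∪ S, cnt G d = 95040 := by
    refine Eq.trans (Finset.sum_subset (fun d hd => Nat.mem_divisors.2 ⟨hdvd d hd, by norm_num⟩)
      fun d _ hd => cnt_eq_zero_of fun g hg => hd (hg ▸ order_mem h g)) hall
  have hsumT : ∑ d ∈ T, cnt G d = cnt G 2 + 40689 := by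
    have c1 : cnt G 1 = 1 := CfsgLib.Techniques.OrderClasses.cnt_one G
    simp [T, c1, count_three h, count_five h, count_ten h, count_eleven h]
    omega
  rw [Finset.sum_union hdis, hsumT] at e
  omega

private theorem count_two (h : Hyp G) : cnt G 2 = 891 := by
  have h2 := succ_mod h Nat.prime_two (by norm_num)
  have hv2 := values h 2
  by_contra hne
  have h21 : cnt G 2 = 1 := by omega
  have h4 : 4 ∣ ∑ d ∈ S, cnt G d := Finset.dvd_sum fun d hd => by
    have h3 : 2 < d := (show ∀ d ∈ S, 2 < d by decide +kernel) d hd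
    have he := CfsgLib.Techniques.OrderClasses.even_cnt G (m := d) h3
    rw [← cnt_eq, Nat.even_iff] at he
    have := values h d
    omega
  have := sum_S h
  omega

private theorem sum_S' (h : Hyp G) : ∑ d ∈ S, cnt G d = 53460 := by
  have := sum_S h; have := count_two h; omega

private theorem small_values (h : Hyp G) :
    ∀ d ∈ S, cnt G d = 0 ∨ cnt G d = 5940 ∨ cnt G d = 23760 := by
  have hvS : ∀ d ∈ S, cnt G d = 0 ∨ cnt G d = 4400 ∨ cnt G d = 5940 ∨ cnt G d = 9504 ∨
      cnt G d = 17280 ∨ cnt G d = 23760 := by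
    intro d hd
    have he := CfsgLib.Techniques.OrderClasses.even_cnt G (m := d)
      ((show ∀ d ∈ S, 2 < d by decide +kernel) d hd)
    rw [← cnt_eq, Nat.even_iff] at he
    rcases values h d with e | e | e | e | e | e | e | e <;> omega
  obtain ⟨n, hn⟩ := h.big
  have hnS : n ∈ S := by
    obtain ⟨g, hg⟩ := cnt_pos_iff.1 (by omega : 0 < cnt G n)
    rcases Finset.mem_union.1 (hg ▸ order_mem h g) with hT | hS
    · have c1 : cnt G 1 = 1 := CfsgLib.Techniques.OrderClasses.cnt_one G
      simp only [T, Finset.mem_insert, Finset.mem_singleton] at hT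
      rcases hT with e | e | e | e | e | e <;> rw [e] at hn <;>
        simp [c1, count_two h, count_three h, count_five h, count_ten h, count_eleven h] at hn
    · exact hS
  have hs : ∑ d ∈ S, cnt G d = 4400 * (∑ d ∈ S, if cnt G d = 4400 then 1 else 0) +
      (5940 * (∑ d ∈ S, if cnt G d = 5940 then 1 else 0) +
      (9504 * (∑ d ∈ S, if cnt G d = 9504 then 1 else 0) +
      (17280 * (∑ d ∈ S, if cnt G d = 17280 then 1 else 0) +
      23760 * (∑ d ∈ S, if cnt G d = 23760 then 1 else 0)))) := by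
    rw [Finset.mul_sum, Finset.mul_sum, Finset.mul_sum, Finset.mul_sum, Finset.mul_sum,
      ← Finset.sum_add_distrib, ← Finset.sum_add_distrib, ← Finset.sum_add_distrib,
      ← Finset.sum_add_distrib]
    exact Finset.sum_congr rfl fun d hd => split_count (hvS d hd)
  have hC1 : 1 ≤ ∑ d ∈ S, if cnt G d = 23760 then 1 else 0 := by
    refine le_trans ?_ (Finset.single_le_sum (fun d _ => Nat.zero_le _) hnS)
    simp [hn]
  rw [sum_S' h] at hs
  generalize hK : (∑ d ∈ S, if cnt G d = 4400 then 1 else 0) = K at hs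
  generalize hB : (∑ d ∈ S, if cnt G d = 9504 then 1 else 0) = B at hs
  generalize hD : (∑ d ∈ S, if cnt G d = 17280 then 1 else 0) = D at hs
  have hD0 : D = 0 := by omega
  have hK0 : K = 0 := by omega
  have hB0 : B = 0 := by omega
  intro d hd
  have k0 := (Finset.sum_eq_zero_iff.1 (hK.trans hK0)) d hd
  have b0 := (Finset.sum_eq_zero_iff.1 (hB.trans hB0)) d hd
  have d0 := (Finset.sum_eq_zero_iff.1 (hD.trans hD0)) d hd
  rcases hvS d hd with e | e | e | e | e | e
  · exact Or.inl e
  · simp [e] at k0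
  · exact Or.inr (Or.inl e)
  · simp [e] at b0
  · simp [e] at d0
  · exact Or.inr (Or.inr e)

private theorem big_value (h : Hyp G) {d : ℕ} (hd : d ∈ S) (ht : ¬ Nat.totient d ∣ 5940) :
    cnt G d = 0 ∨ cnt G d = 23760 := by
  rcases small_values h d hd with e | e | e
  exacts [Or.inl e, absurd (e ▸ totient_dvd d) ht, Or.inr e]

private theorem zero_value (h : Hyp G) {d : ℕ} (hd : d ∈ S) (ht : ¬ Nat.totient d ∣ 5940)
    (ht' : ¬ Nat.totient d ∣ 23760) : cnt G d = 0 :=
  (big_value h hd ht).resolve_right fun e => ht' (e ▸ totient_dvd d)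

private theorem two_part (h : Hyp G) :
    64 ∣ 892 + (cnt G 4 + cnt G 8 + cnt G 16 + cnt G 32) := by
  haveI : Fact (Nat.Prime 2) := ⟨Nat.prime_two⟩
  have h64 : cnt G 64 = 0 :=
    zero_value h (by decide +kernel) (by decide +kernel) (by decide +kernel)
  have hd := CfsgLib.Base.Solutions.pow_dvd_card_pow_eq_one (p := 2) (a := 6) (G := G)
    (by rw [h.card]; norm_num)
  rw [← CfsgLib.Techniques.OrderClasses.sum_cnt G (by norm_num : (2:ℕ) ^ 6 ≠ 0),
    show ((2:ℕ) ^ 6).divisors = {1, 2, 4, 8, 16, 32, 64} by decide +kernel] at hd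
  have c1 : cnt G 1 = 1 := CfsgLib.Techniques.OrderClasses.cnt_one G
  simp [← cnt_eq, c1, count_two h, h64, ← add_assoc] at hd
  simpa [← add_assoc] using hd

private theorem three_part (h : Hyp G) :
    64 ∣ 4400 + (cnt G 6 + cnt G 12 + cnt G 24 + cnt G 48) := by
  haveI := Fintype.ofFinite G
  haveI : Fact (Nat.Prime 2) := ⟨Nat.prime_two⟩
  have h96 : cnt G 96 = 0 :=
    zero_value h (by decide +kernel) (by decide +kernel) (by decide +kernel)
  have h192 : cnt G 192 = 0 :=
    zero_value h (by decide +kernel) (by decide +kernel) (by decide +kernel)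
  have key : 64 ∣ ∑ x ∈ Finset.univ.filter (fun x : G => orderOf x = 3),
      ∑ d ∈ (64 : ℕ).divisors, centCnt x d := by
    refine CfsgLib.Base.Solutions.dvd_sum_of_conj_invariant ?_ ?_ ?_
    · intro v w hvw hv
      obtain ⟨c, rfl⟩ := isConj_iff.1 hvw
      simpa [conj_order] using hv
    · intro v w hvw
      obtain ⟨c, rfl⟩ := isConj_iff.1 hvw
      refine Finset.sum_congr rfl fun d _ => Nat.card_congr
        ((MulAut.conj c).toEquiv.subtypeEquiv fun y => ?_)
      simp [conj_order, Commute.conj_iff]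
    · intro v _
      simp only [centCnt_eq, cnt_eq]
      rw [CfsgLib.Techniques.OrderClasses.sum_cnt _ (by norm_num : (64:ℕ) ≠ 0)]
      have hg := CfsgLib.Base.Solutions.gcd_dvd_card_pow_eq (p := 2)
        (z := (1 : centralizer ({v} : Set G))) (j := 0) (one_pow _) 6
      refine dvd_trans ?_ (mul_dvd_mul_left _ hg)
      rw [← Nat.gcd_mul_left, mul_comm _ (Nat.card _), Subgroup.card_mul_index, h.card]
      exact Nat.dvd_gcd (Dvd.dvd.mul_left (by norm_num) _) (by norm_num)
  rw [Finset.sum_comm, Finset.sum_congr rfl (fun d hd => (cnt_prod (a := 3)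
    ((by decide +kernel : ∀ d ∈ (64 : ℕ).divisors, Nat.Coprime 3 d) d hd)).symm),
    show (64 : ℕ).divisors = {1, 2, 4, 8, 16, 32, 64} by decide +kernel] at key
  simp [count_three h, h96, h192, ← add_assoc] at key
  simpa [← add_assoc] using key

private theorem solve_two {a b c d : ℕ} (ha : a = 0 ∨ a = 5940 ∨ a = 23760)
    (hb : b = 0 ∨ b = 5940 ∨ b = 23760) (hc : c = 0 ∨ c = 23760) (hd : d = 0 ∨ d = 23760)
    (h1 : 0 < b → 0 < a) (h2 : 0 < c → 0 < b) (h3 : 0 < d → 0 < c)
    (h64 : 64 ∣ 892 + (a + b + c + d)) (hle : a + b + c + d ≤ 53460) :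
    a + b = 29700 ∧ 0 < b ∧ c = 0 ∧ d = 0 := by
  rcases hc with rfl | rfl <;> rcases hd with rfl | rfl <;>
    rcases ha with rfl | rfl | rfl <;> rcases hb with rfl | rfl | rfl <;> omega

private theorem solve_three {a b c d : ℕ} (ha : a = 0 ∨ a = 5940 ∨ a = 23760)
    (hb : b = 0 ∨ b = 5940 ∨ b = 23760) (hc : c = 0 ∨ c = 23760) (hd : d = 0 ∨ d = 23760)
    (h1 : 0 < b → 0 < a) (h2 : 0 < c → 0 < b) (h3 : 0 < d → 0 < c)
    (h64 : 64 ∣ 4400 + (a + b + c + d)) (hle : a + b + c + d ≤ 23760) :
    a = 23760 := by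
  rcases hc with rfl | rfl <;> rcases hd with rfl | rfl <;>
    rcases ha with rfl | rfl | rfl <;> rcases hb with rfl | rfl | rfl <;> omega

private theorem main_counts (h : Hyp G) :
    cnt G 4 + cnt G 8 = 29700 ∧ 0 < cnt G 8 ∧ cnt G 6 = 23760 ∧
      ∀ d ∈ S, d ≠ 4 → d ≠ 8 → d ≠ 6 → cnt G d = 0 := by
  have hS := sum_S' h
  have hsub : ∀ U : Finset ℕ, U ⊆ S → ∑ d ∈ U, cnt G d ≤ 53460 := fun U hU =>
    hS ▸ Finset.sum_le_sum_of_subset hU
  have sv := small_values h
  have h2 := solve_two (sv 4 (by decide +kernel)) (sv 8 (by decide +kernel))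
    (big_value h (d := 16) (by decide +kernel) (by decide +kernel))
    (big_value h (d := 32) (by decide +kernel) (by decide +kernel))
    (cnt_of_dvd (by norm_num)) (cnt_of_dvd (by norm_num)) (cnt_of_dvd (by norm_num))
    (two_part h) (by simpa [← add_assoc] using hsub {4, 8, 16, 32} (by decide +kernel))
  obtain ⟨c48, p8, -, -⟩ := h2
  have h8 : cnt G 4 + cnt G 8 + (cnt G 6 + cnt G 12 + cnt G 24 + cnt G 48) ≤ 53460 := by
    simpa [← add_assoc] using hsub {4, 8, 6, 12, 24, 48} (by decide +kernel)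
  have c6 := solve_three (sv 6 (by decide +kernel)) (sv 12 (by decide +kernel))
    (big_value h (d := 24) (by decide +kernel) (by decide +kernel))
    (big_value h (d := 48) (by decide +kernel) (by decide +kernel))
    (cnt_of_dvd (by norm_num)) (cnt_of_dvd (by norm_num)) (cnt_of_dvd (by norm_num))
    (three_part h) (by omega)
  refine ⟨c48, p8, c6, fun d hd n4 n8 n6 => ?_⟩
  have hU : ({4, 8, 6} : Finset ℕ) ⊆ S := by decide +kernel
  have h3 := Finset.sum_sdiff (f := cnt G) hU
  rw [hS] at h3
  have h0 : ∑ x ∈ S \ {4, 8, 6}, cnt G x = 0 := by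
    simp at h3
    omega
  exact Finset.sum_eq_zero_iff.1 h0 d (by simp [hd, n4, n8, n6])

private theorem orders_mem (h : Hyp G) (g : G) : orderOf g ∈ [1, 2, 3, 4, 5, 6, 8, 10, 11] := by
  have hp : 0 < cnt G (orderOf g) := cnt_pos_iff.2 ⟨g, rfl⟩
  rcases Finset.mem_union.1 (order_mem h g) with hT | hS
  · simp only [T, Finset.mem_insert, Finset.mem_singleton] at hT
    rcases hT with e | e | e | e | e | e <;> rw [e] <;> decide
  · by_contra hne
    simp only [List.mem_cons, List.not_mem_nil, or_false, not_or] at hne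
    obtain ⟨-, -, -, n4, -, n6, n8, -⟩ := hne
    rw [(main_counts h).2.2.2 _ hS n4 n8 n6] at hp
    exact lt_irrefl 0 hp

private theorem simple_group (h : Hyp G) : IsSimpleGroup G := by
  haveI := Fintype.ofFinite G
  haveI h11p : Fact (Nat.Prime 11) := ⟨by norm_num⟩
  obtain ⟨hP11, hn11⟩ := sylow_eleven h
  have hG := h.card
  haveI : Nontrivial G := Finite.one_lt_card_iff_nontrivial.1 (by rw [hG]; norm_num)
  refine ⟨fun N hN => ?_⟩
  haveI := hN
  by_contra hno
  push Not at hno
  obtain ⟨hbot, htop⟩ := hno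
  have hN1 : Nat.card N ≠ 1 := fun e => hbot (Subgroup.eq_bot_of_card_eq N e)
  have hNd : Nat.card N ∣ 95040 := hG ▸ Subgroup.card_subgroup_dvd_card N
  by_cases h11N : 11 ∣ Nat.card N
  · obtain ⟨P⟩ := (inferInstance : Nonempty (Sylow 11 G))
    have hcop : ¬ 11 ∣ N.index := fun hd => by
      have := mul_dvd_mul h11N hd
      rw [N.card_mul_index, hG] at this
      norm_num at this
    have hmem : ∀ g : G, orderOf g = 11 → g ∈ N := fun g hg =>
      mem_of_coprime_index (hg ▸ (h11p.out.coprime_iff_not_dvd.2 hcop))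
    have hPN : (P : Subgroup G) ≤ N := fun g hg => by
      rcases (Nat.dvd_prime h11p.out).1 (hP11 P ▸ Subgroup.orderOf_dvd_natCard _ hg) with e | e
      · rw [orderOf_eq_one_iff.1 e]; exact N.one_mem
      · exact hmem g e
    have hi : N.index ∣ 5 * 11 := by
      have hsup := Sylow.normalizer_sup_eq_top' P hPN
      have h55 : Nat.card (normalizer ((P : Subgroup G) : Set G)) = 5 * 11 := by
        have h1 : Nat.card (normalizer ((P : Subgroup G) : Set G)) * Nat.card (Sylow 11 G) =
            Nat.card G := by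
          rw [Sylow.card_eq_index_normalizer P]; exact Subgroup.card_mul_index _
        rw [hn11, hG] at h1
        omega
      rw [← h55, ← Subgroup.relIndex_top_right, ← hsup, Subgroup.relIndex_sup_right]
      exact Subgroup.relIndex_dvd_card _ _
    have hi5 : N.index = 5 := by
      rcases (Nat.dvd_prime (show Nat.Prime 5 by norm_num)).1
        ((h11p.out.coprime_iff_not_dvd.2 hcop).symm.dvd_of_dvd_mul_right hi) with e | e
      · exact absurd (Subgroup.index_eq_one.1 e) htop
      · exact e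
    have hle : Nat.card {g : G // orderOf g = 11} + Nat.card {g : G // orderOf g = 2} +
        Nat.card {g : G // orderOf g = 3} ≤ Nat.card N := by
      simp only [Nat.card_eq_fintype_card, Fintype.card_subtype]
      rw [← Finset.card_union_of_disjoint, ← Finset.card_union_of_disjoint]
      · refine Finset.card_le_card fun g hg => ?_
        simp only [Finset.mem_union, Finset.mem_filter, Finset.mem_univ, true_and] at hg ⊢
        refine mem_of_coprime_index ?_
        rw [hi5]
        rcases hg with (e | e) | e <;> rw [e] <;> norm_num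
      all_goals
        rw [Finset.disjoint_left]
        intro g
        simp only [Finset.mem_union, Finset.mem_filter, Finset.mem_univ, true_and]
        omega
    rw [← cnt, ← cnt, ← cnt, count_eleven h, count_two h, count_three h] at hle
    have := N.card_mul_index
    rw [hi5, hG] at this
    omega
  · obtain ⟨q, hq, hqN⟩ := Nat.exists_prime_and_dvd hN1
    haveI := Fact.mk hq
    have hq11 : q ≠ 11 := fun e => h11N (e ▸ hqN)
    have hqd : q ∣ 2 ^ 6 * (3 ^ 3 * (5 * 11)) := hqN.trans hNd
    have hq' : q = 2 ∨ q = 3 ∨ q = 5 := by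
      rcases hq.dvd_mul.1 hqd with e | e
      · exact Or.inl ((Nat.prime_dvd_prime_iff_eq hq Nat.prime_two).1 (hq.dvd_of_dvd_pow e))
      rcases hq.dvd_mul.1 e with e | e
      · exact Or.inr (Or.inl
          ((Nat.prime_dvd_prime_iff_eq hq Nat.prime_three).1 (hq.dvd_of_dvd_pow e)))
      rcases hq.dvd_mul.1 e with e | e
      · exact Or.inr (Or.inr ((Nat.prime_dvd_prime_iff_eq hq (by norm_num)).1 e))
      · exact absurd ((Nat.prime_dvd_prime_iff_eq hq h11p.out).1 e) hq11
    obtain ⟨g, hg⟩ := CfsgLib.Small.O7920.edge_of_normal (p := 11) hq11.symm N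
      (by rw [hG]; norm_num) h11N fun b hb hb' => by
        have hb0 : b ≠ 0 := by rintro rfl; exact hb' (by simpa using hqN)
        have hbd : q ^ b ∣ 95040 := hb.trans hNd
        have hb7 : b ≤ 16 := by
          by_contra hc
          have h1 := Nat.le_of_dvd (by norm_num) hbd
          have h2 : 2 ^ b ≤ q ^ b := Nat.pow_le_pow_left hq.two_le b
          have h3 : 2 ^ 17 ≤ 2 ^ b := Nat.pow_le_pow_right (by norm_num) (by omega)
          omega
        have key : ∀ r ∈ ({2, 3, 5} : Finset ℕ), ∀ b < 17, b ≠ 0 → r ^ b ∣ 95040 →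
            ¬ 11 ∣ r ^ b - 1 := by decide +kernel
        exact key q (by simpa using hq') b (by omega) hb0 hbd
    have := order_eleven h (g := g) (hg ▸ dvd_mul_right 11 q)
    rw [hg] at this
    have := hq.two_le
    omega

/-- What the numbers of elements of each order give. -/
theorem facts_of_hyp (h : Hyp G) : Facts G :=
  { card := h.card
    simple := simple_group h
    orders := orders_mem h
    c2 := count_two h
    c3 := count_three h
    c5 := count_five h
    c6 := (main_counts h).2.2.1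
    c10 := count_ten h
    c11 := count_eleven h
    c48 := (main_counts h).1
    exists_eight := cnt_pos_iff.1 (main_counts h).2.1
    cent5 := fun _ hg => cent_five h hg
    cent11 := fun _ hg => cent_eleven h hg
    norm5 := fun P => by
      haveI : Fact (Nat.Prime 5) := ⟨by norm_num⟩
      have h1 : Nat.card (normalizer ((P : Subgroup G) : Set G)) * Nat.card (Sylow 5 G) =
          Nat.card G := by
        rw [Sylow.card_eq_index_normalizer P]; exact Subgroup.card_mul_index _
      rw [(sylow_five h).2, h.card] at h1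
      omega }

end CfsgLib.M12Nse
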