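import Mathlib

/-!
# The numbers of elements of each order in a group like the Mathieu group of degree twelve
-/

set_option autoImplicit false

namespace CfsgLib.M12Nse

universe u

variable (G : Type u) [Group G]

/-- the number of elements of a given order -/
noncomputable def cnt (n : ℕ) : ℕ := Nat.card {g : G // orderOf g = n}

/-- the values of these numbers in the Mathieu group of degree twelve -/
def vals : List ℕ := [1, 891, 4400, 5940, 9504, 17280, 23760]

/-- What the hypothesis on the numbers of elements gives at once. -/
structure Hyp : Prop where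
  card : Nat.card G = 95040
  mem : ∀ n, cnt G n = 0 ∨ cnt G n ∈ vals
  big : ∃ n, cnt G n = 23760

/-- The counts, the element orders and the local structure at five and eleven. -/
structure Facts : Prop where
  card : Nat.card G = 95040
  simple : IsSimpleGroup G
  orders : ∀ g : G, orderOf g ∈ [1, 2, 3, 4, 5, 6, 8, 10, 11]
  c2 : cnt G 2 = 891
  c3 : cnt G 3 = 4400
  c5 : cnt G 5 = 9504
  c6 : cnt G 6 = 23760
  c10 : cnt G 10 = 9504
  c11 : cnt G 11 = 17280
  c48 : cnt G 4 + cnt G 8 = 29700
  exists_eight : ∃ g : G, orderOf g = 8
  cent5 : ∀ g : G, orderOf g = 5 → Nat.card (Subgroup.centralizer ({g} : Set G)) = 10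
  cent11 : ∀ g : G, orderOf g = 11 → Nat.card (Subgroup.centralizer ({g} : Set G)) = 11
  norm5 : ∀ P : Sylow 5 G, Nat.card (Subgroup.normalizer ((P : Subgroup G) : Set G)) = 40

end CfsgLib.M12Nse
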