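import Cfsg.Agent.Lib.PGroups.Basic
import Cfsg.Agent.Lib.Small.ExtraspecialThirtyTwo

/-!
# Groups of order 32 with an automorphism of order three fixing a central involution and the identity

Such a group is extraspecial as soon as some involution is not central.
-/

set_option autoImplicit false
set_option linter.unusedSectionVars false
set_option linter.style.haveILetI false

namespace CfsgLib.M12Nse.FixThree

open Subgroup
open scoped commutatorElement

variable {X : Type*} [Group X] [Finite X] {φ : MulAut X}

theorem apply_three (hφ : φ ^ 3 = 1) (a : X) : φ (φ (φ a)) = a := by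
  have h := DFunLike.congr_fun hφ a
  simp only [pow_succ, pow_zero, one_mul, MulAut.mul_apply, MulAut.one_apply] at h
  exact h

theorem center_map (φ : MulAut X) {z : X} (hz : z ∈ center X) : φ z ∈ center X :=
  mem_center_iff.2 fun g => by
    rw [← φ.apply_symm_apply g, ← map_mul, ← map_mul, mem_center_iff.1 hz]

/-- The order of the centre is the number of fixed points modulo three. -/
theorem card_center_mod (hφ : φ ^ 3 = 1) (hfix : ∀ a, φ a = a → a ∈ center X) :
    Nat.card (center X) % 3 = Nat.card {a : X // φ a = a} % 3 := by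
  haveI : Fact (Nat.Prime 3) := ⟨Nat.prime_three⟩
  have h := CfsgLib.Small.card_fixed_aut_modEq hφ (P := fun a => a ∈ center X)
    fun a ha => center_map φ ha
  rw [Nat.card_congr (Equiv.subtypeEquivRight (q := fun a => φ a = a)
    fun a => and_iff_right_of_imp fun ha => hfix a ha)] at h
  exact h.symm

/-- No coset of the centre outside it is invariant. -/
theorem coset_not_fixed (hφ : φ ^ 3 = 1) (hfix : ∀ a, φ a = a → a ∈ center X)
    (h3 : ¬ 3 ∣ Nat.card (center X)) {b : X} (hb : b ∉ center X) : b⁻¹ * φ b ∉ center X := by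
  haveI : Fact (Nat.Prime 3) := ⟨Nat.prime_three⟩
  intro hc
  have hP : ∀ a, b⁻¹ * a ∈ center X → b⁻¹ * φ a ∈ center X := fun a ha => by
    have e : b⁻¹ * φ a = b⁻¹ * φ b * φ (b⁻¹ * a) := by simp
    rw [e]
    exact mul_mem hc (center_map φ ha)
  have h := CfsgLib.Small.card_fixed_aut_modEq hφ (P := fun a => b⁻¹ * a ∈ center X) hP
  haveI : IsEmpty {a : X // b⁻¹ * a ∈ center X ∧ φ a = a} := ⟨fun a => hb (by
    have h1 := mul_mem a.2.1 (inv_mem (hfix _ a.2.2))
    rw [mul_inv_cancel_right] at h1
    simpa using inv_mem h1)⟩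
  rw [Nat.card_of_isEmpty, Nat.card_congr (β := center X)
    (show {a : X // b⁻¹ * a ∈ center X} ≃ center X from
      { toFun := fun a => ⟨b⁻¹ * a.1, a.2⟩
        invFun := fun z => ⟨b * z.1, by rw [inv_mul_cancel_left]; exact z.2⟩
        left_inv := fun a => Subtype.ext (mul_inv_cancel_left _ _)
        right_inv := fun z => Subtype.ext (inv_mul_cancel_left _ _) })] at h
  exact h3 ((Nat.modEq_zero_iff_dvd).1 h.symm)

/-- With a centre of index at most four, an element commuting with its image is central. -/
theorem mem_center_of_commute (hφ : φ ^ 3 = 1) (hfix : ∀ a, φ a = a → a ∈ center X)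
    (h3 : ¬ 3 ∣ Nat.card (center X)) (h4 : (center X).index ∣ 4) {b : X}
    (hc : b * φ b = φ b * b) : b ∈ center X := by
  classical
  by_contra hb
  set C := centralizer ({b} : Set X) with hC
  have hZC : center X ≤ C := center_le_centralizer _
  have hrel := relIndex_mul_index hZC
  have hC1 : C.index ≠ 1 := fun h => hb (mem_center_iff.2 fun g =>
    mem_centralizer_singleton_iff.1 (show g ∈ C by rw [index_eq_one.1 h]; trivial))
  have hCle : (center X).relIndex C ≤ 2 := by
    have h0 : C.index ≠ 0 := index_ne_zero_of_finite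
    have := Nat.le_of_dvd (by norm_num) h4
    rw [← hrel] at this
    have : 2 ≤ C.index := by omega
    nlinarith
  -- three cosets
  have hbC : b ∈ C := mem_centralizer_singleton_iff.2 rfl
  have hfC : φ b ∈ C := mem_centralizer_singleton_iff.2 hc.symm
  have hfb : φ b ∉ center X := fun h => hb (by
    have := center_map φ.symm h
    rwa [φ.symm_apply_apply] at this)
  let f : Fin 3 → C ⧸ (center X).subgroupOf C :=
    ![((1 : C) : C ⧸ _), ((⟨b, hbC⟩ : C) : C ⧸ _), ((⟨φ b, hfC⟩ : C) : C ⧸ _)]
  have hne := coset_not_fixed hφ hfix h3 hb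
  have hf : Function.Injective f := by
    intro i j
    have h1 : ∀ u v : C, ((u : C) : C ⧸ (center X).subgroupOf C) = v →
        ((u : X)⁻¹ * v ∈ center X) := fun u v h =>
      mem_subgroupOf.1 (QuotientGroup.eq.1 h)
    fin_cases i <;> fin_cases j <;> intro h <;> first
      | rfl
      | exact absurd (h1 _ _ h) (by simpa using hb)
      | exact absurd (h1 _ _ h) (by simpa using hfb)
      | exact absurd (h1 _ _ h) hne
      | exact absurd (inv_mem (h1 _ _ h)) (by simpa using hne)
  have := Nat.card_le_card_of_injective f hf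
  rw [Nat.card_fin] at this
  rw [relIndex, index] at hCle
  omega

/-- Without fixed points, every element commutes with its image. -/
theorem commute_apply (hφ : φ ^ 3 = 1) (hfix : ∀ a, φ a = a → a = 1) (g : X) :
    g * φ g = φ g * g := by
  have hsurj : ∀ f : X → X, Function.Injective f → Function.Surjective f := fun f hf =>
    Finite.injective_iff_surjective.1 hf
  obtain ⟨y, hy⟩ := hsurj (fun y => y⁻¹ * φ y) (fun y z h => by
    have h' : y⁻¹ * φ y = z⁻¹ * φ z := h
    have : φ (y * z⁻¹) = y * z⁻¹ := by
      rw [map_mul, map_inv, ← mul_inv_cancel_left y (φ y), h']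
      group
    exact mul_inv_eq_one.1 (hfix _ this)) g
  obtain ⟨z, hz⟩ := hsurj (fun y => φ y * y⁻¹) (fun y z h => by
    have h' : φ y * y⁻¹ = φ z * z⁻¹ := h
    have : φ (z⁻¹ * y) = z⁻¹ * y := by
      rw [map_mul, map_inv, ← inv_mul_cancel_right (φ y) y, h']
      group
    exact (inv_mul_eq_one.1 (hfix _ this)).symm) g
  have h1 : g * φ g * φ (φ g) = 1 := by
    rw [← hy]
    simp only [map_mul, map_inv, apply_three hφ]
    group
  have h2 : φ (φ g) * φ g * g = 1 := by
    rw [← hz]
    simp only [map_mul, map_inv, apply_three hφ]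
    group
  have h3 : φ (φ g) * (g * φ g) = 1 := by
    have := congrArg φ (congrArg φ h1)
    simpa [apply_three hφ, mul_assoc] using this
  rw [← mul_right_inj (φ (φ g)), h3, ← mul_assoc]
  exact h2.symm

/-- A group of order sixteen with such an automorphism is abelian. -/
theorem comm_of_sixteen (hX : Nat.card X = 16) (hφ : φ ^ 3 = 1) (hfix : ∀ a, φ a = a → a = 1)
    (a b : X) : a * b = b * a := by
  have hfix' : ∀ a, φ a = a → a ∈ center X := fun a ha => (hfix a ha).symm ▸ one_mem _
  haveI : Nontrivial X := by rw [← Finite.one_lt_card_iff_nontrivial, hX]; norm_num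
  haveI : Fact (Nat.Prime 2) := ⟨Nat.prime_two⟩
  haveI := (IsPGroup.of_card (p := 2) (n := 4) (by rw [hX]; norm_num)).center_nontrivial (G := X)
  have hmod := card_center_mod hφ hfix'
  rw [show Nat.card {a : X // φ a = a} = 1 from Nat.card_eq_one_iff_unique.2
    ⟨⟨fun u v => Subtype.ext ((hfix _ u.2).trans (hfix _ v.2).symm)⟩, ⟨⟨1, map_one φ⟩⟩⟩] at hmod
  have h1 : 1 < Nat.card (center X) := Finite.one_lt_card
  have hm := (center X).card_mul_index
  have hd : Nat.card (center X) ∣ 16 := hX ▸ (center X).card_subgroup_dvd_card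
  have h4 : (center X).index ∣ 4 := by
    obtain ⟨i, hi, he⟩ := (Nat.dvd_prime_pow Nat.prime_two).1 (show _ ∣ 2 ^ 4 from hd)
    rw [he] at hmod h1 hm
    rw [hX] at hm
    interval_cases i
    all_goals first
      | omega
      | rcases (show (center X).index = 4 ∨ (center X).index = 1 by omega) with h | h
    all_goals norm_num [h]
  have hall : ∀ g : X, g ∈ center X := fun g =>
    mem_center_of_commute hφ hfix' (by omega) h4 (commute_apply hφ hfix g)
  exact (mem_center_iff.1 (hall a) b).symm

variable {t : X}

/-- An element with a power of the automorphism moving it inside its coset of the fixed group is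
fixed. -/
theorem eq_of_apply_eq (hφ : φ ^ 3 = 1) (ht1 : t ≠ 1) (htt : t * t = 1)
    (hfix : ∀ a, φ a = a ↔ a = 1 ∨ a = t) {a : X} (h : φ a = a * t) : False := by
  have ht : φ t = t := (hfix t).2 (Or.inr rfl)
  have h2 : φ (φ a) = a := by rw [h, map_mul, h, ht, mul_assoc, htt, mul_one]
  have h3 := apply_three hφ a
  rw [h2, h] at h3
  exact ht1 (mul_eq_left.1 h3)

/-- The group is extraspecial. -/
theorem isExtraspecial (hX : Nat.card X = 32) (htc : ∀ a, a * t = t * a) (ht1 : t ≠ 1)
    (htt : t * t = 1) (hφ : φ ^ 3 = 1) (hfix : ∀ a, φ a = a ↔ a = 1 ∨ a = t) {q : X}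
    (hqq : q * q = 1) (hq : q ∉ center X) : Cfsg.IsExtraspecial 2 X := by
  haveI : Fact (Nat.Prime 2) := ⟨Nat.prime_two⟩
  have ht : φ t = t := (hfix t).2 (Or.inr rfl)
  set K := zpowers t with hK
  have hto : orderOf t = 2 := orderOf_eq_prime (by rw [pow_two, htt]) ht1
  have hKmem : ∀ a, a ∈ K ↔ a = 1 ∨ a = t := fun a => by
    constructor
    · intro ha
      obtain ⟨n, rfl⟩ := mem_zpowers_iff.1 ha
      have h2 : t ^ (2 : ℤ) = 1 := by rw [zpow_two, htt]
      rcases Int.even_or_odd n with ⟨m, rfl⟩ | ⟨m, rfl⟩
      · left; rw [← two_mul, zpow_mul, h2, one_zpow]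
      · right; rw [zpow_add, zpow_mul, h2, one_zpow, zpow_one, one_mul]
    · rintro (rfl | rfl)
      exacts [one_mem _, mem_zpowers _]
  haveI hKn : K.Normal := ⟨fun n hn g => by
    rcases (hKmem n).1 hn with rfl | rfl
    · simp
    · rw [htc, mul_inv_cancel_right]; exact mem_zpowers _⟩
  have hKφ : K.map φ.toMonoidHom = K := by
    rw [hK, MonoidHom.map_zpowers]
    exact congrArg zpowers ht
  set ψ : MulAut (X ⧸ K) := QuotientGroup.congr K K φ hKφ with hψdef
  have hψmk : ∀ a : X, ψ (a : X ⧸ K) = ((φ a : X) : X ⧸ K) := fun a => rfl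
  have hψ : ψ ^ 3 = 1 := by
    refine MulEquiv.ext fun a => ?_
    induction a using QuotientGroup.induction_on with | _ a =>
    simp only [pow_succ, pow_zero, one_mul, MulAut.mul_apply, MulAut.one_apply, hψmk,
      apply_three hφ]
  have hψfix : ∀ a : X ⧸ K, ψ a = a → a = 1 := by
    intro a ha
    induction a using QuotientGroup.induction_on with | _ a =>
    rw [hψmk, QuotientGroup.eq] at ha
    rcases (hKmem _).1 ha with h | h
    · refine (QuotientGroup.eq_one_iff a).2 ((hKmem a).2 ((hfix a).1 ?_))
      exact inv_mul_eq_one.1 h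
    · refine (eq_of_apply_eq hφ ht1 htt hfix (a := a) ?_).elim
      have h' : a = φ a * t := by rw [← h, mul_inv_cancel_left]
      conv_rhs => rw [h', mul_assoc, htt, mul_one]
  have hKc : Nat.card K = 2 := (Nat.card_zpowers t).trans hto
  have hB : Nat.card (X ⧸ K) = 16 := by
    have := card_eq_card_quotient_mul_card_subgroup K
    rw [hX, hKc] at this
    omega
  have hcomm : ∀ a b : X, a * b = b * a ∨ a * b = b * a * t := fun a b => by
    have := comm_of_sixteen hB hψ hψfix (a : X ⧸ K) (b : X ⧸ K)
    rw [← QuotientGroup.mk_mul, ← QuotientGroup.mk_mul, QuotientGroup.eq] at this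
    rcases (hKmem _).1 this with h | h
    · exact Or.inl (inv_mul_eq_one.1 h)
    · refine Or.inr ?_
      have h' := congrArg (fun c => a * b * c) h
      simp only [mul_inv_cancel_left] at h'
      rw [h', mul_assoc (a * b), htt, mul_one]
  have hsqc : ∀ a : X, a * a ∈ center X := fun a => mem_center_iff.2 fun g => by
    rcases hcomm g a with h | h
    · exact ((show Commute g a from h).mul_right h).eq
    · calc g * (a * a) = g * a * a := (mul_assoc _ _ _).symm
        _ = a * g * (t * a) := by rw [h, mul_assoc (a * g)]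
        _ = a * (g * a) * t := by rw [← htc]; simp only [mul_assoc]
        _ = a * (a * g) * (t * t) := by rw [h]; simp only [mul_assoc]
        _ = a * a * g := by rw [htt, mul_one, mul_assoc]
  -- the centre
  have htZ : t ∈ center X := mem_center_iff.2 htc
  have hfixZ : ∀ a, φ a = a → a ∈ center X := fun a ha => by
    rcases (hfix a).1 ha with rfl | rfl
    exacts [one_mem _, htZ]
  have hmod := card_center_mod hφ hfixZ
  rw [show Nat.card {a : X // φ a = a} = 2 from by
    rw [← hto, ← Nat.card_zpowers]
    exact Nat.card_congr (Equiv.subtypeEquivRight fun a => (hfix a).trans (hKmem a).symm)] at hmod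
  have hm := (center X).card_mul_index
  rw [hX] at hm
  obtain ⟨i, hi, he⟩ := (Nat.dvd_prime_pow Nat.prime_two).1
    (show Nat.card (center X) ∣ 2 ^ 5 from (center X).card_subgroup_dvd_card.trans (dvd_of_eq hX))
  have hi' : i = 1 := by
    rw [he] at hmod hm
    interval_cases i
    · norm_num at hmod
    · rfl
    · norm_num at hmod
    · -- index four
      exfalso
      refine hq (mem_center_of_commute hφ hfixZ (by rw [he]; norm_num) ?_ ?_)
      · rw [show (center X).index = 4 by omega]
      have hprod : q * φ q * φ (φ q) ∈ K := by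
        rw [← QuotientGroup.eq_one_iff]
        obtain ⟨y, hy⟩ := (Finite.injective_iff_surjective
          (f := fun y : X ⧸ K => y⁻¹ * ψ y)).1 (fun y z h => by
            have h' : y⁻¹ * ψ y = z⁻¹ * ψ z := h
            refine mul_inv_eq_one.1 (hψfix _ ?_)
            rw [map_mul, map_inv, ← mul_inv_cancel_left y (ψ y), h']
            group) (q : X ⧸ K)
        rw [QuotientGroup.mk_mul, QuotientGroup.mk_mul]
        simp only [← hψmk, ← hy]
        simp only [map_mul, map_inv, apply_three hψ]
        group
      have hsq' : q * φ q * (q * φ q) = 1 := by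
        have hff : φ (φ q) * φ (φ q) = 1 := by rw [← map_mul, ← map_mul, hqq, map_one, map_one]
        have hfi : (φ (φ q))⁻¹ = φ (φ q) := inv_eq_of_mul_eq_one_right hff
        rcases (hKmem _).1 hprod with h | h
        · rw [mul_eq_one_iff_eq_inv.1 h, hfi, hff]
        · have e : q * φ q = t * φ (φ q) := by
            rw [← h, mul_assoc, hff, mul_one]
          rw [e]
          calc t * φ (φ q) * (t * φ (φ q)) = t * (φ (φ q) * t) * φ (φ q) := by group
            _ = t * t * (φ (φ q) * φ (φ q)) := by rw [htc]; group
            _ = 1 := by rw [htt, hff, one_mul]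
      have h1 : (q * φ q)⁻¹ = q * φ q := inv_eq_of_mul_eq_one_right hsq'
      rw [mul_inv_rev, inv_eq_of_mul_eq_one_right hqq,
        inv_eq_of_mul_eq_one_right (show φ q * φ q = 1 by rw [← map_mul, hqq, map_one])] at h1
      exact h1.symm
    · norm_num at hmod
    · exfalso
      exact hq (by
        rw [index_eq_one.1 (show (center X).index = 1 by omega)]
        trivial)
  subst hi'
  rw [pow_one] at he
  have hcen : ∀ d : X, d ∈ center X → d = 1 ∨ d = t := by
    intro d hd
    have hKle : K ≤ center X := zpowers_le.2 htZ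
    have : K = center X := eq_of_le_of_card_ge hKle (by rw [he, hKc])
    exact (hKmem d).1 (this ▸ hd)
  have hp : IsPGroup 2 X := IsPGroup.of_card (n := 5) (by rw [hX]; norm_num)
  have hle : commutator X ≤ center X := by
    rw [_root_.commutator_def, commutator_le]
    intro a _ b _
    rcases hcomm a b with h | h
    · rw [commutatorElement_eq_one_iff_mul_comm.2 h]; exact one_mem _
    · have : ⁅a, b⁆ = t := by
        rw [commutatorElement_def, h, mul_assoc (b * a), ← htc a⁻¹]
        simp only [mul_assoc, mul_inv_cancel_left]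
        rw [← htc b⁻¹, mul_inv_cancel_left]
      rw [this]; exact htZ
  have hcom : commutator X = center X := by
    refine eq_of_le_of_card_ge hle ?_
    obtain ⟨b, hb⟩ : ∃ b, q * b ≠ b * q := by
      by_contra hno
      push Not at hno
      exact hq (mem_center_iff.2 fun g => (hno g).symm)
    haveI : Nontrivial (commutator X) := ⟨⟨⟨_, commutator_mem_commutator (mem_top q) (mem_top b)⟩,
      1, fun h => hb (commutatorElement_eq_one_iff_mul_comm.1 (congrArg Subtype.val h))⟩⟩
    rw [he]
    exact Finite.one_lt_card
  refine ⟨⟨hp, le_antisymm ?_ (hcom ▸ CfsgLib.PGroups.commutator_le_frattini hp), hcom⟩, he⟩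
  exact CfsgLib.PGroups.frattini_le_of_elementary_quotient (p := 2) hle fun a => by
    rw [pow_two]; exact hsqc a

/-- Being extraspecial passes along isomorphisms. -/
theorem isExtraspecial_congr {E E' : Type*} [Group E] [Group E'] {p : ℕ} (e : E ≃* E')
    (h : Cfsg.IsExtraspecial p E) : Cfsg.IsExtraspecial p E' := by
  obtain ⟨⟨hp, hf, hc⟩, hz⟩ := h
  have hcz : (center E).map e.toMonoidHom = center E' := by
    ext y
    simp only [Subgroup.mem_map, mem_center_iff]
    constructor
    · rintro ⟨x, hx, rfl⟩ z
      obtain ⟨w, rfl⟩ := e.surjective z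
      simp [← map_mul, hx w]
    · intro hy
      exact ⟨e.symm y, fun w => e.injective (by simp [hy (e w)]), by simp⟩
  have hcc : (commutator E).map e.toMonoidHom = commutator E' := by
    rw [_root_.commutator_def, map_commutator, Subgroup.map_top_of_surjective _ e.surjective,
      _root_.commutator_def]
  refine ⟨⟨hp.of_equiv e, ?_, by rw [← hcc, hc, hcz]⟩, ?_⟩
  · rw [← hcz, ← hf]
    ext y
    obtain ⟨x, rfl⟩ := e.surjective y
    rw [show e x = e.toMonoidHom x from rfl, mem_map_iff_mem e.injective,
      CfsgLib.PGroups.mem_frattini_iff, CfsgLib.PGroups.mem_frattini_iff]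
    constructor
    · intro h M hM
      exact h (M.map e.toMonoidHom) ((e.mapSubgroup.isCoatom_iff M).2 hM) |>
        (mem_map_iff_mem e.injective).1
    · intro h M hM
      have hM' : IsCoatom (M.comap e.toMonoidHom) := by
        refine (e.mapSubgroup.isCoatom_iff _).1 ?_
        show IsCoatom ((M.comap e.toMonoidHom).map e.toMonoidHom)
        rwa [map_comap_eq_self_of_surjective e.surjective]
      exact h _ hM'
  · rw [← hcz, card_map_of_injective e.injective, hz]


end CfsgLib.M12Nse.FixThree
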