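import Cfsg.Agent.Lib.M12Nse.Defs
import Cfsg.Agent.Lib.M12Nse.TargetData
import Cfsg.Agent.Lib.KnownA.MathieuOut.Main

/-!
# The numbers of elements of each order in the Mathieu group of degree twelve

The elements with prescribed images of some points of the dodecad are counted along a search tree:
the stabiliser of at most four points is transitive on the remaining points of the dodecad, and
five images determine the element.
-/

set_option autoImplicit false
set_option maxRecDepth 100000

namespace CfsgLib.M12Nse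

open Cfsg CfsgLib.Spor CfsgLib.MathieuOut
open scoped Pointwise

/-! ### The checked computations -/

/-- the indices of the points of the dodecad -/
def dodL : List ℕ := (List.range 24).filter fun i => dodec0.testBit i

/-- the points met by the prescribed pairs and one further point -/
def met (P : List (ℕ × ℕ)) (x : ℕ) : List ℕ :=
  ((x :: P.map Prod.fst) ++ P.map Prod.snd).dedup

/-- the least exponent up to eleven killing a packed permutation -/
def ordP (a : ℕ) : ℕ :=
  ((List.range' 1 11).find? fun k => eqP (MathieuOut.powP a k) MathieuOut.idP).getD 0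

/-- checks a tree below prescribed pairs; `some` stands for the inside of a branch -/
def chk : List (ℕ × ℕ) → Option (ℕ × List ℕ) → Tr → Bool
  | P, none, .leaf c =>
    inStabP dodMasks [] c && Nat.beq (P.map Prod.fst).length 5 && decide (P.map Prod.fst).Nodup &&
      decide (P.map Prod.snd).Nodup &&
      (P.all fun e => dodL.contains e.1 && dodL.contains e.2 && Nat.beq (getP c e.1) e.2) &&
      Nat.blt 0 (ordP c)
  | P, none, .clash => P.any fun e => P.any fun f => !Nat.beq e.1 f.1 && Nat.beq e.2 f.2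
  | P, none, .fan x k => dodL.contains x && chk P (some (x, [])) k
  | P, some (x, cov), .kid ys T rest =>
    (match ys with
      | [] => false
      | [y] => dodL.contains y && chk ((x, y) :: P) none T
      | y :: rs =>
        chk ((x, y) :: P) none T && Nat.ble (met P x).length 4 &&
          ((met P x).all dodL.contains) &&
          ((y :: rs).all fun z => dodL.contains z && !(met P x).contains z)) &&
      chk P (some (x, cov ++ ys)) rest
  | _, some (_, cov), .stop =>
    decide cov.Nodup && Nat.beq cov.length dodL.length && cov.all dodL.contains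
  | _, _, _ => false

/-- the number of elements of a given order below a tree -/
def tal : Tr → ℕ → ℕ
  | .leaf c, n => if Nat.beq (ordP c) n then 1 else 0
  | .clash, _ => 0
  | .fan _ k, n => tal k n
  | .kid ys T rest, n => ys.length * tal T n + tal rest n
  | .stop, _ => 0

theorem tree_ok : chk [] none tree = true := by decide +kernel

theorem tree_tally : (List.range 12).map (tal tree) =
    [0, 1, 891, 4400, 5940, 9504, 23760, 0, 23760, 0, 9504, 17280] := by decide +kernel

theorem tal_of_le : ∀ (T : Tr) (n : ℕ), 12 ≤ n → tal T n = 0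
  | .leaf c, n, hn => by
    have h : ordP c < 12 := by
      unfold ordP
      cases he : (List.range' 1 11).find? fun k => eqP (MathieuOut.powP c k) MathieuOut.idP with
      | none => simp
      | some k =>
        have := List.mem_range'.1 (List.mem_of_find?_eq_some he)
        simp only [Option.getD_some]
        omega
    simp [tal, show ordP c ≠ n by omega]
  | .clash, _, _ => rfl
  | .fan _ k, n, hn => by rw [tal, tal_of_le k n hn]
  | .kid ys T rest, n, hn => by rw [tal, tal_of_le T n hn, tal_of_le rest n hn, Nat.mul_zero]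
  | .stop, _, _ => rfl

/-! ### What they mean -/

/-- the number of elements of order `n` with the prescribed images -/
noncomputable def num (P : List (ℕ × ℕ)) (n : ℕ) : ℕ :=
  Nat.card {g : ↥Cfsg.Spor.M12 //
    orderOf g = n ∧ ∀ e ∈ P, (g : Equiv.Perm GolayPt) (pt e.1) = pt e.2}

theorem lt_of_mem_dodL {i : ℕ} (h : i ∈ dodL) : i < 24 :=
  List.mem_range.1 (List.mem_filter.1 h).1

theorem pt_inj {i j : ℕ} (hi : i ∈ dodL) (hj : j ∈ dodL) (h : pt i = pt j) : i = j := by
  rw [← idx_pt (lt_of_mem_dodL hi), h, idx_pt (lt_of_mem_dodL hj)]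

theorem pt_mem {i : ℕ} (h : i ∈ dodL) : pt i ∈ toSet dodec0 :=
  mem_toSet.2 (by rw [idx_pt (lt_of_mem_dodL h)]; exact (List.mem_filter.1 h).2)

theorem dodec0_eq : toSet dodec0 = Cfsg.Spor.squareDodecad := toSet_dodec0

theorem take_lev12_ok : ((List.range 6).all fun k =>
    levelsOK [dodec0] dodec0 [] (lev12.take k) && Nat.beq (lev12.take k).length k) = true := by
  decide +kernel

/-- transitivity on lists of at most five points of the dodecad -/
theorem exists_list_map {s t : List ℕ} (hlen : t.length = s.length) (h5 : s.length ≤ 5)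
    (hs : s.Nodup) (ht : t.Nodup) (hsD : ∀ i ∈ s, i ∈ dodL) (htD : ∀ i ∈ t, i ∈ dodL) :
    ∃ g : ↥Cfsg.Spor.M12, s.map (fun i => (g : Equiv.Perm GolayPt) (pt i)) = t.map pt := by
  have hk := List.all_eq_true.1 take_lev12_ok s.length (List.mem_range.2 (by omega))
  simp only [Bool.and_eq_true, Nat.beq_eq] at hk
  have key : ∀ u : List ℕ, u.length = s.length → u.Nodup → (∀ i ∈ u, i ∈ dodL) →
      ∃ g : ↥Cfsg.Spor.M12,
        u.map pt = (lev12.take s.length).map fun l => (g : Equiv.Perm GolayPt) (pt l.1) := by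
    intro u hu hnd hD
    obtain ⟨g, hg, hgd, he⟩ := exists_tuple_map _ [] hk.1 (by simp) (u.map pt)
      (by rw [List.length_map, hu, hk.2])
      (by simpa using List.Nodup.map_on (fun a ha b hb => pt_inj (hD a ha) (hD b hb)) hnd)
      (fun p hp => by
        obtain ⟨i, hi, rfl⟩ := List.mem_map.1 hp
        exact pt_mem (hD i hi))
    exact ⟨⟨g, hg.1, MulAction.mem_stabilizer_iff.2 (dodec0_eq ▸ hgd)⟩, he⟩
  obtain ⟨a, ha⟩ := key s rfl hs hsD
  obtain ⟨b, hb⟩ := key t hlen ht htD
  refine ⟨b * a⁻¹, ?_⟩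
  rw [show (fun i => ((b * a⁻¹ : ↥Cfsg.Spor.M12) : Equiv.Perm GolayPt) (pt i)) =
      (fun p => ((b * a⁻¹ : ↥Cfsg.Spor.M12) : Equiv.Perm GolayPt) p) ∘ pt from rfl,
    ← List.map_map, ha, hb, List.map_map]
  refine List.map_congr_left fun l _ => ?_
  simp

/-- a branch on the image of a point of the dodecad -/
theorem num_fan (P : List (ℕ × ℕ)) (n : ℕ) {x : ℕ} (hx : x ∈ dodL) :
    num P n = (dodL.map fun y => num ((x, y) :: P) n).sum := by
  classical
  have hnd : dodL.Nodup := List.nodup_range.filter _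
  rw [← List.sum_toFinset _ hnd]
  have hmem : ∀ g : ↥Cfsg.Spor.M12, idx ((g : Equiv.Perm GolayPt) (pt x)) ∈ dodL := fun g => by
    refine List.mem_filter.2 ⟨List.mem_range.2 (idx_lt _), ?_⟩
    refine mem_toSet.1 ?_
    have h : (g : Equiv.Perm GolayPt) • toSet dodec0 = toSet dodec0 :=
      dodec0_eq.symm ▸ MulAction.mem_stabilizer_iff.1 g.2.2
    rw [← h]
    exact Finset.smul_mem_smul_finset (pt_mem hx)
  simp only [num, Nat.card_eq_fintype_card, Fintype.card_subtype]
  rw [Finset.card_eq_sum_card_fiberwise (f := fun g : ↥Cfsg.Spor.M12 => idx ((g : Equiv.Perm GolayPt) (pt x)))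
    (t := dodL.toFinset) fun g _ => List.mem_toFinset.2 (hmem g)]
  refine Finset.sum_congr rfl fun y hy => congrArg Finset.card ?_
  have hy' : y < 24 := lt_of_mem_dodL (List.mem_toFinset.1 hy)
  ext g
  simp only [Finset.mem_filter, Finset.mem_univ, true_and, List.forall_mem_cons]
  constructor
  · rintro ⟨⟨h1, h2⟩, h3⟩
    exact ⟨h1, by rw [← h3, pt_idx], h2⟩
  · rintro ⟨h1, h2, h3⟩
    exact ⟨⟨h1, h3⟩, by rw [h2, idx_pt hy']⟩

/-- points equivalent under the stabiliser of the points met before -/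
theorem num_move (P : List (ℕ × ℕ)) (n : ℕ) {x y z : ℕ} (hlen : (met P x).length ≤ 4)
    (hD : ∀ i ∈ met P x, i ∈ dodL) (hy : y ∈ dodL) (hz : z ∈ dodL) (hym : y ∉ met P x)
    (hzm : z ∉ met P x) : num ((x, z) :: P) n = num ((x, y) :: P) n := by
  have hnd : (met P x).Nodup := List.nodup_dedup _
  obtain ⟨h, hh⟩ := exists_list_map (s := y :: met P x) (t := z :: met P x) rfl
    (by rw [List.length_cons]; omega) (List.nodup_cons.2 ⟨hym, hnd⟩)
    (List.nodup_cons.2 ⟨hzm, hnd⟩) (by simpa [hy] using hD) (by simpa [hz] using hD)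
  simp only [List.map_cons, List.cons.injEq] at hh
  obtain ⟨hhy, hfix⟩ := hh
  have hfix' : ∀ i ∈ met P x, (h : Equiv.Perm GolayPt) (pt i) = pt i :=
    List.map_inj_left.1 hfix
  have hfix'' : ∀ i ∈ met P x, (h : Equiv.Perm GolayPt)⁻¹ (pt i) = pt i := fun i hi =>
    Equiv.Perm.inv_eq_iff_eq.2 (hfix' i hi).symm
  have hm : x ∈ met P x ∧ ∀ e ∈ P, e.1 ∈ met P x ∧ e.2 ∈ met P x := by
    simp only [met, List.mem_dedup, List.mem_append, List.mem_cons, List.mem_map]
    exact ⟨Or.inl (Or.inl trivial),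
      fun e he => ⟨Or.inl (Or.inr ⟨e, he, rfl⟩), Or.inr ⟨e, he, rfl⟩⟩⟩
  unfold num
  refine Nat.card_congr ((MulAut.conj h⁻¹).toEquiv.subtypeEquiv fun g => ?_)
  simp only [MulEquiv.toEquiv_eq_coe, MulEquiv.coe_toEquiv, MulEquiv.orderOf_eq]
  simp only [MulAut.conj_apply, inv_inv, Subgroup.coe_mul, Subgroup.coe_inv, Equiv.Perm.mul_apply,
    List.forall_mem_cons, hfix' x hm.1]
  refine and_congr_right fun _ => and_congr ?_ (forall₂_congr fun e he => ?_)
  · rw [Equiv.Perm.inv_eq_iff_eq, hhy]
  · rw [hfix' _ (hm.2 e he).1, Equiv.Perm.inv_eq_iff_eq, hfix' _ (hm.2 e he).2]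

theorem orderOf_of_ordP {σ : Equiv.Perm GolayPt} {c : ℕ} (h : Rep σ c) (hpos : 0 < ordP c) :
    orderOf σ = ordP c := by
  have hrep := fun k => (MathieuOut.rep_pow h k)
  unfold ordP at hpos ⊢
  cases he : (List.range' 1 11).find? fun k => eqP (MathieuOut.powP c k) MathieuOut.idP with
  | none => rw [he] at hpos; simp at hpos
  | some k =>
    obtain ⟨hk, as, bs, hl, hbef⟩ := List.find?_eq_some_iff_append.1 he
    rw [he] at hpos
    simp only [Option.getD_some] at hpos ⊢
    refine (orderOf_eq_iff hpos).2 ⟨(eqP_iff (hrep k) MathieuOut.rep_idP).1 hk, fun j hj hj0 e => ?_⟩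
    have hjm : j ∈ as := by
      obtain ⟨i, hi, hik⟩ := List.mem_range'.1 (List.mem_of_find?_eq_some he)
      have hjr : j ∈ List.range' 1 11 := List.mem_range'.2 ⟨j - 1, by omega, by omega⟩
      rw [hl, List.mem_append, List.mem_cons] at hjr
      rcases hjr with h1 | rfl | h1
      · exact h1
      · exact absurd hj (lt_irrefl _)
      · have hs : (as ++ k :: bs).Pairwise (· < ·) := hl ▸ List.pairwise_lt_range'
        exact absurd ((List.pairwise_cons.1 (List.pairwise_append.1 hs).2.1).1 j h1) (by omega)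
    have := hbef j hjm
    rw [(eqP_iff (hrep j) MathieuOut.rep_idP).2 e] at this
    simp at this

/-- five images determine the element -/
theorem num_leaf (P : List (ℕ × ℕ)) (n : ℕ) {c : ℕ} (hc : chk P none (.leaf c) = true) :
    num P n = if Nat.beq (ordP c) n then 1 else 0 := by
  simp only [chk, Bool.and_eq_true, decide_eq_true_eq, Nat.beq_eq, List.all_eq_true,
    List.contains_iff_mem, Nat.blt_eq] at hc
  obtain ⟨⟨⟨⟨⟨hmem, hlen⟩, hnd1⟩, hnd2⟩, hP⟩, hpos⟩ := hc
  obtain ⟨σ, hσ, hσc⟩ := repIn_of_inStabP (prev := []) (by simp) hmem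
  have hσ' : σ ∈ Cfsg.Spor.M12 := stabG_M12 ▸ hσ
  have hσP : ∀ e ∈ P, σ (pt e.1) = pt e.2 := fun e he => by
    rw [← (hP e he).2, hσc _ (lt_of_mem_dodL (hP e he).1.1), pt_idx]
  have huniq : ∀ g : ↥Cfsg.Spor.M12, (∀ e ∈ P, (g : Equiv.Perm GolayPt) (pt e.1) = pt e.2) →
      (g : Equiv.Perm GolayPt) = σ := by
    intro g hg
    rw [List.length_map] at hlen
    have i5 : ∀ i : Fin 5, P[(i : ℕ)]'(by omega) ∈ P := fun i => List.getElem_mem _
    let x : Fin 5 ↪ GolayPt := ⟨fun i => pt (P[(i : ℕ)]'(by omega)).1, fun i j e => Fin.ext <|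
      (List.Nodup.getElem_inj_iff hnd1 (hi := by rw [List.length_map]; omega)
        (hj := by rw [List.length_map]; omega)).1
        (by simpa using pt_inj (hP _ (i5 i)).1.1 (hP _ (i5 j)).1.1 e)⟩
    let y : Fin 5 ↪ GolayPt := ⟨fun i => pt (P[(i : ℕ)]'(by omega)).2, fun i j e => Fin.ext <|
      (List.Nodup.getElem_inj_iff hnd2 (hi := by rw [List.length_map]; omega)
        (hj := by rw [List.length_map]; omega)).1
        (by simpa using pt_inj (hP _ (i5 i)).1.2 (hP _ (i5 j)).1.2 e)⟩
    obtain ⟨w, -, hw⟩ := existsUnique_five_dodecad dodec0_mem x y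
      (fun i => pt_mem (hP _ (i5 i)).1.1) (fun i => pt_mem (hP _ (i5 i)).1.2)
    have e1 := hw ⟨⟨g.1, g.2.1⟩,
      MulAction.mem_stabilizer_iff.2 (dodec0_eq.symm ▸ MulAction.mem_stabilizer_iff.1 g.2.2)⟩
      fun i => hg _ (i5 i)
    have e2 := hw ⟨⟨σ, hσ'.1⟩,
      MulAction.mem_stabilizer_iff.2 (dodec0_eq.symm ▸ MulAction.mem_stabilizer_iff.1 hσ'.2)⟩
      fun i => hσP _ (i5 i)
    exact congrArg (fun v : ↥(MulAction.stabilizer M24 (toSet dodec0)) =>
      ((v : M24) : Equiv.Perm GolayPt)) (e1.trans e2.symm)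
  have hord : orderOf (⟨σ, hσ'⟩ : ↥Cfsg.Spor.M12) = ordP c :=
    (Subgroup.orderOf_mk σ hσ').trans (orderOf_of_ordP hσc hpos)
  unfold num
  by_cases hn : ordP c = n
  · rw [if_pos (by simpa using hn)]
    refine Nat.card_eq_one_iff_unique.2 ⟨⟨fun a b => Subtype.ext (Subtype.ext ?_)⟩,
      ⟨⟨⟨σ, hσ'⟩, hord.trans hn, hσP⟩⟩⟩
    rw [huniq a.1 a.2.2, huniq b.1 b.2.2]
  · rw [if_neg (by simpa using hn), Nat.card_eq_zero]
    refine Or.inl ⟨fun a => hn ?_⟩
    rw [← a.2.1, ← hord]
    exact congrArg orderOf (Subtype.ext (huniq a.1 a.2.2).symm)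

/-- two points with one image -/
theorem num_clash (P : List (ℕ × ℕ)) (n : ℕ)
    (hD : ∀ e ∈ P, e.1 ∈ dodL) (hc : chk P none .clash = true) : num P n = 0 := by
  simp only [chk, List.any_eq_true, Bool.and_eq_true, Bool.not_eq_true', Nat.beq_eq] at hc
  obtain ⟨e, he, f, hf, h1, h2⟩ := hc
  refine Nat.card_eq_zero.2 (Or.inl ⟨fun g => ?_⟩)
  have := pt_inj (hD e he) (hD f hf) <|
    (g.1 : Equiv.Perm GolayPt).injective ((g.2.2 e he).trans (h2 ▸ (g.2.2 f hf).symm))
  simp [this] at h1

/-- what a checked tree counts -/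
theorem chk_spec : ∀ (T : Tr) (n : ℕ) (P : List (ℕ × ℕ)), (∀ e ∈ P, e.1 ∈ dodL) →
    (chk P none T = true → num P n = tal T n) ∧
    ∀ x cov, x ∈ dodL → chk P (some (x, cov)) T = true → ∃ R : List ℕ,
      (cov ++ R).Perm dodL ∧ (R.map fun y => num ((x, y) :: P) n).sum = tal T n
  | .leaf c, n, P, _ => ⟨fun h => num_leaf P n h, fun x cov _ h => by simp [chk] at h⟩
  | .clash, n, P, hD => ⟨fun h => num_clash P n hD h, fun x cov _ h => by simp [chk] at h⟩
  | .fan x k, n, P, hD => by
    refine ⟨fun h => ?_, fun x cov _ h => by simp [chk] at h⟩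
    simp only [chk, Bool.and_eq_true, List.contains_iff_mem] at h
    obtain ⟨R, hR, hsum⟩ := (chk_spec k n P hD).2 x [] h.1 h.2
    rw [num_fan P n h.1, tal, ← hsum]
    exact ((hR.symm.map _).sum_eq)
  | .kid ys T rest, n, P, hD => by
    refine ⟨fun h => by simp [chk] at h, fun x cov hx h => ?_⟩
    simp only [chk, Bool.and_eq_true] at h
    obtain ⟨R, hR, hsum⟩ := (chk_spec rest n P hD).2 x _ hx h.2
    refine ⟨ys ++ R, by rwa [← List.append_assoc], ?_⟩
    rw [List.map_append, List.sum_append, hsum, tal, Nat.add_right_cancel_iff]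
    have hys : ∀ y ∈ ys, num ((x, y) :: P) n = tal T n := by
      have hcons : ∀ y, ∀ e ∈ (x, y) :: P, e.1 ∈ dodL := fun y => by
        simpa [hx] using fun a b => hD (a, b)
      rcases ys with _ | ⟨y, _ | ⟨y', rs⟩⟩
      · simp
      · simp only [Bool.and_eq_true] at h
        simp only [List.mem_singleton, forall_eq]
        exact (chk_spec T n _ (hcons y)).1 h.1.2
      · simp only [Bool.and_eq_true, Nat.ble_eq, List.all_eq_true,
          Bool.not_eq_true', List.contains_eq_mem, decide_eq_false_iff_not, decide_eq_true_eq] at h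
        obtain ⟨⟨⟨⟨hT, hlen⟩, hmet⟩, hall⟩, -⟩ := h
        intro z hz
        rw [num_move P n hlen hmet (hall y (by simp)).1 (hall z hz).1 (hall y (by simp)).2
          (hall z hz).2]
        exact (chk_spec T n _ (hcons y)).1 hT
    rw [List.sum_eq_card_nsmul _ (tal T n) (by simpa using hys), List.length_map, smul_eq_mul]
  | .stop, n, P, _ => by
    refine ⟨fun h => by simp [chk] at h, fun x cov _ h => ⟨[], ?_, by simp [tal]⟩⟩
    simp only [chk, Bool.and_eq_true, decide_eq_true_eq, Nat.beq_eq, List.all_eq_true,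
      List.contains_iff_mem] at h
    rw [List.append_nil]
    exact (h.1.1.subperm h.2).perm_of_length_le (le_of_eq h.1.2.symm)

/-- the numbers of elements of each order in the Mathieu group of degree twelve -/
theorem cnt_M12 (n : ℕ) : cnt ↥Cfsg.Spor.M12 n =
    ([0, 1, 891, 4400, 5940, 9504, 23760, 0, 23760, 0, 9504, 17280] : List ℕ).getD n 0 := by
  have h : num [] n = tal tree n := (chk_spec tree n [] (by simp)).1 tree_ok
  have e : num [] n = cnt ↥Cfsg.Spor.M12 n :=
    Nat.card_congr (Equiv.subtypeEquivRight fun g => by simp)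
  rw [← e, h]
  rcases Nat.lt_or_ge n 12 with hn | hn
  · rw [← tree_tally, List.getD_eq_getElem _ _ (by simpa using hn)]
    simp
  · rw [tal_of_le _ _ hn, List.getD_eq_default _ _ (by simpa using hn)]

theorem hyp_M12 : Hyp ↥Cfsg.Spor.M12 where
  card := CfsgLib.MathieuOut.natCard_M12
  mem n := by
    rw [cnt_M12]
    rcases Nat.lt_or_ge n 12 with hn | hn
    · interval_cases n <;> decide
    · exact Or.inl (List.getD_eq_default _ _ (by simpa using hn))
  big := ⟨6, by rw [cnt_M12]; rfl⟩

universe u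

theorem hyp_of_nse {G : Type u} [Group G] [Finite G]
    (hcard : Nat.card G = Nat.card ↥Cfsg.Spor.M12)
    (hnse : {c : ℕ | 0 < c ∧ ∃ n : ℕ, c = Nat.card {g : G // orderOf g = n}} =
      {c : ℕ | 0 < c ∧ ∃ n : ℕ, c = Nat.card {g : ↥Cfsg.Spor.M12 // orderOf g = n}}) :
    Hyp G where
  card := hcard.trans CfsgLib.MathieuOut.natCard_M12
  mem n := by
    rcases Nat.eq_zero_or_pos (cnt G n) with h | h
    · exact Or.inl h
    · obtain ⟨-, m, hm⟩ := (Set.ext_iff.1 hnse _).1 ⟨h, n, rfl⟩
      rcases hyp_M12.mem m with h' | h'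
      · exact Or.inl (hm.trans h')
      · exact Or.inr ((show cnt G n = cnt ↥Cfsg.Spor.M12 m from hm).symm ▸ h')
  big := by
    obtain ⟨m, hm⟩ := hyp_M12.big
    obtain ⟨-, n, hn⟩ :=
      (Set.ext_iff.1 hnse _).2 ⟨(by rw [hm]; norm_num : 0 < cnt ↥Cfsg.Spor.M12 m), m, rfl⟩
    exact ⟨n, hn.symm.trans hm⟩

end CfsgLib.M12Nse
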