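import Cfsg.Agent.Lib.M12Nse.Abelian
import Cfsg.Agent.Lib.M12Nse.Local

/-!
# The local structure at three follows from the counts
-/

set_option autoImplicit false
set_option linter.unusedSectionVars false
set_option linter.style.haveILetI false
set_option maxHeartbeats 1000000

namespace CfsgLib.M12Nse

universe u

variable {G : Type u} [Group G] [Finite G]

theorem cen_inv (y : G) : cen y⁻¹ = cen y := by
  ext g
  rw [mem_cen, mem_cen]
  exact ⟨fun h => by simpa using ((show Commute g y⁻¹ from h).inv_right).eq,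
    fun h => ((show Commute g y from h).inv_right).eq⟩

theorem nI_inv (y : G) : nI y⁻¹ = nI y :=
  Nat.card_congr (Equiv.subtypeEquivRight fun a => and_congr_right fun _ => by
    constructor <;> intro h
    · simpa using ((show Commute a y⁻¹ from h).inv_right).eq
    · exact ((show Commute a y from h).inv_right).eq)

namespace Facts

variable (F : Facts G)
include F

/-- The centre of a Sylow three-subgroup. -/
theorem exists_center (P : Sylow 3 G) :
    ∃ z ∈ (P : Subgroup G), orderOf z = 3 ∧ (∀ x ∈ (P : Subgroup G), x * z = z * x) ∧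
      ∀ c ∈ (P : Subgroup G), (∀ x ∈ (P : Subgroup G), x * c = c * x) →
        c = 1 ∨ c = z ∨ c = z⁻¹ := by
  haveI : Fact (Nat.Prime 3) := ⟨Nat.prime_three⟩
  haveI : Nontrivial (P : Subgroup G) := by
    rw [← Finite.one_lt_card_iff_nontrivial, F.card_P P]; norm_num
  haveI := P.2.center_nontrivial
  set Z := Subgroup.center (P : Subgroup G) with hZ
  have hd := Z.card_subgroup_dvd_card
  rw [F.card_P P] at hd
  obtain ⟨r, hr3, hr⟩ := (Nat.dvd_prime_pow Nat.prime_three).1 (show _ ∣ 3 ^ 3 from hd)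
  have hr1 : r = 1 := by
    have hr0 : r ≠ 0 := fun h => by
      have := Finite.one_lt_card (α := Z)
      rw [hr, h] at this
      norm_num at this
    by_contra hne
    refine F.not_abelian P ?_
    have hdvd : 9 ∣ Nat.card Z := hr ▸ Nat.pow_dvd_pow 3 (show 2 ≤ r by omega)
    have hq : Nat.card ((P : Subgroup G) ⧸ Z) ∣ 3 := by
      have h := Subgroup.card_eq_card_quotient_mul_card_subgroup Z
      rw [F.card_P P] at h
      obtain ⟨m, hm⟩ := hdvd
      exact ⟨m, by rw [hm] at h; nlinarith⟩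
    haveI : IsCyclic ((P : Subgroup G) ⧸ Z) := by
      rcases (Nat.dvd_prime Nat.prime_three).1 hq with h | h
      · haveI := (Nat.card_eq_one_iff_unique.1 h).1
        infer_instance
      · exact isCyclic_of_prime_card h
    have hc := commutative_of_cyclic_center_quotient (QuotientGroup.mk' Z)
      (le_of_eq (QuotientGroup.ker_mk' Z))
    exact ⟨⟨hc⟩⟩
  have hZ3 : Nat.card Z = 3 := by rw [hr, hr1, pow_one]
  obtain ⟨z0, hz0⟩ := exists_ne (1 : Z)
  have hzne : ((z0 : (P : Subgroup G)) : G) ≠ 1 := fun h => hz0 (Subtype.ext (Subtype.ext h))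
  refine ⟨_, (z0 : (P : Subgroup G)).2, F.mem_P_order P (z0 : (P : Subgroup G)).2 hzne,
    fun x hx => congrArg Subtype.val (Subgroup.mem_center_iff.1 z0.2 ⟨x, hx⟩), fun c hc hcc => ?_⟩
  have hcZ : (⟨c, hc⟩ : (P : Subgroup G)) ∈ Z :=
    Subgroup.mem_center_iff.2 fun x => Subtype.ext (hcc x x.2)
  have hgen : Subgroup.zpowers z0 = ⊤ := zpowers_eq_top_of_prime_card hZ3 hz0
  obtain ⟨k, hk⟩ := Subgroup.mem_zpowers_iff.1
    (show (⟨⟨c, hc⟩, hcZ⟩ : Z) ∈ Subgroup.zpowers z0 by rw [hgen]; trivial)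
  have hz3 : z0 ^ (3 : ℤ) = 1 := by
    rw [show (3 : ℤ) = ((Nat.card Z : ℕ) : ℤ) by rw [hZ3]; rfl, zpow_natCast, pow_card_eq_one']
  have hz3' : z0 ^ 3 = 1 := by
    have := pow_card_eq_one' (x := z0)
    rwa [hZ3] at this
  have hk' : z0 ^ (k % 3) = (⟨⟨c, hc⟩, hcZ⟩ : Z) := by
    rw [← hk, ← zpow_mod_orderOf z0 k,
      orderOf_eq_prime (p := 3) hz3' hz0]
    rfl
  rcases (show k % 3 = 0 ∨ k % 3 = 1 ∨ k % 3 = 2 by omega) with e | e | e <;> rw [e] at hk'
  · rw [zpow_zero] at hk'
    exact Or.inl (congrArg (fun v : Z => ((v : (P : Subgroup G)) : G)) hk').symm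
  · rw [zpow_one] at hk'
    exact Or.inr (Or.inl (congrArg (fun v : Z => ((v : (P : Subgroup G)) : G)) hk').symm)
  · rw [show (2 : ℤ) = -1 + 3 by norm_num, zpow_add, hz3, mul_one, zpow_neg_one] at hk'
    exact Or.inr (Or.inr (congrArg (fun v : Z => ((v : (P : Subgroup G)) : G)) hk').symm)

/-- An element of order three with three-part twenty-seven is conjugate to a central one. -/
theorem conj_central (P : Sylow 3 G) {z : G}
    (hz : ∀ c ∈ (P : Subgroup G), (∀ x ∈ (P : Subgroup G), x * c = c * x) →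
      c = 1 ∨ c = z ∨ c = z⁻¹) {y : G} (hy : orderOf y = 3) (h27 : 27 ∣ Nat.card (cen y)) :
    IsConj y z ∨ IsConj y z⁻¹ := by
  haveI : Fact (Nat.Prime 3) := ⟨Nat.prime_three⟩
  obtain ⟨T0, hT0⟩ := Sylow.exists_subgroup_card_pow_prime (G := cen y) 3 (n := 3)
    (by simpa using h27)
  set T := T0.map (cen y).subtype with hT
  have hTc : Nat.card T = 27 := by
    rw [hT, Subgroup.card_map_of_injective (cen y).subtype_injective, hT0]; norm_num
  have hTy : T ≤ cen y := Subgroup.map_subtype_le _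
  obtain ⟨S, hS⟩ := (IsPGroup.of_card (n := 3) (show Nat.card T = 3 ^ 3 by rw [hTc]; norm_num)).exists_le_sylow
  have hTS : T = (S : Subgroup G) := Subgroup.eq_of_le_of_card_ge hS (by rw [hTc, F.card_P S])
  have hyS : y ∈ (S : Subgroup G) := by
    -- `y` centralises a Sylow subgroup, so lies in it
    have hn : y ∈ Subgroup.normalizer ((S : Subgroup G) : Set G) := by
      refine Subgroup.mem_normalizer_iff.2 fun x => ?_
      constructor
      · intro hx
        have := mem_cen.1 (hTy (hTS.symm ▸ hx : x ∈ T))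
        rwa [show y * x * y⁻¹ = x by rw [← this, mul_inv_cancel_right]]
      · intro hx
        have h := mem_cen.1 (hTy (hTS.symm ▸ hx : y * x * y⁻¹ ∈ T))
        have : y * x * y⁻¹ = x := by
          calc y * x * y⁻¹ = y⁻¹ * ((y * (y * x * y⁻¹))) * 1 := by group
            _ = y⁻¹ * ((y * x * y⁻¹) * y) := by rw [h, mul_one]
            _ = x := by group
        rwa [this] at hx
    have h : y ∈ Subgroup.zpowers y ⊓ Subgroup.normalizer (S : Set G) :=
      ⟨Subgroup.mem_zpowers y, hn⟩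
    rw [(IsPGroup.of_card (n := 1) (show Nat.card (Subgroup.zpowers y) = 3 ^ 1 by
      rw [Nat.card_zpowers, hy, pow_one])).inf_normalizer_sylow S] at h
    exact h.2
  obtain ⟨c, hc⟩ := MulAction.exists_smul_eq G S P
  have hmap : ∀ x ∈ (S : Subgroup G), c * x * c⁻¹ ∈ (P : Subgroup G) := fun x hx => by
    rw [← hc, Sylow.smul_def]
    exact Subgroup.mem_map_of_mem (MulAut.conj c).toMonoidHom hx
  have hsur : ∀ x ∈ (P : Subgroup G), ∃ w ∈ (S : Subgroup G), c * w * c⁻¹ = x := fun x hx => by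
    rw [← hc, Sylow.smul_def] at hx
    exact Subgroup.mem_map.1 hx
  have hne : c * y * c⁻¹ ≠ 1 := fun h => by
    have := ord_conj c y
    rw [h, hy, orderOf_one] at this
    omega
  rcases hz _ (hmap y hyS) (fun x hx => by
    obtain ⟨w, hw, rfl⟩ := hsur x hx
    rw [conj_mul, conj_mul, mem_cen.1 (hTy (hTS.symm ▸ hw : w ∈ T))]) with e | e | e
  · exact absurd e hne
  · exact Or.inl (isConj_iff.2 ⟨c, e⟩)
  · exact Or.inr (isConj_iff.2 ⟨c, e⟩)

theorem cent_eq_weight {y : G} {i k : ℕ} (hi : i ≤ 4) (hk : k = 2 ∨ k = 3)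
    (hC : Nat.card (cen y) = 2 ^ i * 3 ^ k) :
    95040 / Nat.card (cen y) = 55 * (2 ^ (6 - i) * if k = 2 then 3 else 1) := by
  rw [hC]
  rcases hk with rfl | rfl <;> interval_cases i <;> norm_num

/-- The local structure at the prime three. -/
theorem to_local : Local G := by
  classical
  haveI : Fact (Nat.Prime 3) := ⟨Nat.prime_three⟩
  haveI := Fintype.ofFinite G
  obtain ⟨P⟩ : Nonempty (Sylow 3 G) := inferInstance
  obtain ⟨z, hzP, hz, hzc, hzu⟩ := F.exists_center P
  have hz27 : 27 ∣ Nat.card (cen z) :=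
    F.card_P P ▸ Subgroup.card_dvd_of_le fun x hx => mem_cen.2 (hzc x hx)
  have inv_k : ∀ {y : G} {i k : ℕ}, Nat.card (cen y) = 2 ^ i * 3 ^ k → (k = 2 ∨ k = 3) →
      (27 ∣ Nat.card (cen y) ↔ k = 3) := by
    intro y i k hC hk
    rw [hC]
    constructor
    · intro h
      rcases hk with rfl | rfl
      · have := Nat.Coprime.dvd_of_dvd_mul_left
          (Nat.Coprime.pow_right i (show Nat.Coprime 27 2 by norm_num)) h
        norm_num at this
      · rfl
    · rintro rfl; exact dvd_mul_left _ _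
  obtain ⟨iz, kz, hiz, hkz, hCz, hz3, hz2, hzle⟩ := F.cent_three hz
  obtain rfl := (inv_k hCz hkz).1 hz27
  rw [show (3 : ℕ) ^ (3 - 1) = 9 by norm_num] at hzle
  set cls := (Finset.univ.filter fun y : G => orderOf y = 3).image ConjClasses.mk with hcls
  have hout : ∀ c ∈ cls, orderOf (Quotient.out c) = 3 := by
    intro c hc
    obtain ⟨y, hy, rfl⟩ := Finset.mem_image.1 hc
    obtain ⟨g, hg⟩ := isConj_iff.1 (ConjClasses.mk_eq_mk_iff_isConj.1
      (show ConjClasses.mk y = ConjClasses.mk (Quotient.out (ConjClasses.mk y)) from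
        (Quotient.out_eq (ConjClasses.mk y)).symm))
    rw [← hg, ord_conj]; exact (Finset.mem_filter.1 hy).2
  have hzconj : ∀ y : G, IsConj y z ∨ IsConj y z⁻¹ →
      Nat.card (cen y) = 2 ^ iz * 3 ^ 3 ∧ nI y = nI z := by
    rintro y (h | h) <;> obtain ⟨g, hg⟩ := isConj_iff.1 h
    · exact ⟨by rw [← card_cen_conj g y, hg, hCz], by rw [← nI_conj g y, hg]⟩
    · exact ⟨by rw [← card_cen_conj g y, hg, cen_inv, hCz], by rw [← nI_conj g y, hg, nI_inv]⟩
  set cls3 : Finset (ConjClasses G) :=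
    cls.filter fun c : ConjClasses G => 27 ∣ Nat.card (cen (Quotient.out c)) with hcls3
  set cls2 : Finset (ConjClasses G) :=
    cls.filter fun c : ConjClasses G => ¬ 27 ∣ Nat.card (cen (Quotient.out c)) with hcls2
  have h3eq : cls3 = {ConjClasses.mk z, ConjClasses.mk z⁻¹} := by
    ext c
    rw [hcls3, Finset.mem_filter, Finset.mem_insert, Finset.mem_singleton]
    constructor
    · rintro ⟨hc, h27⟩
      rcases F.conj_central P hzu (hout c hc) h27 with h | h
      · exact Or.inl ((Quotient.out_eq c).symm.trans (ConjClasses.mk_eq_mk_iff_isConj.2 h))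
      · exact Or.inr ((Quotient.out_eq c).symm.trans (ConjClasses.mk_eq_mk_iff_isConj.2 h))
    · intro h
      have hc : c ∈ cls := by
        rcases h with rfl | rfl <;>
          exact Finset.mem_image_of_mem _ (Finset.mem_filter.2 ⟨Finset.mem_univ _, by simp [hz]⟩)
      refine ⟨hc, ?_⟩
      have : IsConj (Quotient.out c) z ∨ IsConj (Quotient.out c) z⁻¹ := by
        rcases h with e | e
        · exact Or.inl (ConjClasses.mk_eq_mk_iff_isConj.1 ((Quotient.out_eq c).trans e))
        · exact Or.inr (ConjClasses.mk_eq_mk_iff_isConj.1 ((Quotient.out_eq c).trans e))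
      rw [(hzconj _ this).1]
      exact dvd_mul_left _ _
  have hz_out : ∀ c ∈ cls3, Nat.card (cen (Quotient.out c)) = 2 ^ iz * 3 ^ 3 ∧
      nI (Quotient.out c) = nI z := fun c hc =>
    hzconj _ (F.conj_central P hzu (hout c (Finset.mem_filter.1 hc).1) (Finset.mem_filter.1 hc).2)
  choose! fi fk hf using fun c (hc : c ∈ cls) => F.cent_three (hout c hc)
  have hk2 : ∀ c ∈ cls2, fk c = 2 := by
    intro c hc
    obtain ⟨hc1, hc2⟩ := Finset.mem_filter.1 hc
    obtain ⟨-, hk, hC, -⟩ := hf c hc1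
    exact hk.resolve_right fun h => hc2 ((inv_k hC hk).2 h)
  let item : ConjClasses G → ℕ × ℕ := fun c =>
    (2 ^ (6 - fi c) * 3, 2 ^ (6 - fi c) * 3 * nI (Quotient.out c))
  have split : ∀ f : G → ℕ, (∀ g y, f (g * y * g⁻¹) = f y) → f z⁻¹ = f z →
      ∑ y ∈ Finset.univ.filter (fun y : G => orderOf y = 3), f y =
        55 * (cls3.card * (2 ^ (6 - iz) * f z) +
          ∑ c ∈ cls2, 2 ^ (6 - fi c) * 3 * f (Quotient.out c)) := by
    intro f hfc hfz
    rw [F.sum_three f hfc, ← hcls,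
      ← Finset.sum_filter_add_sum_filter_not cls
        (fun c => 27 ∣ Nat.card (cen (Quotient.out c))), ← hcls3, ← hcls2, mul_add,
      Finset.mul_sum]
    congr 1
    · rw [Finset.sum_const_nat (m := 55 * (2 ^ (6 - iz) * f z)) fun c hc => ?_]
      · ring
      obtain ⟨hC, -⟩ := hz_out c hc
      rw [F.cent_eq_weight hiz (Or.inr rfl) hC, if_neg (by norm_num), mul_one, mul_assoc]
      congr 2
      rcases F.conj_central P hzu (hout c (Finset.mem_filter.1 hc).1) (Finset.mem_filter.1 hc).2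
        with h | h <;> obtain ⟨g, hg⟩ := isConj_iff.1 h
      · rw [← hfc g, hg]
      · rw [← hfc g, hg, hfz]
    · refine Finset.sum_congr rfl fun c hc => ?_
      obtain ⟨hi, hk, hC, -⟩ := hf c (Finset.mem_filter.1 hc).1
      rw [F.cent_eq_weight hi hk hC, if_pos (hk2 c hc)]
      ring
  have hcnt : (Finset.univ.filter fun y : G => orderOf y = 3).card = 4400 := by
    rw [← F.c3, cnt, Nat.card_eq_fintype_card, Fintype.card_subtype]
  have h80 := split (fun _ => 1) (fun _ _ => rfl) rfl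
  rw [← Finset.card_eq_sum_ones, hcnt] at h80
  simp only [mul_one] at h80
  have h432 := split nI (fun g y => nI_conj g y) (nI_inv z)
  rw [F.sum_nI] at h432
  have he : cls3.card ∈ [1, 2] := by
    have h1 : cls3.card ≤ 2 := by rw [h3eq]; exact Finset.card_le_two
    have h2 : 0 < cls3.card := Finset.card_pos.2 ⟨ConjClasses.mk z, by rw [h3eq]; simp⟩
    simp only [List.mem_cons, List.not_mem_nil, or_false]
    omega
  set e := cls3.card with he'
  have hsum1 : (∑ c ∈ cls2, item c).1 = ∑ c ∈ cls2, 2 ^ (6 - fi c) * 3 := Prod.fst_sum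
  have hsum2 : (∑ c ∈ cls2, item c).2 = ∑ c ∈ cls2, 2 ^ (6 - fi c) * 3 * nI (Quotient.out c) :=
    Prod.snd_sum
  have hrng : ∀ c ∈ cls2, fi c ∈ List.range 5 ∧ nI (Quotient.out c) ∈ List.range 46 ∧
      nI (Quotient.out c) % 3 = 0 ∧ 2 ^ fi c ∣ nI (Quotient.out c) + 1 ∧
      nI (Quotient.out c) ≤ 3 * (2 ^ fi c - 1) := by
    intro c hc
    obtain ⟨hi, -, -, h3, h2, hle⟩ := hf c (Finset.mem_filter.1 hc).1
    rw [hk2 c hc, show (3 : ℕ) ^ (2 - 1) = 3 by norm_num] at hle
    have : 2 ^ fi c ≤ 2 ^ 4 := Nat.pow_le_pow_right (by norm_num) hi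
    exact ⟨List.mem_range.2 (by omega), List.mem_range.2 (by omega), h3, h2, hle⟩
  have hitem : ∀ c ∈ cls2, item c ∈ optsNa := by
    intro c hc
    obtain ⟨hi, hI, h3, h2, hle⟩ := hrng c hc
    refine (optsNa_mem _ hi _ hI h3 h2 hle ?_).1
    have := Finset.single_le_sum (f := fun c : ConjClasses G => 2 ^ (6 - fi c) * 3) (fun _ _ => Nat.zero_le _) hc
    omega
  have hmem := sum_mem reachNa optsNa (fun s => s.1 ≤ 80 ∧ s.2 ≤ 432) reachNa_closed.1
    (fun a b h => ⟨le_trans (Nat.le_add_right _ _) h.1, le_trans (Nat.le_add_right _ _) h.2⟩)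
    reachNa_closed.2 item cls2 hitem ⟨by rw [hsum1]; omega, by rw [hsum2]; omega⟩
  have hIz : nI z ∈ List.range 136 := by
    have : 2 ^ iz ≤ 2 ^ 4 := Nat.pow_le_pow_right (by norm_num) hiz
    exact List.mem_range.2 (by omega)
  obtain ⟨rfl, hI9, he1, hs⟩ := reachNa_final iz (List.mem_range.2 (by omega)) (nI z) hIz hz3 hz2
    hzle _ hmem e he (by rw [hsum1]; omega) (by rw [hsum2]; omega)
  have hcls2 : ∀ c ∈ cls2, fi c = 2 ∧ nI (Quotient.out c) = 3 := by
    intro c hc
    obtain ⟨hi, hI, h3, h2, hle⟩ := hrng c hc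
    have h1 := Finset.single_le_sum (f := fun c : ConjClasses G => 2 ^ (6 - fi c) * 3) (fun _ _ => Nat.zero_le _) hc
    have h2' := Finset.single_le_sum (f := fun c : ConjClasses G => 2 ^ (6 - fi c) * 3 * nI (Quotient.out c))
      (fun _ _ => Nat.zero_le _) hc
    rw [← hsum1, hs] at h1
    rw [← hsum2, hs] at h2'
    exact (optsNa_mem _ hi _ hI h3 h2 hle (le_trans h1 (by norm_num))).2 h1 h2'
  have hcard2 : ∀ c ∈ cls2, Nat.card (cen (Quotient.out c)) = 36 := by
    intro c hc
    obtain ⟨-, -, hC, -⟩ := hf c (Finset.mem_filter.1 hc).1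
    rw [hC, hk2 c hc, (hcls2 c hc).1]; norm_num
  have three : ∀ y : G, orderOf y = 3 → (Nat.card (cen y) = 54 ∧ nI y = 9) ∨
      (Nat.card (cen y) = 36 ∧ nI y = 3) := by
    intro y hy
    set c := ConjClasses.mk y with hc'
    have hc : c ∈ cls := Finset.mem_image_of_mem _ (Finset.mem_filter.2 ⟨Finset.mem_univ _, hy⟩)
    obtain ⟨g, hg⟩ := isConj_iff.1 (ConjClasses.mk_eq_mk_iff_isConj.1
      (show ConjClasses.mk (Quotient.out c) = ConjClasses.mk y from Quotient.out_eq c))
    rw [← hg, card_cen_conj, nI_conj]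
    by_cases h : 27 ∣ Nat.card (cen (Quotient.out c))
    · obtain ⟨hC, hI⟩ := hz_out c (Finset.mem_filter.2 ⟨hc, h⟩)
      exact Or.inl ⟨hC.trans (by norm_num), hI.trans hI9⟩
    · have hc2 : c ∈ cls2 := Finset.mem_filter.2 ⟨hc, h⟩
      exact Or.inr ⟨hcard2 c hc2, (hcls2 c hc2).2⟩
  refine ⟨three, ?_, ?_⟩
  · rw [Nat.card_eq_fintype_card, Fintype.card_subtype, ← Finset.filter_filter,
      Finset.card_filter, split (fun y => if Nat.card (cen y) = 36 then 1 else 0)
      (fun g y => by simp only [card_cen_conj]) (by simp only [cen_inv])]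
    rw [if_neg (by rw [hCz]; norm_num), Finset.sum_congr rfl fun c hc => by
      rw [if_pos (hcard2 c hc), mul_one]]
    rw [← hsum1, hs]
    omega
  intro a ha h9
  haveI : Fact (Nat.Prime 2) := ⟨Nat.prime_two⟩
  obtain ⟨A0, hA0⟩ := Sylow.exists_subgroup_card_pow_prime (G := cen a) 3 (n := 2)
    (show 3 ^ 2 ∣ Nat.card (cen a) from h9)
  set A := A0.map (cen a).subtype with hA
  have hAc : Nat.card A = 9 := by
    rw [hA, Subgroup.card_map_of_injective (cen a).subtype_injective, hA0]; norm_num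
  have hAa : A ≤ cen a := Subgroup.map_subtype_le _
  obtain ⟨T, hT⟩ := (IsPGroup.of_card (n := 2)
    (show Nat.card A = 3 ^ 2 by rw [hAc]; norm_num)).exists_le_sylow
  obtain ⟨z', hz'T, hz', hz'c, -⟩ := F.exists_center T
  have hz'A : z' ∈ A := by
    by_contra hn
    refine F.not_abelian T ?_
    have hAcomm : ∀ u ∈ A, ∀ v ∈ A, u * v = v * u := by
      intro u hu v hv
      have := IsPGroup.commutative_of_card_eq_prime_sq (p := 3)
        (show Nat.card A = 3 ^ 2 by rw [hAc]; norm_num) ⟨u, hu⟩ ⟨v, hv⟩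
      exact congrArg Subtype.val this
    set K := A ⊔ Subgroup.zpowers z' with hK
    have hKT : K ≤ (T : Subgroup G) := sup_le hT (Subgroup.zpowers_le.2 hz'T)
    have hKeq : K = (T : Subgroup G) := by
      refine Subgroup.eq_of_le_of_card_ge hKT ?_
      have hd := Subgroup.card_dvd_of_le hKT
      have hd' := Subgroup.card_dvd_of_le (show A ≤ K from le_sup_left)
      rw [F.card_P T] at hd ⊢
      rw [hAc] at hd'
      obtain ⟨r, -, hr⟩ := (Nat.dvd_prime_pow Nat.prime_three).1 (show _ ∣ 3 ^ 3 from hd)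
      have hne : Nat.card K ≠ 9 := fun h => hn (by
        rw [Subgroup.eq_of_le_of_card_ge (show A ≤ K from le_sup_left) (by rw [hAc, h])]
        exact (le_sup_right : _ ≤ K) (Subgroup.mem_zpowers z'))
      rw [hr] at hd' hne ⊢
      have h2 : 2 ≤ r := (Nat.pow_dvd_pow_iff_le_right (show 1 < 3 by norm_num)).1 hd'
      have : r ≠ 2 := fun h => hne (by rw [h]; norm_num)
      exact le_of_eq_of_le (by norm_num) (Nat.pow_le_pow_right (by norm_num) (show 3 ≤ r by omega))
    have h1 : K ≤ Subgroup.centralizer (K : Set G) := by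
      have hK1 : K ≤ Subgroup.centralizer (A : Set G) := by
        refine sup_le (fun u hu => Subgroup.mem_centralizer_iff.2 fun v hv => hAcomm v hv u hu)
          (Subgroup.zpowers_le.2 (Subgroup.mem_centralizer_iff.2 fun v hv => hz'c v (hT hv)))
      refine sup_le (fun u hu => Subgroup.mem_centralizer_iff.2 fun v hv =>
          ((Subgroup.mem_centralizer_iff.1 (hK1 hv)) u hu).symm)
        (Subgroup.zpowers_le.2 (Subgroup.mem_centralizer_iff.2 fun v hv => hz'c v (hKT hv)))
    rw [hKeq] at h1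
    exact ⟨⟨fun u v => Subtype.ext (Subgroup.mem_centralizer_iff.1 (h1 v.2) u u.2)⟩⟩
  have h27 : 27 ∣ Nat.card (cen z') :=
    F.card_P T ▸ Subgroup.card_dvd_of_le fun x hx => mem_cen.2 (hz'c x hx)
  obtain ⟨h54, hnI⟩ := (three z' hz').resolve_right fun h => by rw [h.1] at h27; norm_num at h27
  have haz : a * z' = z' * a := (mem_cen.1 (hAa hz'A)).symm
  set a' : cen z' := ⟨a, mem_cen.2 haz⟩ with ha'
  set R := Subgroup.centralizer ({a'} : Set (cen z')) with hR
  have hS : ∀ S : Sylow 2 (cen z'), Nat.card (S : Subgroup (cen z')) ≤ 2 := fun S => by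
    obtain ⟨n, hn⟩ := IsPGroup.iff_card.1 S.2
    have hd := (S : Subgroup (cen z')).card_subgroup_dvd_card
    rw [hn, h54] at hd
    rw [hn]
    rcases n with _ | _ | n
    · norm_num
    · norm_num
    · exfalso
      have : 4 ∣ 54 := dvd_trans ⟨2 ^ n, by ring⟩ hd
      norm_num at this
  have hsyl : ∀ b : cen z', orderOf b = 2 → ∃ S : Sylow 2 (cen z'),
      (S : Subgroup (cen z')) = Subgroup.zpowers b := fun b hb => by
    have hc : Nat.card (Subgroup.zpowers b) = 2 ^ 1 := by rw [Nat.card_zpowers, hb, pow_one]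
    obtain ⟨S, hS'⟩ := (IsPGroup.of_card hc).exists_le_sylow
    exact ⟨S, (Subgroup.eq_of_le_of_card_ge hS' (by rw [hc]; exact hS S)).symm⟩
  have hidx : 9 ≤ R.index := by
    rw [hR, ← CfsgLib.Base.Solutions.card_conjClass a', ← hnI]
    refine Nat.card_le_card_of_injective (fun b => ⟨⟨b.1, mem_cen.2 b.2.2⟩, ?_⟩)
      fun b c h => Subtype.ext (congrArg (fun q => ((q.1 : cen z') : G)) h :)
    rw [ConjClasses.mem_carrier_iff_mk_eq, ConjClasses.mk_eq_mk_iff_isConj]
    have ho : orderOf (⟨b.1, mem_cen.2 b.2.2⟩ : cen z') = 2 := by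
      rw [← Subgroup.orderOf_coe]; exact b.2.1
    have hoa : orderOf a' = 2 := by rw [← Subgroup.orderOf_coe]; exact ha
    obtain ⟨Sb, hSb⟩ := hsyl _ ho
    obtain ⟨Sa, hSa⟩ := hsyl _ hoa
    obtain ⟨g, hg⟩ := MulAction.exists_smul_eq (cen z') Sb Sa
    have : g * ⟨b.1, mem_cen.2 b.2.2⟩ * g⁻¹ ∈ Subgroup.zpowers a' := by
      rw [← hSa, ← hg, Sylow.smul_def]
      exact Subgroup.mem_map_of_mem (MulAut.conj g).toMonoidHom (hSb.symm ▸ Subgroup.mem_zpowers _)
    obtain ⟨k, hk, hk'⟩ := mem_zpowers_iff_mem_range_orderOf.1 this |> Finset.mem_image.1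
    rw [Finset.mem_range, hoa] at hk
    refine isConj_iff.2 ⟨g, ?_⟩
    rcases (show k = 0 ∨ k = 1 by omega) with rfl | rfl
    · exfalso
      rw [pow_zero] at hk'
      have := ord_conj g (⟨b.1, mem_cen.2 b.2.2⟩ : cen z')
      rw [← hk', orderOf_one, ho] at this
      omega
    · rw [pow_one] at hk'; exact hk'.symm
  have hR2 : 2 ∣ Nat.card R := by
    have := R.orderOf_dvd_natCard (show a' ∈ R from Subgroup.mem_centralizer_singleton_iff.2 rfl)
    rwa [← Subgroup.orderOf_coe, ha] at this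
  have hR9 : 9 ∣ Nat.card R := by
    have hAz : A ≤ cen z' := fun u hu => mem_cen.2 (hz'c u (hT hu))
    rw [← hAc, ← Nat.card_congr (Subgroup.subgroupOfEquivOfLe hAz).toEquiv]
    refine Subgroup.card_dvd_of_le fun u hu => Subgroup.mem_centralizer_singleton_iff.2
      (Subtype.ext (mem_cen.1 (hAa hu)))
  have h18 : 18 ≤ Nat.card R := Nat.le_of_dvd Nat.card_pos
    (Nat.Coprime.mul_dvd_of_dvd_of_dvd (show Nat.Coprime 2 9 by norm_num) hR2 hR9)
  have := R.card_mul_index
  rw [h54] at this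
  have := Nat.mul_le_mul h18 hidx
  omega

end Facts

end CfsgLib.M12Nse
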